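import Cfsg.Agent.SB.Low.Model_m3
import Cfsg.Agent.Prune
set_option linter.all false
prune_inst 0x7f00000000000000000000000000000000000000000000000000000000000000000000000000000000000000000000000000000000000000000000000000000000000000000000000000000000000000003fffffffffffffffffffffffffffbeffbdffffffff
open scoped Cfsg.Agent.FastGrp

/-!
# N2 (S3519), `³D₄(q)`, box [Why]: the finite checks (helper75)
-/

set_option autoImplicit false

namespace Cfsg.Agent.N2.G2.Wy

open Cfsg.Agent.SB.Low.Tab.D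

/-- small integers -/
def sm : List ℤ := [0, 1, -1, 2, -2, 3, -3]

private noncomputable def fz (x : ℤ) (k : ℤ → Bool) : Bool :=
  Int.rec (fun n => Nat.rec (k (Int.ofNat 0)) (fun m _ => k (Int.ofNat (Nat.succ m))) n)
    (fun n => Nat.rec (k (Int.negSucc 0)) (fun m _ => k (Int.negSucc (Nat.succ m))) n) x

private theorem fz_eq (x : ℤ) (k : ℤ → Bool) : fz x k = k x := by
  rcases x with (_ | _) | (_ | _) <;> rfl

private noncomputable def f4 (x : T4) (k : T4 → Bool) : Bool :=
  fz x.1 fun a => fz x.2.1 fun b => fz x.2.2.1 fun c => fz x.2.2.2 fun d => k (a, b, c, d)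

private theorem f4_eq (x : T4) (k : T4 → Bool) : f4 x k = k x := by
  rw [f4, fz_eq, fz_eq, fz_eq, fz_eq]

private noncomputable def fM (m : M4) (k : (T4 → T4) → Bool) : Bool :=
  fz m.1.1 fun a0 => fz m.1.2.1 fun a1 => fz m.1.2.2.1 fun a2 => fz m.1.2.2.2 fun a3 =>
  fz m.2.1.1 fun b0 => fz m.2.1.2.1 fun b1 => fz m.2.1.2.2.1 fun b2 => fz m.2.1.2.2.2 fun b3 =>
  fz m.2.2.1.1 fun c0 => fz m.2.2.1.2.1 fun c1 => fz m.2.2.1.2.2.1 fun c2 => fz m.2.2.1.2.2.2 fun c3 =>
  fz m.2.2.2.1 fun d0 => fz m.2.2.2.2.1 fun d1 => fz m.2.2.2.2.2.1 fun d2 => fz m.2.2.2.2.2.2 fun d3 =>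
  k fun x => (Int.add (Int.add (Int.add (Int.mul x.1 a0) (Int.mul x.2.1 b0)) (Int.mul x.2.2.1 c0)) (Int.mul x.2.2.2 d0),
    Int.add (Int.add (Int.add (Int.mul x.1 a1) (Int.mul x.2.1 b1)) (Int.mul x.2.2.1 c1)) (Int.mul x.2.2.2 d1),
    Int.add (Int.add (Int.add (Int.mul x.1 a2) (Int.mul x.2.1 b2)) (Int.mul x.2.2.1 c2)) (Int.mul x.2.2.2 d2),
    Int.add (Int.add (Int.add (Int.mul x.1 a3) (Int.mul x.2.1 b3)) (Int.mul x.2.2.1 c3)) (Int.mul x.2.2.2 d3))

private theorem fM_eq (m : M4) (k : (T4 → T4) → Bool) : fM m k = k (ap m) := by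
  simp only [fM, fz_eq]
  rfl

private noncomputable def inL (a b v : T4) : Bool :=
  fz ((2 * ip v a + ip v b) / 3) fun i => fz ((ip v a + 2 * ip v b) / 3) fun j =>
    v == i • a + j • b && (sm.contains i && sm.contains j)

private theorem inL_spec {a b v : T4} (h : inL a b v = true) :
    (sm.any fun i => sm.any fun j => v == i • a + j • b) = true := by
  rw [inL, fz_eq, fz_eq, Bool.and_eq_true, Bool.and_eq_true, List.contains_iff_mem, List.contains_iff_mem] at h
  exact List.any_eq_true.2 ⟨_, h.2.1, List.any_eq_true.2 ⟨_, h.2.2, h.1⟩⟩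

private noncomputable def pA (θ : T4 → T4) (a b : T4) : Bool :=
  [r18, r14, r13, r12].all fun x => [1, -1].any fun e : ℤ => f4 (θ (θ x) + e • θ x + x) (inL a b)

private theorem pA_spec {m : M4} {a b : T4} (h : pA (ap m) a b = true) :
    ([r18, r14, r13, r12].all fun x => [1, -1].any fun e : ℤ => sm.any fun i => sm.any fun j =>
      ap m (ap m x) + e • ap m x + x == i • a + j • b) = true :=
  List.all_eq_true.2 fun x hx => by
    obtain ⟨e, h1, h2⟩ := List.any_eq_true.1 (List.all_eq_true.1 h x hx)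
    exact List.any_eq_true.2 ⟨e, h1, inL_spec ((f4_eq _ _).symm.trans h2)⟩

private noncomputable def fA (θ : T4 → T4) (a : T4) : Bool := f4 (θ a) fun t =>
  cond (t == a) (RL.all fun b => ip b a != -1 || (θ b != b || pA θ a b)) (ip t a != -1 || (θ t != a || pA θ a t))

private theorem fA_true : (WL.all fun m => fM (tm m) fun θ => RL.all (fA θ)) = true := by decide +kernel

theorem chk_A : (WL.all fun m => RL.all fun a => RL.all fun b => ip b a != -1 ||
    !((ap (tm m) a == a && ap (tm m) b == b) || (ap (tm m) a == b && ap (tm m) b == a)) ||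
    [r18, r14, r13, r12].all fun x => [1, -1].any fun e : ℤ => sm.any fun i => sm.any fun j =>
      ap (tm m) (ap (tm m) x) + e • ap (tm m) x + x == i • a + j • b) = true := by
  refine List.all_eq_true.2 fun m hm => List.all_eq_true.2 fun a ha => List.all_eq_true.2 fun b hb => ?_
  have h := List.all_eq_true.1 ((fM_eq _ _).symm.trans (List.all_eq_true.1 fA_true m hm)) a ha
  generalize tm m = m at h ⊢
  rw [fA, f4_eq] at h
  rw [Bool.or_eq_true, Bool.or_eq_true, or_assoc, or_iff_not_imp_left, or_iff_not_imp_left, Bool.not_eq_true',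
    Bool.not_eq_false, Bool.or_eq_true, Bool.and_eq_true, Bool.and_eq_true, beq_iff_eq, beq_iff_eq, beq_iff_eq,
    beq_iff_eq]
  intro h1 h2
  refine pA_spec ?_
  by_cases e : ap m a = a
  · rw [beq_iff_eq.2 e, cond_true] at h
    have h3 := List.all_eq_true.1 h b hb
    rw [Bool.or_eq_true, Bool.or_eq_true, bne_iff_ne (a := ap m b)] at h3
    refine (h3.resolve_left h1).resolve_left (not_not.2 ?_)
    rcases h2 with h2 | h2
    · exact h2.2
    · rw [← h2.1, e, e]
  · rw [beq_eq_false_iff_ne.2 e, cond_false, Bool.or_eq_true, Bool.or_eq_true, bne_iff_ne (a := ap m _)] at h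
    have h3 := h2.resolve_left fun h4 => e h4.1
    rw [h3.1] at h
    exact (h.resolve_left h1).resolve_left (not_not.2 h3.2)

private noncomputable def qB (a c t u : T4) : Bool := RL.all fun b =>
  (ip b a != 0 || [c, -c, t, -t, u, -u].contains b) &&
    (ip b a == 0 || [a, -a].contains b || ([1, -1].contains (ip b c) && [1, -1].contains (ip b t) &&
      [1, -1].contains (ip b u)))

private noncomputable def fB (θ : T4 → T4) (c : T4) : Bool := f4 (θ c) fun t => ip t c != 0 || f4 (θ t) fun u =>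
  RL.any fun a => (ip c a == 0 && ip t a == 0 && ip u a == 0) && ((θ a == a || θ a == -a) && qB a c t u)

private theorem fB_true : (WL.all fun m => fM (tm m) fun θ => RL.all (fB θ)) = true := by decide +kernel

theorem chk_B : (WL.all fun m => RL.all fun c => ip (ap (tm m) c) c != 0 || RL.any fun a =>
    (ap (tm m) a == a || ap (tm m) a == -a) && RL.all fun b =>
      (ip b a != 0 || [c, -c, ap (tm m) c, -ap (tm m) c, ap (tm m) (ap (tm m) c), -ap (tm m) (ap (tm m) c)].contains b) &&
      (ip b a == 0 || [a, -a].contains b || ([1, -1].contains (ip b c) && [1, -1].contains (ip b (ap (tm m) c)) &&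
        [1, -1].contains (ip b (ap (tm m) (ap (tm m) c))))) &&
      (ip c a == 0 && ip (ap (tm m) c) a == 0 && ip (ap (tm m) (ap (tm m) c)) a == 0)) = true := by
  refine List.all_eq_true.2 fun m hm => List.all_eq_true.2 fun c hc => ?_
  have h := List.all_eq_true.1 ((fM_eq _ _).symm.trans (List.all_eq_true.1 fB_true m hm)) c hc
  generalize tm m = m at h ⊢
  rw [fB, f4_eq, f4_eq, Bool.or_eq_true] at h
  rw [Bool.or_eq_true]
  refine h.imp_right fun h1 => ?_
  obtain ⟨a, h2, h3⟩ := List.any_eq_true.1 h1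
  obtain ⟨h4, h5⟩ := Bool.and_eq_true_iff.1 h3
  obtain ⟨h5, h6⟩ := Bool.and_eq_true_iff.1 h5
  exact List.any_eq_true.2 ⟨a, h2, Bool.and_eq_true_iff.2 ⟨h5, List.all_eq_true.2 fun b hb =>
    Bool.and_eq_true_iff.2 ⟨List.all_eq_true.1 h6 b hb, h4⟩⟩⟩

end Cfsg.Agent.N2.G2.Wy
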