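import Cfsg.Agent.N2.Cl.SzG.Main_m3
import Cfsg.Agent.TH.Ex.Ab.Defs_m3
import Cfsg.Agent.N2.Cl.Ten.Main_m3
import Cfsg.Agent.FP3.Aff.Scott
import Cfsg.Agent.N2.Ex.K.Tor_m3
import Cfsg.Agent.N2.Cl.FrSp.Num_m3
import Cfsg.Agent.TitsThree.KExcBase
import Cfsg.Agent.OddCyclic.ClaimC.SzIso
import Cfsg.Agent.Lib.FinFast
import Cfsg.Agent.N2.Ex.Mu.PUa_m3
import Cfsg.Agent.H169.RG.Toral
import Cfsg.Agent.TH.Sv.ClDat_m3
import Mathlib
import Cfsg.Agent.N2.C1.L_mg_m3
import Cfsg.Agent.SB.Tor.Refl_m3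
import Cfsg.Agent.DS.Cl.Inv_m3
import Cfsg.Agent.S0256
import Cfsg.Agent.S0822
import Cfsg.Agent.TH.Cl.FldSO.Main_m3
import Cfsg.Agent.H875.KB.Gen
import Cfsg.Agent.H62.PCGeo
import Cfsg.Agent.N2.Cl.RAlt.Tri_m3
import Cfsg.Agent.FastGrp
import Cfsg.Agent.Prune
set_option linter.all false

section
prune_inst 0x7f00000000000000000000000000000000000000000000000000000000000000000000000000000000000000000000000000000000000000000000000000000000000000000000000000000000000000003fffffffffffffffffffffffffffaaffbdffffffff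

section
prune_inst 0xfeecf9abb8addfdfff7e7fa698cffc39909fffa6dff94b3fe021ef2bdf23000dc12b8509e000fc0f82421400b87803b97ecf7fe26bd87ffffd1df41ffbee0fe5f6b508511488340fbc0ff603f0778e7f000000000000000000000000000000000200000000

-- part: N2/Cl/Par/Main
section
prune_inst 0x14000000000000
set_option linter.all false
open scoped Cfsg.Agent.FastGrp

/-!
# N2 (S3519), classical socles: the class `pPar` (helper60)

A stabiliser of a totally singular subspace has a non-trivial normal `p`-subgroup.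
-/

set_option autoImplicit false

namespace Cfsg.Agent.N2C

open Cfsg Cfsg.Agent.DS.Cl Cfsg.Agent.DS.Cl.Fwd Cfsg.Agent.SB.Cl Module
open Cfsg.Agent.TH.Cl (ParD KL KU KSp KO)
open Cfsg.Agent.TH.Cl.Cases (PC UR_cube pow_eq_one_of_cube par_LR par_U par_Sp par_O)

namespace Par

variable {A : Type} [Ring A] [StarRing A] {F : FR A} {H : Subgroup (RingAut A)} {p : ℕ}

/-- `O_p(H ⊓ F.S) = 1` -/
theorem eq_bot_of_isPGroup (c : Ctx F H p) {N : Subgroup (RingAut A)} (hN : N ≤ H ⊓ F.S)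
    (hn : ∀ a ∈ H ⊓ F.S, ∀ x ∈ N, a * x * a⁻¹ ∈ N) (hp : IsPGroup p N) : N = ⊥ := by
  let f : H.subgroupOf F.S →* RingAut A := F.S.subtype.comp (H.subgroupOf F.S).subtype
  have hf : Function.Injective f := Subtype.val_injective.comp Subtype.val_injective
  have h1 : N.comap f ≤ pCore p ↥(H.subgroupOf F.S) :=
    le_sSup ⟨⟨fun x hx a => hn _ ⟨a.2, a.1.2⟩ _ hx⟩, hp.comap_of_injective f hf⟩
  rw [c.op, le_bot_iff] at h1
  refine eq_bot_iff.2 fun x hx => ?_
  have h2 : (⟨⟨x, (hN hx).2⟩, (hN hx).1⟩ : H.subgroupOf F.S) ∈ N.comap f := hx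
  rw [h1, Subgroup.mem_bot] at h2
  exact congrArg f h2

variable [Finite A]

theorem exists_pc (c : Ctx F H p) (h : ParD F H) :
    ∃ e, Hyp F e ∧ e ≠ 0 ∧ (¬ ∀ a, e * a * (1 - e) = 0) ∧ PC F e := by
  obtain ⟨R, h0, hinv, h1, h2, h3⟩ := h
  have := c.ss.nontrivial
  obtain ⟨e, heR, he, hR⟩ := exists_hyp c.ss F h1 h2
  have hS : ¬ Inv F.S R := fun h4 => h3 (FR.two_of_S c.span h4)
  have hN : (UR F R).map (cj A) ⊓ F.S = ⊥ := by
    refine eq_bot_of_isPGroup c (fun γ hγ => ⟨c.mem_of_inv hinv hS hγ.2 fun x hx => (cj_UR_stab hγ.1 x).1 hx, hγ.2⟩)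
      (fun a ha x hx => ⟨conj_mem_UR (c.le ha.1) (le_setStab hinv ha.1) hx.1, FR.conj_mem_S (c.le ha.1) hx.2⟩) ?_
    rintro ⟨_, ⟨u, hu, rfl⟩, hs⟩
    refine ⟨2, Subtype.ext ?_⟩
    change cj A u ^ p ^ 2 = 1
    rw [← map_pow, pow_eq_one_of_cube c.prime c.char (UR_cube hu), map_one]
  refine ⟨e, he, fun e0 => h0 (eq_bot_iff.2 fun x hx => by rw [← hR x hx, e0, mul_zero]; exact Ideal.zero_mem _),
    fun h4 => h3 fun x hx a => ?_, fun g hg u hu a1 a2 a3 => ?_⟩
  · have h5 := h4 a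
    rw [mul_sub, mul_one, sub_eq_zero] at h5
    rw [← hR x hx, mul_assoc, h5, ← mul_assoc]
    exact R.mul_mem_left _ heR
  have hu' : u ∈ UR F R := by
    refine ⟨hu, fun r hr => ?_, fun x hx => ?_⟩
    · rw [mul_sub, mul_one, sub_eq_zero] at a2
      rw [← hR r hr, mul_assoc, a2]
    · have h4 : x * u - x = x * ((1 - star e) * ((u : A) - 1)) := by
        rw [← mul_assoc, mul_sub x 1, hx e heR, mul_one, sub_zero, mul_sub, mul_one]
      rw [mul_sub _ 1, mul_one, sub_eq_zero] at a3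
      rw [h4, a3, ← mul_assoc]
      exact R.mul_mem_left _ heR
  have hg' : cj A g⁻¹ ∈ stab F (R : Set A) := by
    refine ⟨FR.cj_mem_Aut (inv_mem hg), fun x hx => ?_⟩
    rw [mul_sub, mul_one, sub_eq_zero] at a1
    rw [cj_apply, inv_inv, ← hR x hx, mul_assoc, mul_assoc, a1, ← mul_assoc, ← mul_assoc]
    exact R.mul_mem_left _ heR
  have h4 : g⁻¹ * u * g ∈ UR F R := by
    have h5 := um_mem_UR hg'.1 (le_setStab (inv_stab F (R : Set A)) hg') hu'
    have h6 : um (cj A g⁻¹) u = g⁻¹ * u * g := Units.ext (by rw [um_val, cj_apply, inv_inv]; rfl)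
    rwa [h6] at h5
  have h5 : g⁻¹ * u * g * u⁻¹ ∈ UR F R := mul_mem h4 (inv_mem hu')
  have h6 : cj A (g⁻¹ * u * g * u⁻¹) ∈ (UR F R).map (cj A) ⊓ F.S := by
    refine ⟨⟨_, h5, rfl⟩, ?_⟩
    have h7 := conj_mul_inv_mem F (g := cj A g⁻¹) (s := cj A u) ⟨_, inv_mem hg, rfl⟩ ⟨_, hu, rfl⟩
    rw [map_inv, inv_inv] at h7
    rw [map_mul, map_mul, map_mul, map_inv, map_inv]
    exact h7
  rw [hN, Subgroup.mem_bot, cj_eq_one_iff] at h6
  have h7 := SS_eq_zero c.ss (sub_mem h6 (one_mem _)) ⟨3, UR_cube h5⟩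
  have h8 : g⁻¹ * u * g * u⁻¹ = 1 := Units.ext (sub_eq_zero.1 h7)
  rw [mul_inv_eq_one, mul_assoc, inv_mul_eq_iff_eq_mul] at h8
  exact (congrArg Units.val h8).symm

end Par

namespace Ctx

/-- linear groups, `n ≥ 3` -/
theorem not_parL {K : Type} [Field K] [Finite K] {n : ℕ} {F : FR (LR (Fin n) K)}
    {H : Subgroup (RingAut (LR (Fin n) K))} {p : ℕ} (c : Ctx F H p) (h3 : 3 ≤ n) : ¬ ParD F H := fun h => by
  obtain ⟨e, he, h0, h1, hp⟩ := Par.exists_pc c h
  exact par_LR h3 he h0 h1 hp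

variable {K V : Type} [Field K] [Finite K] [AddCommGroup V] [Module K V] [Finite V] {h : HF K V} {F : FR h.EB}
  {H : Subgroup (RingAut h.EB)} {p : ℕ}

/-- unitary groups, `n ≥ 3` -/
theorem not_parU (c : Ctx F H p) (hU : IsU h) (hL : F.L = Lmax _) (h3 : 3 ≤ finrank K V) : ¬ ParD F H := fun k => by
  obtain ⟨e, he, h0, -, hp⟩ := Par.exists_pc c k
  exact par_U hU hL h3 he h0 hp

/-- symplectic groups, `n ≥ 3` -/
theorem not_parSp (c : Ctx F H p) (hS : IsSp h F) (h3 : 3 ≤ finrank K V) : ¬ ParD F H := fun k => by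
  obtain ⟨e, he, h0, -, hp⟩ := Par.exists_pc c k
  exact par_Sp hS h3 he h0 hp

/-- orthogonal groups, `n ≥ 5` -/
theorem not_parO (c : Ctx F H p) {Q : QuadraticForm K V} (hO : IsO h F Q) (h5 : 5 ≤ finrank K V) : ¬ ParD F H :=
  fun k => by
    obtain ⟨e, he, h0, -, hp⟩ := Par.exists_pc c k
    exact par_O hO h5 he h0 hp

end Ctx

/-- **[Par]** -/
theorem par : On pPar :=
  ⟨fun _ _ _ _ _ _ _ k _ c h => (c.not_parL k.dim h).elim,
    fun _ _ _ _ _ _ _ _ _ _ _ _ k _ c h => (c.not_parU k.u k.L k.dim h).elim,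
    fun _ _ _ _ _ _ _ _ _ _ _ _ k _ c h => (c.not_parSp k.sp (by have := k.dim; have := k.two; omega) h).elim,
    fun _ _ _ _ _ _ _ _ _ _ _ _ k c h => (c.not_parO k.o (by have := k.dim; omega) h).elim⟩

end Cfsg.Agent.N2C
end

-- part: N2/Cl/TenSO/Base
section
prune_inst 0x11306544650002000818059471001c66f6000592002b480078810d400dce7f21e043af61feb03906529a0bc4403d0468130800c0424000000e200c00011d01a09088500c1200ad0436000f807887180c00000000000000000000000000055004000000000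
set_option linter.all false
open scoped Cfsg.Agent.FastGrp

/-!
# N2 (S3519), tensor decompositions: the kind-free part (helper92)

`TC` the context, `FM` models of the factors, `card_le` the order of the stabiliser, `Ru` idempotents of rank one,
`Cy` cyclic elements of a factor and their products, `cU_sq_le` split centralisers.
-/

set_option autoImplicit false
set_option linter.unusedSectionVars false
set_option maxHeartbeats 400000

namespace Cfsg.Agent.N2C.TenSO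

open Cfsg.Agent.DS.Cl Cfsg.Agent.DS.Cl.Fwd Cfsg.Agent.SB.Cl Module
open Cfsg.Agent.TH.Cl (Irr2 TenD)
open Cfsg.Agent.TH.Cl.Ten (TD Cz Sy cb)
open Cfsg.Agent.N2C.Cyc
open scoped Pointwise

variable {A : Type} [Ring A] [StarRing A] [Finite A]

/-- the context -/
structure TC (F : FR A) (H : Subgroup (RingAut A)) (p : ℕ) (𝓑 : Set (Subring A)) : Prop where
  c : Ctx F H p
  d : TD F 𝓑
  irr : Irr2 H
  st : ∀ γ ∈ H, ∀ B ∈ 𝓑, γ • B ∈ 𝓑

variable {F : FR A} {H : Subgroup (RingAut A)} {p : ℕ} {𝓑 : Set (Subring A)} {B B' X : Subring A}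

theorem exists_tc (c : Ctx F H p) (h : TenD H) : ∃ 𝓑, TC F H p 𝓑 := by
  obtain ⟨hI, 𝓑, t1, t2, t3, t4, t5, t6, hst⟩ := h
  have hT : Tens 𝓑 := ⟨t1, t2, t3, t4, t5, t6⟩
  replace hst : ∀ γ ∈ H, ∀ B ∈ 𝓑, γ • B ∈ 𝓑 := hst
  exact ⟨𝓑, c, ⟨c.ss, hT, fun B hB => hT.exists_l c.ss c.le_SAut hI.1.1 hst hB,
    fun B hB x hx => hT.l_cong c.ss F c.le hI.1.1 hst hB hx⟩, hI, hst⟩

/-- a model of a factor -/
structure FM (B : Subring A) (R : Type) [Ring R] [StarRing R] where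
  /-- the embedding -/
  ψ : R →+* A
  inj : Function.Injective ψ
  mem : ∀ x, x ∈ B ↔ ∃ y, ψ y = x
  st : ∀ y, ψ (star y) = star (ψ y)
  cen : ∀ y ∈ Subring.center R, ψ y ∈ Subring.center A

/-- the order of the projective conformal group -/
noncomputable def PC (R : Type) [Ring R] [StarRing R] : ℕ := Nat.card ↥(SAut R ⊓ Lin R)

namespace FM

variable {R : Type} [Ring R] [StarRing R] (f : FM B R)

theorem mem' (y : R) : f.ψ y ∈ B := (f.mem _).2 ⟨y, rfl⟩

include f in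
theorem fin : Finite R := Finite.of_injective _ f.inj

theorem exists_res {γ : RingAut A} (h1 : γ ∈ SAut A) (h2 : γ ∈ Lin A) (h3 : γ • B = B) :
    ∃ ρ : ↥(SAut R ⊓ Lin R), ∀ y, f.ψ (ρ.1 y) = γ (f.ψ y) := by
  have k1 : ∀ y, ∃ z, f.ψ z = γ (f.ψ y) := fun y => (f.mem _).1 (by
    have := (apply_mem_smul (γ := γ)).2 (f.mem' y)
    rwa [h3] at this)
  have k2 : ∀ y, ∃ z, f.ψ z = γ⁻¹ (f.ψ y) := fun y => (f.mem _).1 (mem_smul_subring.1 (by rw [h3]; exact f.mem' y))
  choose a ha using k1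
  choose b hb using k2
  let ρ : RingAut R :=
    { toFun := a
      invFun := b
      left_inv := fun y => f.inj (by rw [hb, ha, ra_inv_apply])
      right_inv := fun y => f.inj (by rw [ha, hb, ra_apply_inv])
      map_mul' := fun x y => f.inj (by rw [ha, map_mul, map_mul, map_mul, ha, ha])
      map_add' := fun x y => f.inj (by rw [ha, map_add, map_add, map_add, ha, ha]) }
  exact ⟨⟨ρ, fun y => f.inj (show f.ψ (a _) = f.ψ (star (a y)) by rw [ha, f.st, f.st, ha, h1]),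
    fun c hc => f.inj (show f.ψ (a c) = _ by rw [ha, h2 _ (f.cen c hc)])⟩, ha⟩

end FM

namespace TC

variable (T : TC F H p 𝓑)
include T

theorem comm (hB : B ∈ 𝓑) (hB' : B' ∈ 𝓑) (hne : B ≠ B') : ∀ x ∈ B, ∀ y ∈ B', x * y = y * x := T.d.t.comm B hB B' hB' hne

theorem iso (hB : B ∈ 𝓑) {u : Aˣ} (h1 : (u : A) ∈ B) (h2 : (u : A) * star (u : A) = 1) : u ∈ F.Iso := by
  obtain ⟨g, hg, e⟩ := T.d.exists_g hB (Sy.one B) h1 h2
  rwa [← Units.ext (e.trans (by simp [cb]) : (g : A) = u)]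

theorem pt (hB : B ∈ 𝓑) {u : Aˣ} (h1 : (u : A) ∈ B) (h2 : (u : A) * star (u : A) = 1) :
    cj A u ∈ ptStab (RingAut A) 𝓑 := by
  intro B' hB'
  by_cases e : B' = B
  · subst e
    have h3 : ((u⁻¹ : Aˣ) : A) ∈ B' := star_eq_inv h2 ▸ T.d.t.star_mem _ hB _ h1
    exact smul_eq_of_inv (fun x hx => mul_mem (mul_mem h1 hx) h3) fun x hx => mul_mem (mul_mem h3 hx) h1
  · exact smul_eq_of_fix (T.d.fix hB h1 hB' e)

/-- `H ⊓ F.S` is the stabiliser of the decomposition -/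
theorem mem_H (hB : B ∈ 𝓑) {y : Aˣ} (h1 : (y : A) ∈ B) (h2 : y ∈ I0 F) (hc : (y : A) ∉ Subring.center A)
    {s : RingAut A} (hs : s ∈ F.S) (h : s ∈ ptStab (RingAut A) 𝓑) : s ∈ H := by
  refine T.c.max' (M := setStab (RingAut A) 𝓑) (le_setStab T.st) (fun hS => hc (cj_eq_one_iff.1 ?_)) hs
    (le_setStab (P := ptStab (RingAut A) 𝓑) (fun g hg B hB => by rwa [hg B hB]) h)
  have h3 : cj A y ∈ F.S := ⟨y, h2, rfl⟩
  obtain ⟨B', hB', hne⟩ := T.d.t.exists_ne hB
  by_cases hK : F.S ≤ ptStab (RingAut A) 𝓑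
  · refine inf_eq_bot_of_simple T.c.simple (K := DS.Cl.Fix (B' : Set A)) (fun s hs k hk x hx => ?_) (fun hle => ?_) _ h3
      (T.d.fix hB h1 hB' hne)
    · rw [ra_mul, ra_mul, hk _ (mem_smul_subring.1 ((hK hs B' hB').symm ▸ hx)), ra_apply_inv]
    · exact T.d.t.not_le B' hB' fun z hz => FR.cen_of_S T.c.span fun s hs => hle hs z hz
  · exact inf_eq_bot_of_simple T.c.simple (fun s hs k hk => conj_mem_ptStab (hS hs) hk) hK _ h3
      (T.pt hB h1 (F.comm_le_Iso h2).1)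

theorem cen_Cz (hB : B ∈ 𝓑) {z : A} (hz : z ∈ Cz B) (hc : ∀ y ∈ Cz B, y * z = z * y) : z ∈ Subring.center A := by
  refine T.d.t.cen_of fun B' hB' y hy => ?_
  by_cases e : B' = B
  · exact hz y (e ▸ hy)
  · exact hc y (T.d.le_Cz hB hB' e hy)

/-- the order of the stabiliser -/
theorem card_le (hB : B ∈ 𝓑) {R R' : Type} [Ring R] [StarRing R] [Ring R'] [StarRing R'] (f : FM B R)
    (f' : FM (Cz B) R') : Nat.card ↥(H ⊓ F.S) ≤ 𝓑.ncard * (PC R * PC R') := by
  have := finAut (A := A)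
  have := f.fin
  have := f'.fin
  have := finAut (A := R)
  have := finAut (A := R')
  rw [← Nat.card_congr (MulAction.orbitProdStabilizerEquivGroup ↥(H ⊓ F.S) B), Nat.card_prod]
  refine Nat.mul_le_mul (Set.ncard_le_ncard ?_ (Set.toFinite _)) ?_
  · rintro _ ⟨γ, rfl⟩
    exact T.st γ γ.2.1 B hB
  have k : ∀ γ : MulAction.stabilizer ↥(H ⊓ F.S) B, (γ.1.1 : RingAut A) • B = B := fun γ => γ.2
  have k' : ∀ γ : MulAction.stabilizer ↥(H ⊓ F.S) B, ∀ x ∈ Cz B, (γ.1.1 : RingAut A) x ∈ Cz B := fun γ x hx y hy => by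
    have h1 := congrArg γ.1.1 (hx _ (mem_smul_subring.1 ((k γ).symm ▸ hy)))
    rwa [map_mul, map_mul, ra_apply_inv] at h1
  have l1 : ∀ γ : MulAction.stabilizer ↥(H ⊓ F.S) B, γ.1.1 ∈ SAut A := fun γ => T.c.le_SAut γ.1.2.1
  have l2 : ∀ γ : MulAction.stabilizer ↥(H ⊓ F.S) B, γ.1.1 ∈ Lin A := fun γ => F.PI_le_Lin (F.S_le_PI γ.1.2.2)
  choose a ha using fun γ => f.exists_res (l1 γ) (l2 γ) (k γ)
  choose b hb using fun γ => f'.exists_res (l1 γ) (l2 γ) (smul_eq_of_inv (k' γ) (k' γ⁻¹))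
  rw [PC, PC, ← Nat.card_prod]
  refine Nat.card_le_card_of_injective (fun γ => (a γ, b γ)) fun γ δ e => Subtype.ext (Subtype.ext (RingEquiv.ext fun x => ?_))
  refine T.d.t.ind (T := (γ.1.1 : A →+* A).eqLocus (δ.1.1 : A →+* A)) (fun B' hB' z hz => ?_) x
  by_cases e' : B' = B
  · obtain ⟨y, rfl⟩ := (f.mem z).1 (e' ▸ hz)
    exact (ha γ y).symm.trans ((congrArg (fun r => f.ψ (r.1 y)) (congrArg Prod.fst e)).trans (ha δ y))
  · obtain ⟨y, rfl⟩ := (f'.mem z).1 (T.d.le_Cz hB hB' e' hz)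
    exact (hb γ y).symm.trans ((congrArg (fun r => f'.ψ (r.1 y)) (congrArg Prod.snd e)).trans (hb δ y))

end TC

/-! ### idempotents of rank one -/

section ru

omit [StarRing A]

/-- `e` is an idempotent of `B` of relative rank `1 / m` -/
def Ru (B : Subring A) (m : ℕ) (e : A) : Prop :=
  ∃ (ι : Type) (_ : Fintype ι) (a b : ι → A), Fintype.card ι = m ∧ e ∈ B ∧ (∀ i, a i ∈ B) ∧ (∀ i, b i ∈ B) ∧ e * e = e ∧
    (∀ i, e * b i * a i = e) ∧ (∀ i j, i ≠ j → e * b i * a j = 0) ∧ ∑ i, a i * e * b i = 1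

variable {m m' : ℕ} {e e' : A}

theorem Ru.mem (h : Ru B m e) : e ∈ B := by
  obtain ⟨ι, _, a, b, -, h1, -⟩ := h
  exact h1

theorem Ru.mono (h : Ru B m e) (hle : B ≤ X) : Ru X m e := by
  obtain ⟨ι, _, a, b, h0, h1, h2, h3, h4⟩ := h
  exact ⟨ι, _, a, b, h0, hle h1, fun i => hle (h2 i), fun i => hle (h3 i), h4⟩

theorem ru_one (B : Subring A) : Ru B 1 1 :=
  ⟨Unit, inferInstance, fun _ => 1, fun _ => 1, rfl, one_mem _, fun _ => one_mem _, fun _ => one_mem _, mul_one 1,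
    fun _ => by simp, fun _ _ h => absurd rfl h, by simp⟩

theorem Ru.mul (h : Ru B m e) (h' : Ru B' m' e') (hc : ∀ x ∈ B, ∀ y ∈ B', x * y = y * x) (hle : B ≤ X) (hle' : B' ≤ X) :
    Ru X (m * m') (e * e') := by
  obtain ⟨ι, _, a, b, h0, h1, h2, h3, h4, h5, h6, h7⟩ := h
  obtain ⟨κ, _, a', b', k0, k1, k2, k3, k4, k5, k6, k7⟩ := h'
  have mm : ∀ x, ∀ y ∈ B', ∀ z ∈ B, ∀ w, x * y * (z * w) = x * z * (y * w) := fun x y hy z hz w => by
    rw [mul_assoc, ← mul_assoc y, ← hc z hz y hy, mul_assoc, mul_assoc]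
  have m3 : ∀ i j : ι × κ, e * e' * (b i.1 * b' i.2) * (a j.1 * a' j.2) = e * b i.1 * a j.1 * (e' * b' i.2 * a' j.2) :=
    fun i j => by rw [mm _ _ k1 _ (h3 _), mm _ _ (mul_mem k1 (k3 _)) _ (h2 _)]
  refine ⟨ι × κ, inferInstance, fun i => a i.1 * a' i.2, fun i => b i.1 * b' i.2, by rw [Fintype.card_prod, h0, k0],
    mul_mem (hle h1) (hle' k1), fun i => mul_mem (hle (h2 _)) (hle' (k2 _)), fun i => mul_mem (hle (h3 _)) (hle' (k3 _)),
    by rw [mm _ _ k1 _ h1, h4, k4], fun i => by rw [m3, h5, k5], fun i j hij => ?_, ?_⟩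
  · rw [m3]
    by_cases e1 : i.1 = j.1
    · rw [k6 _ _ fun e2 => hij (Prod.ext e1 e2), mul_zero]
    · rw [h6 _ _ e1, zero_mul]
  · rw [← mul_one (1 : A)]
    conv_rhs => rw [← h7]; arg 2; rw [h7, ← k7]
    rw [Finset.sum_mul_sum, ← Finset.sum_product', Finset.univ_product_univ]
    exact Finset.sum_congr rfl fun i _ => by rw [mm _ _ (k2 _) _ h1, mm _ _ (mul_mem (k2 _) k1) _ (h3 _)]

/-- a set on which `x ↦ x e` is injective is small -/
theorem Ru.card_le (h : Ru B m e) {Y : Type} (v : Y → A) (hv : ∀ x y, v x * e = v y * e → x = y) :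
    Nat.card Y ^ m ≤ Nat.card A := by
  obtain ⟨ι, _, a, b, h0, -, -, -, -, h5, h6, -⟩ := h
  rw [← h0, ← Nat.card_eq_fintype_card, ← Nat.card_fun]
  have k : ∀ (x : ι → Y) (j : ι), (∑ i, v (x i) * e * b i) * a j = v (x j) * e := fun x j => by
    rw [Finset.sum_mul, Finset.sum_eq_single j, mul_assoc, mul_assoc, ← mul_assoc e, h5]
    · intro i _ hi
      rw [mul_assoc, mul_assoc, ← mul_assoc e, h6 _ _ hi, mul_zero]
    · exact fun h => absurd (Finset.mem_univ j) h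
  exact Nat.card_le_card_of_injective (fun x => ∑ i, v (x i) * e * b i) fun x y hxy => funext fun j =>
    hv _ _ (by rw [← k, ← k, show ∑ i, v (x i) * e * b i = ∑ i, v (y i) * e * b i from hxy])

/-- an element commuting with `B` and killing `e` is zero -/
theorem Ru.eq_zero (h : Ru B m e) {x : A} (hx : x ∈ Cz B) (h0 : x * e = 0) : x = 0 := by
  obtain ⟨ι, _, a, b, -, -, h2, -, -, -, -, h7⟩ := h
  rw [← mul_one x, ← h7, Finset.mul_sum]
  exact Finset.sum_eq_zero fun i _ => by rw [← mul_assoc, ← mul_assoc, ← hx _ (h2 i), mul_assoc (a i), h0, mul_zero, zero_mul]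

end ru

theorem TC.pow_le (T : TC F H p 𝓑) {μ : ℕ} (h : ∀ B ∈ 𝓑, ∃ m e, μ ≤ m ∧ Ru B m e) :
    ∃ m e, μ ^ 𝓑.ncard ≤ m ∧ Ru (⊤ : Subring A) m e := by
  classical
  have k : ∀ s : Finset (Subring A), (∀ B ∈ s, B ∈ 𝓑) →
      ∃ m e, μ ^ s.card ≤ m ∧ Ru (Subring.centralizer {x | ∃ B ∈ 𝓑, B ∉ s ∧ x ∈ B}) m e := fun s => by
    induction s using Finset.induction_on with
    | empty => exact fun _ => ⟨1, 1, by simp, ru_one _⟩
    | insert B s hBs ih =>
      intro hs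
      obtain ⟨m, e, h1, h2⟩ := ih fun B' hB' => hs B' (Finset.mem_insert_of_mem hB')
      have hB := hs B (Finset.mem_insert_self B s)
      obtain ⟨m', e', h3, h4⟩ := h B hB
      refine ⟨m * m', e * e', by rw [Finset.card_insert_of_notMem hBs, pow_succ]; exact Nat.mul_le_mul h1 h3,
        h2.mul h4 (fun x hx y hy => (hx y ⟨B, hB, hBs, hy⟩).symm) ?_ ?_⟩
      · rintro x hx y ⟨B', a1, a2, a3⟩
        exact hx y ⟨B', a1, fun a => a2 (Finset.mem_insert_of_mem a), a3⟩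
      · rintro x hx y ⟨B', a1, a2, a3⟩
        exact T.comm a1 hB (fun a => a2 (a ▸ Finset.mem_insert_self _ _)) y a3 x hx
  obtain ⟨m, e, h1, h2⟩ := k (Set.toFinite 𝓑).toFinset (by simp)
  exact ⟨m, e, by rwa [Set.ncard_eq_toFinset_card], h2.mono le_top⟩

/-! ### cyclic elements -/

omit [StarRing A] [Finite A] in
theorem comm_of_cop {g g' x : A} {N N' : ℕ} (hc : g * g' = g' * g) (h : g ^ N = 1) (h' : g' ^ N' = 1) (k : N.Coprime N')
    (hx : x * (g * g') = g * g' * x) : x * g = g * x := by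
  obtain ⟨j, h1, h2⟩ := Nat.chineseRemainder k 1 0
  have h3 : (g * g') ^ j = g := by
    rw [(show Commute g g' from hc).mul_pow, pow_eq_pow_mod j h, pow_eq_pow_mod j h', h1, h2, ← pow_eq_pow_mod 1 h,
      Nat.zero_mod, pow_zero, pow_one, mul_one]
  rw [← h3]
  exact (show Commute x (g * g') from hx).pow_right j

/-- a unitary element `g` of `B` of order dividing `N` whose centraliser is detected on an idempotent of rank one -/
structure Cy (B : Subring A) (m N : ℕ) (g e : A) : Prop where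
  mem : g ∈ B
  uni : g * star g = 1
  pow : g ^ N = 1
  ru : Ru B m e
  gn : ∀ x, x * g = g * x → x * e = 0 → x = 0

variable {m m' N N' : ℕ} {g g' e e' : A}

theorem Cy.mul (h : Cy B m N g e) (h' : Cy B' m' N' g' e') (hc : ∀ x ∈ B, ∀ y ∈ B', x * y = y * x) (hle : B ≤ X)
    (hle' : B' ≤ X) (k : N.Coprime N') : Cy X (m * m') (N * N') (g * g') (e * e') := by
  have h1 := hc _ h.mem _ h'.mem
  refine ⟨mul_mem (hle h.mem) (hle' h'.mem), by rw [star_mul, mul_assoc, ← mul_assoc g', h'.uni, one_mul, h.uni],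
    by rw [(show Commute g g' from h1).mul_pow, pow_mul, h.pow, mul_comm N, pow_mul, h'.pow, one_pow, one_pow, mul_one],
    h.ru.mul h'.ru hc hle hle', fun x hx h0 => ?_⟩
  have h2 := comm_of_cop h1 h.pow h'.pow k hx
  have h3 := comm_of_cop h1.symm h'.pow h.pow k.symm (h1 ▸ hx)
  exact h.gn x h2 (h'.gn _ (by rw [mul_assoc, hc _ h.ru.mem _ h'.mem, ← mul_assoc, h3, mul_assoc]) (by rwa [mul_assoc]))

theorem Cy.cA_le (h : Cy B m N g e) : cA g ^ m ≤ Nat.card A :=
  h.ru.card_le (fun x : {x : A // x * g = g * x} => x.1) fun x y hxy => Subtype.ext (sub_eq_zero.1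
    (h.gn _ (by rw [sub_mul, mul_sub, x.2, y.2]) (by rw [sub_mul, hxy, sub_self])))

omit [StarRing A] [Finite A] in
theorem le_of_pow {c q M E j : ℕ} (hq : 0 < q) (hM : M ≠ 0) (h : c ^ M ≤ q ^ E) (hj : E ≤ j * M) : c ≤ q ^ j :=
  (Nat.pow_le_pow_iff_left hM).1 (h.trans (by rw [← pow_mul]; exact Nat.pow_le_pow_right hq hj))

end Cfsg.Agent.N2C.TenSO

private theorem dce_2becd62e9dcf : _root_.True := by
  try have : _root_.True := by simp only [_root_.Cfsg.Agent.N2C.Cyc.cU.eq_1]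
  try have : _root_.True := by simp only [_root_.Cfsg.Agent.N2C.TenSO.PC.eq_1]
  exact _root_.True.intro
end

-- part: N2/G2/Sc1_mg
section
prune_inst 0x113061041522020000180586310000203400040200400c00846101000100a0206d02a8410d0021074a008100000504281308008002400000042004000004010010800208b148000002009e000000000000000000000000000000000000014000000000000
set_option linter.all false
open scoped Cfsg.Agent.FastGrp

-- part: N2/G2/Sc0
section
/-!
# N2 (S3519), `³D₄(q)`: Scott's inequality, the linear algebra (helper5)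

* `stb ρ v`, `cof ρ C` : the stabiliser of a vector, the elements which act trivially modulo a subspace;
* `scott_le` : Scott's inequality for `x`, `y` with bounds for the fixed and cofixed spaces;
* `scott_sup` : the same if `⟨x, y⟩ ⊔ Z = ⊤` and `Z` has the fixed vectors and covectors of `⟨x, y⟩`;
* `fix_eq`, `com_eq` : powers with the same fixed dimension; `four_le`, `com_four` : four-groups.
-/

set_option autoImplicit false
set_option linter.unusedSectionVars false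

namespace Cfsg.Agent.N2.G2.Sc

open Module Cfsg.Agent.FP3

variable {K V T : Type*} [Field K] [AddCommGroup V] [Module K V] [FiniteDimensional K V] [Group T]
  (ρ : T →* Module.End K V)

theorem rho_mul (a b : T) (v : V) : ρ (a * b) v = ρ a (ρ b v) := by rw [map_mul, Module.End.mul_apply]

theorem rho_one (v : V) : ρ 1 v = v := by rw [map_one, Module.End.one_apply]

/-- the stabiliser of a vector -/
def stb (v : V) : Subgroup T where
  carrier := {g | ρ g v = v}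
  one_mem' := rho_one ρ v
  mul_mem' {a b} ha hb := (rho_mul ρ a b v).trans ((congrArg (ρ a) hb).trans ha)
  inv_mem' {a} ha := by
    have h : ρ a⁻¹ (ρ a v) = v := by rw [← rho_mul, inv_mul_cancel, rho_one]
    rwa [show ρ a v = v from ha] at h

/-- the elements which act trivially modulo `C` -/
def cof (C : Submodule K V) : Subgroup T where
  carrier := {g | ∀ v, ρ g v - v ∈ C}
  one_mem' v := by rw [rho_one, sub_self]; exact C.zero_mem
  mul_mem' {a b} ha hb v := by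
    rw [rho_mul, ← sub_add_sub_cancel _ (ρ b v)]
    exact C.add_mem (ha _) (hb _)
  inv_mem' {a} ha v := by
    have h := C.neg_mem (ha (ρ a⁻¹ v))
    rwa [← rho_mul, mul_inv_cancel, rho_one, neg_sub] at h

variable {ρ}

theorem mem_cof' {C : Submodule K V} {g : T} : g ∈ cof ρ C ↔ comSp (ρ g) ≤ C :=
  ⟨fun h _ hw => let ⟨v, e⟩ := mem_comSp.1 hw; e ▸ h v, fun h v => h (sub_mem_comSp _ v)⟩

/-- Scott's inequality with bounds for the fixed and the cofixed space -/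
theorem scott_le (x y : T) {a b : ℕ} (hf : ∀ F : Submodule K V, (∀ v ∈ F, Subgroup.closure {x, y} ≤ stb ρ v) → finrank K F ≤ a)
    (hc : ∀ C : Submodule K V, Subgroup.closure {x, y} ≤ cof ρ C → finrank K V ≤ finrank K C + b) :
    dfx (ρ x) + dfx (ρ y) + dfx (ρ (x * y)) ≤ finrank K V + a + b := by
  have h1 := scott' (ρ x) (ρ y)
  have h2 := hf (fixSp (ρ x) ⊓ fixSp (ρ y)) fun v hv => (Subgroup.closure_le _).2 (by
    rintro _ (rfl | rfl)
    exacts [mem_fixSp.1 hv.1, mem_fixSp.1 hv.2])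
  have h3 := hc (comSp (ρ x) ⊔ comSp (ρ y)) ((Subgroup.closure_le _).2 (by
    rintro _ (rfl | rfl)
    exacts [mem_cof'.2 le_sup_left, mem_cof'.2 le_sup_right]))
  rw [map_mul]
  omega

/-- Scott's inequality if a supplement of `⟨x, y⟩` has its fixed vectors and covectors -/
theorem scott_sup {x y : T} {Z : Subgroup T} (h : Subgroup.closure {x, y} ⊔ Z = ⊤)
    (hf : ∀ v, Subgroup.closure {x, y} ≤ stb ρ v → Z ≤ stb ρ v)
    (hc : ∀ C, Subgroup.closure {x, y} ≤ cof ρ C → Z ≤ cof ρ C) {F : Submodule K V} (h1 : ∀ v, ⊤ ≤ stb ρ v → v ∈ F)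
    (h2 : ∀ C, ⊤ ≤ cof ρ C → C = ⊤) : dfx (ρ x) + dfx (ρ y) + dfx (ρ (x * y)) ≤ finrank K V + finrank K F :=
  scott_le (b := 0) x y (fun _ e => Submodule.finrank_mono fun v hv => h1 v (h ▸ sup_le (e v hv) (hf v (e v hv))))
    fun C e => by rw [h2 C (h ▸ sup_le e (hc C e)), finrank_top, add_zero]

theorem fix_le {s z : T} (h : s ∈ Subgroup.zpowers z) : fixSp (ρ z) ≤ fixSp (ρ s) := fun v hv =>
  mem_fixSp.2 ((Subgroup.zpowers_le.2 (show z ∈ stb ρ v from mem_fixSp.1 hv)) h)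

theorem com_le {s z : T} (h : s ∈ Subgroup.zpowers z) : comSp (ρ s) ≤ comSp (ρ z) :=
  mem_cof'.1 ((Subgroup.zpowers_le.2 (mem_cof'.2 le_rfl)) h)

theorem fix_eq {s z : T} (h : s ∈ Subgroup.zpowers z) (e : dfx (ρ z) = dfx (ρ s)) : fixSp (ρ z) = fixSp (ρ s) :=
  Submodule.eq_of_le_of_finrank_eq (fix_le h) e

theorem com_eq {s z : T} (h : s ∈ Subgroup.zpowers z) (e : dfx (ρ z) = dfx (ρ s)) : comSp (ρ s) = comSp (ρ z) := by
  refine Submodule.eq_of_le_of_finrank_eq (com_le h) ?_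
  have h1 := finrank_comSp_add_dfx (ρ s)
  have h2 := finrank_comSp_add_dfx (ρ z)
  omega

section four

variable {a b : Module.End K V} (h2 : (2 : K) ≠ 0) (ha : ∀ v, a (a v) = v) (hb : ∀ v, b (b v) = v)
  (hc : ∀ v, a (b v) = b (a v))

include h2 ha hb hc

/-- the fixed space of a four-group -/
theorem four_le : finrank K V + 2 * finrank K ↥(fixSp a ⊓ fixSp b) ≤ dfx a + dfx b + dfx (a * b) := by
  have h1 := Submodule.finrank_sup_add_finrank_inf_eq (fixSp a) (fixSp b)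
  have h3 := Submodule.finrank_sup_add_finrank_inf_eq (fixSp a ⊔ fixSp b) (fixSp (a * b))
  have h4 : fixSp a ⊓ fixSp b ≤ (fixSp a ⊔ fixSp b) ⊓ fixSp (a * b) := fun v hv =>
    ⟨Submodule.mem_sup_left hv.1, mem_fixSp.2 (by rw [Module.End.mul_apply, mem_fixSp.1 hv.2, mem_fixSp.1 hv.1])⟩
  have h5 : fixSp a ⊔ fixSp b ⊔ fixSp (a * b) = ⊤ := eq_top_iff.2 fun v _ => by
    have e : v = (2 : K)⁻¹ • ((v + b v) - (b v + a (b v)) + (v + a (b v))) := by
      rw [eq_inv_smul_iff₀ h2, two_smul]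
      abel
    rw [e]
    refine Submodule.smul_mem _ _ (add_mem (Submodule.mem_sup_left (sub_mem (Submodule.mem_sup_right (mem_fixSp.2 ?_))
      (Submodule.mem_sup_left (mem_fixSp.2 ?_)))) (Submodule.mem_sup_right (mem_fixSp.2 ?_)))
    · rw [map_add, hb, add_comm]
    · rw [map_add, ha, add_comm]
    · rw [Module.End.mul_apply, map_add, map_add, ← hc, hb, ha, add_comm]
  have h6 := Submodule.finrank_mono h4
  rw [h5, finrank_top] at h3
  unfold dfx
  omega

/-- an endomorphism which centralises a four-group and its fixed space -/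
theorem com_four {g : Module.End K V} (h3 : ∀ v, g (a v) = a (g v)) (h4 : ∀ v, g (b v) = b (g v))
    (h5 : ∀ v, a v = v → b v = v → g v = v) {C : Submodule K V} (h6 : ∀ v, a v - v ∈ C) (h7 : ∀ v, b v - v ∈ C) (v : V) :
    g v - v ∈ C := by
  have h8 := h5 (v + a v + b v + a (b v)) (by simp only [map_add, ha]; abel) (by simp only [map_add, ← hc, hb]; abel)
  simp only [map_add, h3, h4] at h8
  have e : g v - v = (2 : K)⁻¹ • (2 : K)⁻¹ • -((a (g v - v) - (g v - v)) + (b (g v - v) - (g v - v)) + (b (g v - v) - (g v - v)) +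
      (a (b (g v - v)) - b (g v - v))) := by
    rw [eq_inv_smul_iff₀ h2, eq_inv_smul_iff₀ h2, two_smul, two_smul]
    simp only [map_sub]
    linear_combination (norm := abel) h8
  rw [e]
  exact C.smul_mem _ (C.smul_mem _ (C.neg_mem (add_mem (add_mem (add_mem (h6 _) (h7 _)) (h7 _)) (h6 _))))

end four

end Cfsg.Agent.N2.G2.Sc
end

-- part: N2/G2/Sc1
section
/-!
# N2 (S3519), `³D₄(q)`: fixed vectors and covectors on the adjoint module (helper5)

* `col_chain`, `col_fix`, `col_neg` : columns of root elements;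
* `rho m` : the adjoint module of the finite group, `dfx_rho`;
* `exists_long`, `exists_short` : root elements of the finite group;
* **`cof_top`** : no fixed covectors; **`stb_top`** : the fixed vectors lie in the radical `Rad p` of the invariant form;
  `rad_le`, `rad_eq` : its dimension.
-/

set_option autoImplicit false
set_option linter.unusedSectionVars false

namespace Cfsg.Agent.N2.G2.Sc

open Matrix Module Cfsg Cfsg.Lie Cfsg.Lie.ChevalleyDatum Cfsg.Agent.FP3 Cfsg.Agent.H316.U6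
open Cfsg.Agent.ChevalleyStructure.GraphColumns Cfsg.Agent.ChevalleyStructure.Elts Cfsg.Agent.H469.Exc
  Cfsg.Agent.H469.Exc.SigFr Cfsg.Agent.DS.Ex Cfsg.Agent.DS.Nt Cfsg.Agent.Nodes.RGDChev Cfsg.Agent.N2.Ex.K

section col

variable {D : ChevalleyDatum} {K : Type} [Field K] {r s u : Fin D.nroots}

theorem col_chain {ε : ℤ} (h1 : s ≠ r) (h2 : s.val ≠ D.negIdx.getD r 0)
    (h3 : ∀ w : Fin D.nroots, D.chainCoeff r s w = if w = u then [(1, ε)] else []) (t : K) :
    D.xMat K r t *ᵥ Pi.single (Sum.inr s) 1 - Pi.single (Sum.inr s) 1 = ((ε : K) * t) • Pi.single (Sum.inr u) 1 := by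
  funext a
  rw [Pi.sub_apply, mulVec_single_one, col_apply]
  rcases a with i | w
  · rw [xMat_lr, if_neg h1, if_neg h2]
    simp
  · rw [xMat_rr, if_neg h1, if_neg h2, h3]
    by_cases e : w = u <;> simp [e, Pi.single_apply]

theorem col_fix (h1 : s ≠ r) (h2 : s.val ≠ D.negIdx.getD r 0) (h3 : ∀ w : Fin D.nroots, D.chainCoeff r s w = []) (t : K) :
    D.xMat K r t *ᵥ Pi.single (Sum.inr s) 1 = Pi.single (Sum.inr s) 1 := by
  funext a
  rw [mulVec_single_one, col_apply]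
  rcases a with i | w
  · rw [xMat_lr, if_neg h1, if_neg h2]
    simp
  · rw [xMat_rr, if_neg h1, if_neg h2, h3]
    simp [Pi.single_apply]

theorem col_neg (h1 : s ≠ r) (h2 : s.val = D.negIdx.getD r 0) (t : K) (i : Fin D.rank) :
    (D.xMat K r t *ᵥ Pi.single (Sum.inr s) 1 - Pi.single (Sum.inr s) 1 : D.Idx → K) (Sum.inl i) =
      (((D.coroot.getD r #[]).getD i 0 : ℤ) : K) * t := by
  rw [Pi.sub_apply, mulVec_single_one, col_apply, xMat_lr, if_neg h1, if_pos h2]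
  simp

theorem mem_of_tor {C : Submodule K (D.Idx → K)} (h : ∀ s, Pi.single (Sum.inr s) 1 ∈ C) {w : D.Idx → K} (hw : w ∈ C)
    {i : Fin D.rank} {t : K} (ht : t ≠ 0) (e : ∀ j, w (Sum.inl j) = ((if j = i then 1 else 0 : ℤ) : K) * t) :
    Pi.single (Sum.inl i) 1 ∈ C := by
  have h1 : t • (Pi.single (Sum.inl i) 1 : D.Idx → K) = w - ∑ s, w (Sum.inr s) • Pi.single (Sum.inr s) 1 := by
    funext a
    rcases a with j | s <;> simp [Finset.sum_apply, Pi.single_apply, e]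
  exact (C.smul_mem_iff ht).1 (h1 ▸ C.sub_mem hw (C.sum_mem fun s _ => C.smul_mem _ (h s)))

theorem fin4 {P : Fin 4 → Prop} (h0 : P 0) (h1 : P 1) (h2 : P 2) (h3 : P 3) (i : Fin 4) : P i := by
  fin_cases i
  exacts [h0, h1, h2, h3]

theorem exists_sol [IsAlgClosed K] {c : K} (hc : c ≠ 0) {n : ℕ} (hn : 2 ≤ n) : ∃ t : K, t ≠ 0 ∧ c * t ^ n = t := by
  obtain ⟨n, rfl⟩ : ∃ k, n = k + 1 := ⟨n - 1, by omega⟩
  obtain ⟨t, ht⟩ := IsAlgClosed.exists_pow_nat_eq c⁻¹ (n := n) (by omega)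
  refine ⟨t, fun e => ?_, by rw [pow_succ, ht, mul_inv_cancel_left₀ hc]⟩
  rw [e, zero_pow (by omega)] at ht
  exact inv_ne_zero hc ht.symm

end col

section gen

variable {D : ChevalleyDatum} {l : ℕ} {M : CoxeterMatrix (Fin l)} {hp : IsType D l M} {p q : ℕ} [Fact p.Prime]
  {T : Type} [Group T] (m : MData hp p q T)

/-- the adjoint module of the finite group -/
noncomputable def rho : T →* Module.End (KK p) (D.Idx → KK p) := (ad D p).comp m.ι

theorem rho_apply (x : T) (v : D.Idx → KK p) : rho m x v = ad D p (m.ι x) v := rfl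

theorem dfx_rho (x : T) : dfx (rho m x) = dd p (m.ι x) := by
  rw [dfx, dd, DS.NT.ev, Module.End.eigenspace_def, one_smul]
  rfl

theorem ad_xs (hD : InList D) (r : Fin D.nroots) (t : KK p) (v : D.Idx → KK p) :
    ad D p (xs hD r t) v = D.xMat (KK p) r t *ᵥ v := by
  rw [← ChevalleyStructure.Elts.x_of_lt r.2]
  rfl

include m in
theorem two_le : 2 ≤ q := m.hq ▸ (Fact.out : p.Prime).two_le.trans (Nat.le_self_pow m.he.ne' p)

theorem exists_pre (h : m.dd = 1) {y : YY D p} (hy : m.σ y = y) : ∃ x, m.ι x = y := by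
  have := m.pow_dd y hy
  rwa [h, pow_one] at this

/-- root elements for a fixed root -/
theorem exists_long (h : m.dd = 1) {s : ℕ} (hs : ActF hp.inList m.σ q s s) :
    (∃ t x, t ≠ 0 ∧ m.ι x = xs hp.inList s t) ∧ ∃ t x, t ≠ 0 ∧ m.ι x = xs hp.inList (D.neg s) t := by
  obtain ⟨-, c, hc, h1, h2⟩ := hs
  obtain ⟨t, ht, e⟩ := exists_sol hc (two_le m)
  obtain ⟨t', ht', e'⟩ := exists_sol (inv_ne_zero hc) (two_le m)
  obtain ⟨x, hx⟩ := exists_pre m h ((h1 t).trans (by rw [e]))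
  obtain ⟨x', hx'⟩ := exists_pre m h ((h2 t').trans (by rw [e']))
  exact ⟨⟨t, x, ht, hx⟩, t', x', ht', hx'⟩

end gen

theorem t_act : ∀ s ∈ [(14, 14), (23, 23), (18, 13), (13, 12), (12, 18)], ∀ u < 24,
    (∀ i : Fin 4, vec chevD4 4 u i = vec chevD4 4 s.1 (H720.TwFr.rho4.symm i)) → u = s.2 := by decide +kernel

private noncomputable def _root_.Cfsg.Agent.LsF.fca807c_0 : {f // @Cfsg.Lie.ChevalleyDatum.neg = f} := ⟨_, by first | (delta Cfsg.Lie.ChevalleyDatum.neg; rewrite [Cfsg.Agent.LsF.agetD_eq]; exact rfl) | exact rfl⟩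
private noncomputable def _root_.Cfsg.Agent.LsF.fca807c_1 : {f // @Cfsg.Lie.ChevalleyDatum.chainCoeff = f} := ⟨_, by first | (delta Cfsg.Lie.ChevalleyDatum.chainCoeff; rewrite [Cfsg.Agent.LsF.nadd_pat, Cfsg.Agent.LsF.instDecEq_eq, Cfsg.Agent.LsF.map_eq, Cfsg.Agent.LsF.flatMap_eq, Cfsg.Agent.LsF.filter_eq, Cfsg.Agent.LsF.agetD_eq, Cfsg.Agent.LsF.zipIdx_eq, Cfsg.Agent.LsF.decide_eq]; exact rfl) | exact rfl⟩
theorem t_chain : ∀ u : Fin chevD4.nroots, ∃ r : Fin chevD4.nroots, r.val ∈ [14, chevD4.neg 14, 23, chevD4.neg 23] ∧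
    ∃ s : Fin chevD4.nroots, s ≠ r ∧ s.val ≠ chevD4.negIdx.getD r 0 ∧ ∃ ε ∈ [(1 : ℤ), -1],
      ∀ w : Fin chevD4.nroots, chevD4.chainCoeff r s w = if w = u then [(1, ε)] else [] := by (refine of_decide_eq_true ?_; (try (rewrite [Cfsg.Agent.LsF.dMemE_pat, Cfsg.Agent.LsF.fca807c_0.2, Cfsg.Agent.LsF.fca807c_1.2, Cfsg.Agent.LsF.ineg_pat, Cfsg.Agent.LsF.dProdEq_eq, Cfsg.Agent.LsF.instDecEq_eq, Cfsg.Agent.LsF.agetD_eq, Cfsg.Agent.LsF.instIDecEq_eq, Cfsg.Agent.LsF.dAnd_eq, Cfsg.Agent.LsF.dNot_eq, Cfsg.Agent.LsF.dFinEq_eq, Cfsg.Agent.LsF.dBEx_eq, Cfsg.Agent.LsF.dListEq_eq, Cfsg.Agent.LsF.dForallFin_eq, Cfsg.Agent.LsF.dExistsFin_eq, Cfsg.Agent.LsF.ite_eq, Cfsg.Agent.LsF.decide_eq])); decide +kernel)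

/-- indices of roots -/
def ix (n : ℕ) (h : n < 24 := by decide) : Fin chevD4.nroots := ⟨n, h⟩

theorem t_fix : ∀ a ∈ [(ix 13, ix 5), (ix 12, ix 5), (ix 18, ix 10), (ix 12, ix 10), (ix 18, ix 11), (ix 13, ix 11)],
    a.2 ≠ a.1 ∧ a.2.val ≠ chevD4.negIdx.getD a.1 0 ∧ ∀ w : Fin chevD4.nroots, chevD4.chainCoeff a.1 a.2 w = [] := by
  (refine of_decide_eq_true ?_; (try (rewrite [Cfsg.Agent.LsF.dMemP_pat, Cfsg.Agent.LsF.fca807c_1.2, Cfsg.Agent.LsF.dProdEq_eq, Cfsg.Agent.LsF.finFintype_eq, Cfsg.Agent.LsF.prodFintype_eq, Cfsg.Agent.LsF.dForall_eq, Cfsg.Agent.LsF.instDecEq_eq, Cfsg.Agent.LsF.agetD_eq, Cfsg.Agent.LsF.dAnd_eq, Cfsg.Agent.LsF.dNot_eq, Cfsg.Agent.LsF.dFinEq_eq, Cfsg.Agent.LsF.dForallFin_eq, Cfsg.Agent.LsF.dAllP_eq])); decide +kernel)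

theorem t_neg : ∀ a ∈ [(ix 18, ix 5, (0 : Fin 4)), (ix 14, ix 9, 1), (ix 13, ix 10, 2), (ix 12, ix 11, 3)],
    a.2.1 ≠ a.1 ∧ a.2.1.val = chevD4.negIdx.getD a.1 0 ∧
      ∀ j : Fin 4, (chevD4.coroot.getD a.1 #[]).getD j 0 = if j = a.2.2 then 1 else 0 := by decide +kernel

theorem t_comm : ∀ a ∈ [(18, 13), (18, 12), (13, 12)], a.1 < chevD4.nroots ∧ a.2 < chevD4.nroots ∧ a.2 ≠ a.1 ∧
    a.2 ≠ chevD4.neg a.1 ∧ chevD4.commTerms a.1 a.2 = [] := by decide +kernel

theorem okD : Co.OkA chevD4 fun _ => 1 := by decide +kernel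

theorem t_fa : ∀ i j : Fin 4, Co.fa chevD4 (fun _ => 1) i j =
    ![![2, -1, 0, 0], ![-1, 2, -1, -1], ![0, -1, 2, 0], ![0, -1, 0, 2]] i j := by decide +kernel

variable {p q : ℕ} [Fact p.Prime] {T : Type} [Group T] (m : MData Nodes.RGDTwD4.hp p q T)

theorem xs_comm {a : ℕ × ℕ} (ha : a ∈ [(18, 13), (18, 12), (13, 12)]) (t u : KK p) :
    xs Nodes.RGDTwD4.hp.inList a.1 t * xs Nodes.RGDTwD4.hp.inList a.2 u =
      xs Nodes.RGDTwD4.hp.inList a.2 u * xs Nodes.RGDTwD4.hp.inList a.1 t :=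
  let ⟨h1, h2, h3, h4, h5⟩ := t_comm a ha
  Subtype.ext (TitsThree.KExcBase.comm_nil Nodes.RGDTwD4.hp.inList h1 h2 h3 h4 h5 t u)

variable (hd : m.dd = 1) (hg : m.g = H720.TwFr.permE H720.TwFr.rho4)

include hg in
theorem act {s : ℕ × ℕ} (hs : s ∈ [(14, 14), (23, 23), (18, 13), (13, 12), (12, 18)]) :
    ActF Nodes.RGDTwD4.hp.inList m.σ q s.1 s.2 := by
  obtain ⟨u, h1, h2⟩ := m.act s.1 ((by decide : ∀ s ∈ [(14, 14), (23, 23), (18, 13), (13, 12), (12, 18)], s.1 < 24) s hs)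
  rw [hg] at h1
  exact t_act s hs u h2.1 (congrFun h1) ▸ h2

include hd hg

/-- a short root element -/
theorem exists_short : ∃ (a b c : KK p) (x : T), a ≠ 0 ∧ b ≠ 0 ∧ c ≠ 0 ∧ m.ι x =
    xs Nodes.RGDTwD4.hp.inList 18 a * xs Nodes.RGDTwD4.hp.inList 13 b * xs Nodes.RGDTwD4.hp.inList 12 c := by
  obtain ⟨-, a, ha, h1, -⟩ := act m hg (s := (18, 13)) (by decide)
  obtain ⟨-, b, hb, h2, -⟩ := act m hg (s := (13, 12)) (by decide)
  obtain ⟨-, c, hc, h3, -⟩ := act m hg (s := (12, 18)) (by decide)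
  have h4 := two_le m
  obtain ⟨t, ht, e⟩ := exists_sol (c := c * (b * a ^ q) ^ q) (n := q * q * q)
    (mul_ne_zero hc (pow_ne_zero _ (mul_ne_zero hb (pow_ne_zero _ ha)))) (by nlinarith [Nat.mul_le_mul h4 h4])
  obtain ⟨x, hx⟩ := exists_pre m hd (y := xs _ 18 t * xs _ 13 (a * t ^ q) * xs _ 12 (b * (a * t ^ q) ^ q)) (by
    rw [map_mul, map_mul, h1, h2, h3, show c * (b * (a * t ^ q) ^ q) ^ q = t from Eq.trans (by ring) e, mul_assoc,
      ← xs_comm (a := (18, 12)) (by decide), ← mul_assoc, ← xs_comm (a := (18, 13)) (by decide)])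
  exact ⟨t, _, _, x, ht, mul_ne_zero ha (pow_ne_zero _ ht),
    mul_ne_zero hb (pow_ne_zero _ (mul_ne_zero ha (pow_ne_zero _ ht))), hx⟩

/-- **no fixed covectors** -/
theorem cof_top (C : Submodule (KK p) (chevD4.Idx → KK p)) (h : ⊤ ≤ cof (rho m) C) : C = ⊤ := by
  have h0 : ∀ x v, ad chevD4 p (m.ι x) v - v ∈ C := fun x => h (Subgroup.mem_top x)
  have h1 := exists_long m hd (act m hg (s := (14, 14)) (by decide))
  have h2 := exists_long m hd (act m hg (s := (23, 23)) (by decide))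
  have h3 : ∀ u, Pi.single (Sum.inr u) 1 ∈ C := fun u => by
    obtain ⟨r, hr, s, a1, a2, ε, hε, a3⟩ := t_chain u
    obtain ⟨t, x, ht, e⟩ : ∃ t x, t ≠ 0 ∧ m.ι x = xs Nodes.RGDTwD4.hp.inList r t := by
      simp only [List.mem_cons, List.not_mem_nil, or_false] at hr
      rcases hr with e | e | e | e <;> rw [e]
      exacts [h1.1, h1.2, h2.1, h2.2]
    have h4 := h0 x (Pi.single (Sum.inr s) 1)
    rw [e, ad_xs, col_chain a1 a2 a3] at h4
    refine (C.smul_mem_iff (mul_ne_zero ?_ ht)).1 h4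
    simp only [List.mem_cons, List.not_mem_nil, or_false] at hε
    rcases hε with rfl | rfl <;> simp
  have h4 : ∀ a ∈ [(ix 18, ix 5, (0 : Fin 4)), (ix 14, ix 9, 1), (ix 13, ix 10, 2), (ix 12, ix 11, 3)], ∀ t x, t ≠ 0 →
      ad chevD4 p (m.ι x) (Pi.single (Sum.inr a.2.1) 1) =
        ad chevD4 p (xs Nodes.RGDTwD4.hp.inList a.1 t) (Pi.single (Sum.inr a.2.1) 1) →
      Pi.single (Sum.inl a.2.2) 1 ∈ C := fun a ha t x ht e => by
    obtain ⟨a1, a2, a3⟩ := t_neg a ha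
    have h5 := h0 x (Pi.single (Sum.inr a.2.1) 1)
    rw [e, ad_xs] at h5
    exact mem_of_tor h3 h5 ht fun j => (col_neg a1 a2 t j).trans (congrArg (fun z : ℤ => (z : KK p) * t) (a3 j))
  have h5 : ∀ a ∈ [(ix 13, ix 5), (ix 12, ix 5), (ix 18, ix 10), (ix 12, ix 10), (ix 18, ix 11), (ix 13, ix 11)], ∀ t : KK p,
      ad chevD4 p (xs Nodes.RGDTwD4.hp.inList a.1 t) (Pi.single (Sum.inr a.2) 1) = Pi.single (Sum.inr a.2) 1 :=
    fun a ha t => let ⟨a1, a2, a3⟩ := t_fix a ha; (ad_xs _ _ _ _).trans (col_fix a1 a2 a3 t)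
  obtain ⟨a, b, c, x, ha, hb, hc, e⟩ := exists_short m hd hg
  obtain ⟨t, y, ht, e'⟩ := h1.1
  have k0 := h4 (ix 18, ix 5, 0) (by decide) a x ha (by
    rw [e, rho_mul, rho_mul]
    exact congrArg _ ((congrArg _ (h5 (ix 12, ix 5) (by decide) c)).trans (h5 (ix 13, ix 5) (by decide) b)))
  have k1 := h4 (ix 14, ix 9, 1) (by decide) t y ht (by rw [e']; rfl)
  have k2 := h4 (ix 13, ix 10, 2) (by decide) b x hb (by
    rw [e, xs_comm (a := (18, 13)) (by decide), rho_mul, rho_mul]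
    exact congrArg _ ((congrArg _ (h5 (ix 12, ix 10) (by decide) c)).trans (h5 (ix 18, ix 10) (by decide) a)))
  have k3 := h4 (ix 12, ix 11, 3) (by decide) c x hc (by
    rw [e, mul_assoc, xs_comm (a := (13, 12)) (by decide), ← mul_assoc, xs_comm (a := (18, 12)) (by decide), rho_mul, rho_mul]
    exact congrArg _ ((congrArg _ (h5 (ix 13, ix 11) (by decide) b)).trans (h5 (ix 18, ix 11) (by decide) a)))
  refine eq_top_iff.2 fun v _ => ?_
  rw [pi_eq_sum_univ' v]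
  refine C.sum_mem fun i _ => C.smul_mem _ ?_
  rcases i with i | s
  · exact fin4 (P := fun i => Pi.single (Sum.inl i) 1 ∈ C) k0 k1 k2 k3 i
  · exact h3 s

omit hd hg

variable (p) in
/-- the radical of the invariant form -/
noncomputable def Rad : Submodule (KK p) (chevD4.Idx → KK p) := LinearMap.ker (toLin' (Co.fm chevD4 (fun _ => 1) (KK p)))

theorem rad_eqs {v : chevD4.Idx → KK p} (h : v ∈ Rad p) : (∀ s, v (Sum.inr s) = 0) ∧
    2 * v (Sum.inl (0 : Fin 4)) - v (Sum.inl (1 : Fin 4)) = 0 ∧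
    2 * v (Sum.inl (1 : Fin 4)) - v (Sum.inl (0 : Fin 4)) - v (Sum.inl (2 : Fin 4)) - v (Sum.inl (3 : Fin 4)) = 0 ∧
    2 * v (Sum.inl (2 : Fin 4)) - v (Sum.inl (1 : Fin 4)) = 0 ∧ 2 * v (Sum.inl (3 : Fin 4)) - v (Sum.inl (1 : Fin 4)) = 0 := by
  have h0 : Co.fm chevD4 (fun _ => 1) (KK p) *ᵥ v = 0 := h
  have h1 : ∀ i : Fin 4, ∑ j : Fin 4, ((![![2, -1, 0, 0], ![-1, 2, -1, -1], ![0, -1, 2, 0], ![0, -1, 0, 2]] i j : ℤ) : KK p) *
      v (Sum.inl j) = 0 := fun i => by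
    simp only [← t_fa]
    exact (Co.fm_l (D := chevD4) i v).symm.trans (congrFun h0 _)
  refine ⟨fun s => ?_, ?_, ?_, ?_, ?_⟩
  · have h2 := (Co.fm_r (D := chevD4) s.rev v).symm.trans (congrFun h0 _)
    simpa using h2
  · have h2 := h1 0
    simp [Fin.sum_univ_four] at h2
    linear_combination h2
  · have h2 := h1 1
    simp [Fin.sum_univ_four] at h2
    linear_combination h2
  · have h2 := h1 2
    simp [Fin.sum_univ_four] at h2
    linear_combination h2
  · have h2 := h1 3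
    simp [Fin.sum_univ_four] at h2
    linear_combination h2

theorem eq_zero {v : chevD4.Idx → KK p} (h : ∀ s, v (Sum.inr s) = 0) (h0 : v (Sum.inl (0 : Fin 4)) = 0)
    (h1 : v (Sum.inl (1 : Fin 4)) = 0) (h2 : v (Sum.inl (2 : Fin 4)) = 0) (h3 : v (Sum.inl (3 : Fin 4)) = 0) : v = 0 := by
  funext i
  rcases i with i | s
  · exact fin4 (P := fun i => v (Sum.inl i) = 0) h0 h1 h2 h3 i
  · exact h s

theorem rad_eq (hp : p ≠ 2) : Rad p = ⊥ := eq_bot_iff.2 fun v hv => by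
  obtain ⟨h, h0, h1, h2, h3⟩ := rad_eqs hv
  have h4 : (2 : KK p) ≠ 0 := fun e => hp ((Nat.prime_dvd_prime_iff_eq Fact.out Nat.prime_two).1
    ((CharP.cast_eq_zero_iff (KK p) p 2).1 (by exact_mod_cast e)))
  have h5 : v (Sum.inl (1 : Fin 4)) = 0 := by linear_combination 2 * h1 + h0 + h2 + h3
  exact eq_zero h (mul_left_cancel₀ h4 (by linear_combination h0 + h5)) h5
    (mul_left_cancel₀ h4 (by linear_combination h2 + h5)) (mul_left_cancel₀ h4 (by linear_combination h3 + h5))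

theorem rad_le : finrank (KK p) (Rad p) ≤ 2 := by
  refine (LinearMap.finrank_le_finrank_of_injective (f := (LinearMap.funLeft (KK p) (KK p)
    (![Sum.inl (0 : Fin 4), Sum.inl (2 : Fin 4)] : Fin 2 → chevD4.Idx)) ∘ₗ (Rad p).subtype)
    ((injective_iff_map_eq_zero _).2 fun v hv => Subtype.ext ?_)).trans (by simp)
  obtain ⟨h, h0, h1, -, -⟩ := rad_eqs v.2
  have a0 : v.1 (Sum.inl (0 : Fin 4)) = 0 := congrFun hv 0
  have a2 : v.1 (Sum.inl (2 : Fin 4)) = 0 := congrFun hv 1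
  exact eq_zero h a0 (by linear_combination 2 * a0 - h0) a2 (by linear_combination 3 * a0 - 2 * h0 - h1 - a2)

/-- a vector fixed by `H` lies in the radical if `H` has no fixed covectors -/
theorem mem_rad {H : Subgroup T} (h : ∀ C, H ≤ cof (rho m) C → C = ⊤) {v : chevD4.Idx → KK p} (hv : H ≤ stb (rho m) v) :
    v ∈ Rad p := by
  have h1 := h (LinearMap.ker (dotProductBilin (KK p) (KK p) (Co.fm chevD4 (fun _ => 1) (KK p) *ᵥ v))) fun x hx w => by
    have h2 := (Co.fm_inv Nodes.RGDTwD4.hp.inList okD (K := KK p) (fun _ _ => by simp) (m.ι x)).1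
    have h3 : Co.rh chevD4 (KK p) (m.ι x) *ᵥ v = v := hv hx
    change (Co.fm chevD4 (fun _ => 1) (KK p) *ᵥ v) ⬝ᵥ (Co.rh chevD4 (KK p) (m.ι x) *ᵥ w - w) = 0
    rw [dotProduct_sub, dotProduct_mulVec, ← mulVec_transpose, sub_eq_zero]
    conv_lhs => rw [← h3, mulVec_mulVec, mulVec_mulVec, h2]
  change Co.fm chevD4 (fun _ => 1) (KK p) *ᵥ v = 0
  exact dotProduct_eq_zero _ fun w => (eq_top_iff.1 h1 (Submodule.mem_top (x := w)) :)

include hd hg in
/-- **the fixed vectors** -/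
theorem stb_top (v : chevD4.Idx → KK p) (hv : ⊤ ≤ stb (rho m) v) : v ∈ Rad p := mem_rad m (cof_top m hd hg) hv

theorem finrank_ad : finrank (KK p) (chevD4.Idx → KK p) = 28 := by
  rw [Module.finrank_fintype_fun_eq_card, Fintype.card_sum, Fintype.card_fin, Fintype.card_fin]
  rfl

end Cfsg.Agent.N2.G2.Sc
end

-- part: N2/G2/SzE
section
/-!
# N2 (S3519) : the two models of the Suzuki group over the field of eight elements (helper87)
-/

set_option autoImplicit false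

namespace Cfsg.Agent.N2.G2

open Cfsg

theorem sz_eq {F : Type} [Field F] [Fintype F] (h : Fintype.card F = 8) : Cfsg.Sz F 4 = Cfsg.Sz F 1 := by
  have h1 : ∀ x : F, x ^ 2 ^ (4 + 1) = x ^ 2 ^ (1 + 1) := fun x => by
    rw [show 2 ^ (4 + 1) = 8 * 2 ^ (1 + 1) by norm_num, pow_mul, ← h, FiniteField.pow_card]
  have h2 : suzukiOvoid F 4 = suzukiOvoid F 1 := by
    simp only [suzukiOvoid, pow_add _ (2 ^ _), h1]
  rw [Cfsg.Sz, h2]

/-- the group `Cfsg.Sz F 4` of `pX` is the Suzuki group -/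
theorem sz_four {F : Type} [Field F] [Fintype F] (h : Fintype.card F = 8) : Nonempty (Cfsg.Sz F 4 ≃* Lie.Sz F 4) :=
  sz_eq h ▸ OddCyclic.ClaimC.SzIso.iso (m := 1) le_rfl h

end Cfsg.Agent.N2.G2
end

private theorem dce_1abf04077027 : _root_.True := by
  try have : _root_.True := by simp only [_root_.Cfsg.Agent.DS.Nt.dd.eq_1]
  try have : _root_.True := by simp only [_root_.Cfsg.Agent.H469.Exc.KK.congr_simp]
  try have : _root_.True := by simp only [_root_.Cfsg.Agent.FP3.dfx.eq_1]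
  try have : _root_.True := by simp only [_root_.Cfsg.suzukiOvoid.eq_1]
  try have : _root_.True := by simp only [_root_.Cfsg.Sz.eq_1]
  exact _root_.True.intro
end

-- part: N2/G2/Why
section
prune_inst 0x1300000002202000018058441003c2694000400006b04008c610100048089024d008f410d0031054a0a810000040468120800900040000004200400000501208082020eb048a000040099000084000000000000000000000000000000004004000000000
set_option linter.all false
open scoped Cfsg.Agent.FastGrp

/-!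
# N2 (S3519), `³D₄(q)`: the box [Why] (helper75)
-/

set_option autoImplicit false
set_option linter.unusedSectionVars false

namespace Cfsg.Agent.N2.G2

open Subgroup CoxeterSystem Cfsg Cfsg.Lie Cfsg.Lie.ChevalleyDatum Cfsg.Agent.FP3 Cfsg.Agent.H316.U6
open Cfsg.Agent.ChevalleyStructure Cfsg.Agent.ChevalleyStructure.Elts Cfsg.Agent.ChevalleyStructure.CoxeterGeom
  Cfsg.Agent.ChevalleyStructure.CoxeterGeomTypes
open Cfsg.Agent.Tits.Roots Cfsg.Agent.Nodes Cfsg.Agent.Nodes.Reps Cfsg.Agent.Nodes.BNOf Cfsg.Agent.Nodes.RGDChev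
  Cfsg.Agent.Nodes.Coroot Cfsg.Agent.Nodes.RGDTwD4
open Cfsg.Agent.KFacts.RgdField Cfsg.Agent.KFacts.RgdChevCoord Cfsg.Agent.BpExc.LangFr
open Cfsg.Agent.H469.Exc Cfsg.Agent.H129.TorusChar Cfsg.Agent.DS.Ex Cfsg.Agent.DS.Ex.Tor Cfsg.Agent.DS.Nt
  Cfsg.Agent.N2.Ex Cfsg.Agent.H81.TorOrth Cfsg.Agent.H605.MX
open Cfsg.Agent.SB.Low (Cz Md im Sat RD boxTabD boxNS comm_of_orth)
open Cfsg.Agent.ChevalleyStructure.SL2Hom (up lo mem_closure_SL2)
open Cfsg.Agent.Nodes.RGDFoldSL (hS)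

namespace Wy

variable {e : ℕ} {α : MulAut (YY chevD4 2)} {θ : (Fin 4 → ℤ) ≃+ (Fin 4 → ℤ)} (he : 0 < e) (hα : IsFrob 2 e α)
  (F : FR hp 2 α θ)

/-- the datum of the frame -/
noncomputable abbrev dt : DL.Datum 2 (chevD4.group (KK 2)).subtype α ⊤ := DL.Ex.chevFr hp (locFin 2) he hα F

theorem chi {t : YY chevD4 2} (ht : t ∈ TT chevD4 (KK 2)) (a : Fin 4 → ℤ) : (dt he hα F).χ a t = cX hp t a := by
  obtain ⟨c, rfl⟩ := (DL.Ex.mem_TT_iff hp t).1 ht
  exact ((dt he hα F).χ_τ a c).trans (DL.Ex.cX_tau hp c a).symm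

theorem sat (Z : Set (YY chevD4 2)) : Sat 2 ((dt he hα F).Lam Z) := fun x hx z hz => by
  have h := hx z hz
  rw [(dt he hα F).χ_zsmul, zpow_ofNat, sq_eq_one_iff, CharTwo.neg_eq, or_self] at h
  exact h

theorem X_le {t : YY chevD4 2} (ht : t ∈ TT chevD4 (KK 2)) {b : Fin 4 → ℤ} (hb : RT hp b) (h : cX hp t b = 1) :
    XX chevD4 4 (KK 2) b ≤ centralizer {t} := fun x hx => by
  obtain ⟨u, rfl⟩ := (K.mem_XX hp hb).1 hx
  have h1 := K.T_conj_xc hp ht hb u
  rw [h, one_mul] at h1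
  exact mem_centralizer_singleton_iff.2 (mul_inv_eq_iff_eq_mul.1 h1).symm

theorem up_ne {E : Type} [Field E] : (up 1 : Matrix.SpecialLinearGroup (Fin 2) E) ≠ 1 := fun h => by
  simpa [up] using congrFun (congrFun (congrArg Subtype.val h) 0) 1

theorem hv_neg (r : Fin chevD4.nroots) : hv chevD4 2 (chevD4.neg r) = -hv chevD4 2 r := by
  have h : ∀ (r : Fin chevD4.nroots) (i : Fin chevD4.rank), Columns.cor chevD4 (chevD4.neg r) i = -Columns.cor chevD4 r i := by
    decide +kernel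
  funext i
  rcases i with i | s
  · exact (congrArg Int.cast (h r i)).trans (Int.cast_neg _)
  · exact neg_zero.symm

include he hα F in
/-- the group `SL₂(q³)` -/
theorem psi (h4 : 4 ≤ 2 ^ e) {c : Fin 4 → ℤ} (hc : RT hp c) (h3 : θ (θ (θ c)) = c)
    (h1 : cpr coxeterD4.toCoxeterSystem hp.isCartan (θ c) c = 0)
    (h2 : cpr coxeterD4.toCoxeterSystem hp.isCartan (θ (θ c)) c = 0) :
    ∃ (ψ : Matrix.SpecialLinearGroup (Fin 2) (GaloisField 2 (e * 3)) →* YY chevD4 2) (g : _) (ζ : KK 2),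
      (∀ g, α (ψ g) = ψ g) ∧ (∀ g, ψ g ∈ MS chevD4 2 {c, -c, θ c, -θ c, θ (θ c), -θ (θ c)}) ∧
      ψ (up 1) ∈ MS chevD4 2 {c, θ c, θ (θ c)} ∧ IsPrimitiveRoot ζ ((2 ^ e) ^ 3 - 1) ∧ ψ g ∈ TT chevD4 (KK 2) ∧
      ∀ x, cX hp (ψ g) x = ζ ^ (cpr coxeterD4.toCoxeterSystem hp.isCartan x c +
        (2 ^ e : ℕ) * cpr coxeterD4.toCoxeterSystem hp.isCartan x (θ c) +
        (2 ^ e : ℕ) ^ 2 * cpr coxeterD4.toCoxeterSystem hp.isCartan x (θ (θ c))) := by
  obtain ⟨s, hs, rfl⟩ := (isRoot_iff hp _ c).1 hc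
  have := Fintype.ofFinite (GaloisField 2 (e * 3))
  have hE : Fintype.card (GaloisField 2 (e * 3)) = (2 ^ e) ^ 3 := by
    rw [← Nat.card_eq_fintype_card, GaloisField.card 2 _ (by omega), pow_mul]
  let j : GaloisField 2 (e * 3) →+* KK 2 := (IsAlgClosed.lift : GaloisField 2 (e * 3) →ₐ[ZMod 2] KK 2).toRingHom
  have hr : ∀ {a}, RT hp a → RT hp (θ a) := fun ha => (F.root _).2 ha
  obtain ⟨ψ, p1, p2, p3, -, p4, -⟩ := exists_psi hp coxeterD4.toCoxeterSystem (locFin 2) hα F hs (a := 3)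
    (Nat.one_lt_pow three_ne_zero (by omega)) h3 (fun i h0 h5 => by
      interval_cases i
      exacts [so_of hc (hr hc) h1, so_of hc (hr (hr hc)) h2]) hE j
  obtain ⟨z, hz⟩ := IsCyclic.exists_ofOrder_eq_natCard (α := (GaloisField 2 (e * 3))ˣ)
  rw [Nat.card_units, Nat.card_eq_fintype_card, hE] at hz
  have z0 : j z ≠ 0 := (map_ne_zero j).2 z.ne_zero
  refine ⟨ψ, hS z, j z, p1, fun g => ?_, ?_, (IsPrimitiveRoot.coe_units_iff.2 (hz ▸ IsPrimitiveRoot.orderOf z)).map_of_injective j.injective,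
    p3 _ z.ne_zero ▸ hTh_mem hp coxeterD4.toCoxeterSystem (locFin 2) hα F hs 3 z0, fun x => ?_⟩
  · obtain ⟨g', h⟩ := p2 g
    rw [h]
    refine dl_mem fun i hi => ?_
    obtain ⟨s', hs', h5, h6⟩ := pow_ps hp coxeterD4.toCoxeterSystem (locFin 2) hα F hs i
    obtain ⟨g'', h7⟩ := h6 g'
    rw [h7]
    refine ps_mem hs' (RGD.le_Sup ?_) (RGD.le_Sup ?_) _ <;> rw [h5] <;> interval_cases i <;> simp
  · obtain ⟨u, h, -⟩ := p4 1
    have h5 := xs_mem hp hs u
    have h6 := (F.map _ hc _).2 h5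
    have h7 := (F.map _ (hr hc) _).2 h6
    rw [h]
    refine dl_mem fun i hi => ?_
    rw [ps_up]
    interval_cases i
    exacts [RGD.le_Sup (Or.inl rfl) h5, RGD.le_Sup (Or.inr (Or.inl rfl)) h6, RGD.le_Sup (Or.inr (Or.inr rfl)) h7]
  · rw [p3 _ z.ne_zero, cX_hTh hp coxeterD4.toCoxeterSystem (locFin 2) hα F hs 3 z0]
    congr 1
    simp [Finset.sum_range_succ]

variable {w : coxeterD4.Group}
  (hθ : ∀ x, θ x = rep coxeterD4.toCoxeterSystem hp.isCartan w (H720.TwFr.permE H720.TwFr.rho4 x))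
  {T : Type} [Group T] [Finite T] {ι : T →* YY chevD4 2} (hi : Function.Injective ι) (hR : ∀ y, α y = y ↔ ∃ x, ι x = y)
  {s : T} (ht : ι s ∈ TT chevD4 (KK 2)) (hpos : ∀ a, RT hp a → cX hp (ι s) a = 1 → 0 ≤ a → 0 ≤ θ a)

include he hα F hθ hi hR ht hpos in
theorem frame (h4 : 4 ≤ 2 ^ e) (ho : orderOf s = 2 ^ e + 1) (hd : dd 2 (ι s) = 10)
    (hn : cn s = (2 ^ e + 1) * ((2 ^ e) ^ 3 * ((2 ^ e) ^ 6 - 1))) :
    Nat.card (Mc s) = (2 ^ e) ^ 3 * ((2 ^ e) ^ 6 - 1) ∧ ¬ Group.IsSolvable (Cz (Mc s)) ∧ ∃ (f : _ →ₗ[KK 2] KK 2) (h : _),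
      ∀ g ∈ Cz (Mc s), ι g ∈ Gm (ad chevD4 2) (fixSp (ad chevD4 2 (ι s)) ⊓ LinearMap.ker f)
        (comSp (ad chevD4 2 (ι s)) ⊔ Submodule.span (KK 2) {h}) := by
  have := finite_W hp coxeterD4.toCoxeterSystem
  have hM : Md e (dt he hα F) ι θ.toAddMonoidHom :=
    ⟨SB.Exc.CI.fq he hα, hi, hR, fun _ _ => rfl, Function.bijective_id, fun _ => rfl⟩
  obtain ⟨a, c, ha, hc, a1, c3, ⟨p0, p1, p2⟩, ⟨o1, o2, o3⟩, ⟨t0, t1, t2⟩, hb⟩ :=
    roots hα F hθ ht (hM.fix s) hpos h4 ((orderOf_injective ι hi s).trans ho) hd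
  have hr : ∀ {a}, RT hp a → RT hp (θ a) := fun ha => (F.root _).2 ha
  obtain ⟨ψ, g₀, ζ, q1, q2, q3, hζ, q4, q5⟩ := psi he hα F h4 hc c3 o1 o2
  have six : ∀ b ∈ ({c, -c, θ c, -θ c, θ (θ c), -θ (θ c)} : Set (Fin 4 → ℤ)), RT hp b ∧ cX hp (ι s) b = 1 := by
    rintro _ (rfl | rfl | rfl | rfl | rfl | rfl)
    exacts [⟨hc, t0⟩, ⟨hc.neg, (Lm ht).neg_mem t0⟩, ⟨hr hc, t1⟩, ⟨(hr hc).neg, (Lm ht).neg_mem t1⟩, ⟨hr (hr hc), t2⟩,
      ⟨(hr (hr hc)).neg, (Lm ht).neg_mem t2⟩]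
  have reg : ∀ b, RT hp b → cX hp (ψ g₀) b = 1 → b = a ∨ b = -a := fun b h1 h2 => by
    by_contra h3
    rw [not_or] at h3
    refine no_pow hζ ?_ h4 ((q5 b).symm.trans h2)
    by_cases h5 : cX hp (ι s) b = 1
    swap
    · exact Or.inr (Or.inr (Or.inr ((hb b h1).2.2 h5 h3.1 h3.2)))
    have s1 := (rd.symm _ _ hc (hr hc)).trans o1
    have s2 := (rd.symm _ _ hc (hr (hr hc))).trans o2
    have s3 := (rd.symm _ _ (hr hc) (hr (hr hc))).trans o3
    rcases (hb b h1).2.1 h5 with rfl | rfl | rfl | rfl | rfl | rfl <;>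
      simp [cpr_neg _ _ _ hc, cpr_neg _ _ _ (hr hc), cpr_neg _ _ _ (hr (hr hc)), cpr_self _ _ hc, cpr_self _ _ (hr hc),
        cpr_self _ _ (hr (hr hc)), o1, o2, o3, s1, s2, s3]
  have hE : Nat.card (GaloisField 2 (e * 3)) = (2 ^ e) ^ 3 := by rw [GaloisField.card 2 _ (by omega), pow_mul]
  have hs := H320.Kill.simple_sl (F := GaloisField 2 (e * 3)) CharTwo.two_eq_zero
    (hE ▸ h4.trans (Nat.le_self_pow three_ne_zero _))
  have hψ : Function.Injective ψ := (MonoidHom.ker_eq_bot_iff ψ).1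
    ((IsSimpleGroup.eq_bot_or_eq_top_of_normal _ inferInstance).resolve_right fun h => by
      have h1 : ψ g₀ = 1 := h.ge (mem_top g₀)
      have h2 := (hb c hc).1.1 t0
      rcases reg c hc (by rw [h1, cX_one]) with rfl | rfl
      · rw [cpr_self _ _ ha] at h2
        omega
      · rw [cpr_neg _ _ _ ha, cpr_self _ _ ha] at h2
        omega)
  let φ : _ →* T := (MonoidHom.ofInjective hi).symm.toMonoidHom.comp (ψ.codRestrict ι.range fun g => (hR _).1 (q1 g))
  have hφ : ∀ g, ι (φ g) = ψ g := fun g => MonoidHom.apply_ofInjective_symm hi _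
  have cen : ∀ {y : YY chevD4 2}, (∀ b, RT hp b → cX hp (ι s) b = 1 → XX chevD4 4 (KK 2) b ≤ centralizer {y}) →
      ∀ g, ψ g * y = y * ψ g := fun h g => mem_centralizer_singleton_iff.1
        ((RGD.Sup_le fun b hb' => h b (six b hb').1 (six b hb').2 : _ ≤ centralizer {_}) (q2 g))
  have orth : ∀ y ∈ MS chevD4 2 {a, -a}, ∀ g, ψ g * y = y * ψ g := fun y hy => cen fun b h1 h2 x hx =>
    mem_centralizer_singleton_iff.2 (comm_of_orth (D := dt he hα F) rd h1 ha ((hb b h1).1.1 h2) x (mem_sup_left hx) y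
      ((RGD.Sup_le (by
        rintro _ (rfl | rfl)
        exacts [le_sup_left, le_sup_right]) : _ ≤ (dt he hα F).X a ⊔ (dt he hα F).X (-a)) hy))
  have hcard : Nat.card (Matrix.SpecialLinearGroup (Fin 2) (GaloisField 2 (e * 3))) = (2 ^ e) ^ 3 * ((2 ^ e) ^ 6 - 1) := by
    have := Fintype.ofFinite (GaloisField 2 (e * 3))
    rw [ClassicalGeometry.PSL2Basic.card_SL2, ← Nat.card_eq_fintype_card, hE, ← pow_mul (2 ^ e)]
  have hφi : Function.Injective φ := fun x y h => hψ (by rw [← hφ, ← hφ, h])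
  rw [mc_eq H320.Kill.not_comm_sl hφi (fun g => hi (by
    rw [map_mul, map_mul, hφ]
    exact cen (fun b => X_le ht) g)) (by rw [hn, ho, hcard])]
  refine ⟨(Nat.card_congr (MonoidHom.ofInjective hφi).toEquiv).symm.trans hcard, fun hsol => ?_, ?_⟩
  · refine boxNS 2 _ _ _ _ α ⊤ (dt he hα F) e 1 a hM.ex ha one_pos (by rwa [pow_one]) a1 (fun i _ i' _ _ => by omega)
      (hM.solv hsol fun g hg => mem_centralizer_iff.2 ?_)
    rintro _ ⟨x, rfl⟩
    refine hi ?_
    rw [map_mul, map_mul, hφ]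
    refine orth _ (RGD.Sup_mono ?_ hg) x
    rintro b ⟨i, h1, h2⟩
    obtain rfl : i = 0 := by omega
    exact h2
  obtain ⟨r, rfl⟩ := K.exists_idx hp ha
  refine ⟨rf hp (vec chevD4 4 r), hv chevD4 2 r, fun g hg => ?_⟩
  have h1 : ∀ x, ψ x * ι g = ι g * ψ x := fun x => by rw [← hφ, ← map_mul, ← map_mul, mem_centralizer_iff.1 hg _ ⟨x, rfl⟩]
  have hZ : im ι (zpowers (φ g₀)) ⊆ (dt he hα F).T := by
    rintro _ ⟨_, ⟨i, rfl⟩, rfl⟩
    rw [map_zpow, hφ]
    exact zpow_mem q4 i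
  obtain ⟨u, hu, t, h2, h3⟩ := ((dt he hα F).mem_TS (dt he hα F).Sz_root).1 (hM.mem_cen hZ rd.pp (sat he hα F _)
    (show g ∈ Cz (zpowers (φ g₀)) from centralizer_le (zpowers_le.2 (show φ g₀ ∈ φ.range from ⟨g₀, rfl⟩)) hg))
  have h5 : u ∈ MS chevD4 2 {vec chevD4 4 r, -vec chevD4 4 r} := RGD.Sup_mono (fun b h => reg b h.1 (by
    rw [← chi he hα F q4, ← hφ]
    exact h.2 _ ⟨_, mem_zpowers _, rfl⟩)) hu
  have h6 : ψ (up 1) * t = t * ψ (up 1) := by
    have h7 := h1 (up 1)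
    rw [h3, ← mul_assoc, orth u h5, mul_assoc, mul_assoc] at h7
    exact mul_left_cancel h7
  have h7 : ∀ t, ψ (up 1) * t = t * ψ (up 1) → ψ (up 1) * α t = α t * ψ (up 1) := fun t h => by
    rw [← q1, ← map_mul, ← map_mul, h]
  have k1 := (F.tor t).2 h2
  have k2 := (F.tor _).2 k1
  have k3 : ∀ t ∈ TT chevD4 (KK 2), ∀ x, cX hp (α t) (θ x) = 1 → cX hp t x = 1 := fun t ht x h => by
    rw [cX_sigma hp coxeterD4.toCoxeterSystem hα F ht, ← one_pow (2 ^ e)] at h
    exact (iterateFrobenius (KK 2) 2 e).injective h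
  have h8 : cX hp t c = 1 ∧ cX hp t (θ c) = 1 ∧ cX hp t (θ (θ c)) = 1 := by
    by_contra h8
    have hZ' : ({ι s, t, α t, α (α t)} : Set (YY chevD4 2)) ⊆ (dt he hα F).T := by
      rintro _ (rfl | rfl | rfl | rfl) <;> assumption
    have h9 : ψ (up 1) ∈ (dt he hα F).S _ := ((dt he hα F).uni_pos.inf_centralizer hZ').le ⟨RGD.Sup_mono (by
      rintro _ (rfl | rfl | rfl)
      exacts [⟨hc, p0⟩, ⟨hr hc, p1⟩, ⟨hr (hr hc), p2⟩]) q3, by
      rintro _ (rfl | rfl | rfl | rfl)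
      exacts [(cen (fun b => X_le ht) _).symm, h6.symm, (h7 _ h6).symm, (h7 _ (h7 _ h6)).symm]⟩
    refine up_ne (hψ ((mem_bot.1 ((RGD.Sup_le fun b hb' => (h8 ?_).elim : _ ≤ ⊥) h9)).trans (map_one ψ).symm))
    obtain ⟨b1, b2⟩ := hb'
    have e0 := (chi he hα F ht b).symm.trans (b2.2 _ (Or.inl rfl))
    have e1 := (chi he hα F h2 b).symm.trans (b2.2 _ (Or.inr (Or.inl rfl)))
    have e2 := (chi he hα F k1 b).symm.trans (b2.2 _ (Or.inr (Or.inr (Or.inl rfl))))
    have e3 := (chi he hα F k2 b).symm.trans (b2.2 _ (Or.inr (Or.inr (Or.inr rfl))))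
    have n : ∀ x, RT hp x → 0 ≤ x → b ≠ -x := fun x hx x0 h => hx.not_pos_neg x0 (neg_nonneg.1 (h ▸ b1.2))
    rcases (hb b b1.1).2.1 e0 with h | h | h | h | h | h
    · rw [h] at e1
      rw [h, ← c3] at e2 e3
      exact ⟨e1, k3 _ h2 _ (k3 _ k1 _ e3), k3 _ h2 _ e2⟩
    · exact (n _ hc p0 h).elim
    · rw [h] at e1 e2
      rw [h, ← c3] at e3
      exact ⟨k3 _ h2 _ e2, e1, k3 _ h2 _ (k3 _ k1 _ e3)⟩
    · exact (n _ (hr hc) p1 h).elim
    · rw [h] at e1 e2 e3
      exact ⟨k3 _ h2 _ (k3 _ k1 _ e3), k3 _ h2 _ e2, e1⟩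
    · exact (n _ (hr (hr hc)) p2 h).elim
  rw [h3]
  refine mul_mem ((RGD.Sup_le ?_ : _ ≤ Gm _ _ _) h5) (T_mem hp ht h2 (fun b b1 b2 => ?_) _ _)
  · rintro _ (rfl | rfl)
    · exact X_mem hp ht rd.symm r fun b b1 b2 => (hb b b1).1.1 b2
    · have v := vec_neg hp r.2
      have h9 := X_mem hp ht rd.symm ⟨_, NPerm.neg_lt hp.inList r.2⟩ fun b b1 b2 => by
        rw [v, cpr_neg_right _ _ _ ha, (hb b b1).1.1 b2, neg_zero]
      rw [v, hv_neg, show rf hp (-vec chevD4 4 r) = -rf (p := 2) hp (vec chevD4 4 r) from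
        LinearMap.ext fun x => map_neg (K.rl hp x) _, LinearMap.ker_neg, ← Set.neg_singleton, Submodule.span_neg] at h9
      exact h9
  · rcases (hb b b1).2.1 b2 with rfl | rfl | rfl | rfl | rfl | rfl
    exacts [h8.1, (Lm h2).neg_mem h8.1, h8.2.1, (Lm h2).neg_mem h8.2.1, h8.2.2, (Lm h2).neg_mem h8.2.2]

theorem not_dvd {q m n : ℕ} (h4 : 4 ≤ q) (h : Bd q m n) (hd : q + 1 ∣ m) : m = q + 1 ∧ n = q ^ 3 * (q ^ 6 - 1) := by
  rcases h with ⟨rfl | rfl, h⟩ | ⟨rfl, -⟩ | ⟨rfl, -⟩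
  · exact absurd (Nat.le_of_dvd (by omega) hd) (by omega)
  · exact ⟨rfl, h⟩
  · rw [show q ^ 2 + q + 1 = (q + 1) * q + 1 by ring, Nat.dvd_add_right (dvd_mul_right _ _)] at hd
    exact absurd (Nat.le_of_dvd one_pos hd) (by omega)
  · obtain ⟨t, rfl⟩ := Nat.exists_eq_add_of_le' h4
    rw [show (t + 4) ^ 2 - (t + 4) + 1 = (t + 4 + 1) * (t + 2) + 3 by
      rw [show (t + 4) ^ 2 = t * t + 7 * t + 12 + (t + 4) by ring, Nat.add_sub_cancel]; ring,
      Nat.dvd_add_right (dvd_mul_right _ _)] at hd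
    exact absurd (Nat.le_of_dvd three_pos hd) (by omega)

end Wy

open Wy

/-- **[Why]** -/
theorem boxWhy : BoxWhy := by
  rintro p _ k q T _ _ _ d hM - hB - rfl rfl h4 s ho h10
  obtain ⟨h, -⟩ | ⟨-, -, ⟨m, hd, hg, hm⟩, -⟩ := hM
  · omega
  have hq := m.hq
  have hc : (q + 1).Coprime 2 := by
    rw [Nat.coprime_two_right, ← hq]
    exact (Nat.even_pow.2 ⟨even_two, m.he.ne'⟩).add_one
  obtain ⟨a, n, z, h1, h2, h3, h5, -⟩ := hB.bad3 rfl s (ho ▸ hc) h10
  obtain ⟨rfl, rfl⟩ := not_dvd h4 h1 (by rw [← ho, ← h3]; exact orderOf_dvd_of_mem_zpowers h5)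
  obtain ⟨f⟩ := H169.RG.exists_torForm m (m.fix s) (Nat.succ_ne_zero _) hc
    (by rw [← map_pow, Nat.succ_eq_add_one, ← ho, pow_orderOf_eq_one, map_one])
  let ι : T →* YY chevD4 2 := (MulAut.conj f.z⁻¹).toMonoidHom.comp m.ι
  have hι : ∀ x, ι x = f.z⁻¹ * m.ι x * f.z⁻¹⁻¹ := fun _ => rfl
  have hs : ι s = f.t := (congrArg (fun y => f.z⁻¹ * y * f.z⁻¹⁻¹) f.eq).trans (by group)
  have hdd : ∀ x, dd 2 (ι x) = d x := fun x => by rw [hι, dd_conj, hm]
  obtain ⟨r1, r2, φ, h, r3⟩ := frame m.he f.frob f.fr (w := f.w) (fun x => by rw [f.hθ, hg]) (ι := ι)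
    ((MulAut.conj f.z⁻¹).injective.comp m.inj) (fun y => ⟨fun hy => by
      obtain ⟨x, hx⟩ := Sc.exists_pre m hd ((f.fix_iff' y).2 hy)
      exact ⟨x, by rw [hι, hx]; group⟩, by
      rintro ⟨x, rfl⟩
      rw [hι, inv_inv]
      exact (f.fix_iff _).2 (m.fix x)⟩) (s := s) (hs ▸ f.mem)
    (fun a ha h => f.pos a ⟨ha, by rwa [hs, cX_root hp coxeterD4.toCoxeterSystem f.mem ha] at h⟩) (h4.trans hq.ge) (by rw [hq, ho])
    ((hdd s).trans h10) (by rw [hq, h2])
  rw [hq] at r1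
  refine ⟨r1, r2, fun x y hxy h32 ht => ?_⟩
  have k : ∀ g v, ad chevD4 2 (m.ι g) (ad chevD4 2 f.z v) = ad chevD4 2 f.z (ad chevD4 2 (ι g) v) := fun g v => by
    rw [← ad_mul, ← ad_mul, hι, inv_inv, ← mul_assoc, mul_inv_cancel_left]
  have k' : ∀ v, ad chevD4 2 f.z (ad chevD4 2 f.z⁻¹ v) = v := fun v => by rw [← ad_mul, mul_inv_cancel, ad_one]
  have k'' : ∀ v, ad chevD4 2 f.z⁻¹ (ad chevD4 2 f.z v) = v := fun v => by rw [← ad_mul, inv_mul_cancel, ad_one]
  have h6 := scott_key ((ad chevD4 2).comp ι) hxy φ h r3 ht (n := 2) (fun X hX => le_trans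
    (LinearMap.finrank_le_finrank_of_injective (f := (ad chevD4 2 f.z ∘ₗ X.subtype).codRestrict (Sc.Rad 2) fun v =>
      Sc.stb_top m hd hg _ fun g _ => (k g v).trans (congrArg _ (hX g v v.2))) fun v w e =>
        Subtype.ext ((k'' _).symm.trans ((congrArg (fun u : Sc.Rad 2 => ad chevD4 2 f.z⁻¹ u) e).trans (k'' _)))) Sc.rad_le)
    fun V hV => eq_top_iff.2 fun v _ => by
      have h7 := (Sc.cof_top m hd hg (V.comap (ad chevD4 2 f.z⁻¹)) fun g _ u => by
        show ad chevD4 2 f.z⁻¹ (ad chevD4 2 (m.ι g) u - u) ∈ V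
        rw [← k' u, k, map_sub, k'', k'']
        exact hV g _).ge (Submodule.mem_top (x := ad chevD4 2 f.z v))
      rwa [Submodule.mem_comap, k''] at h7
  simp only [MonoidHom.comp_apply, ← Ln.dd_eq, hdd, Sc.finrank_ad] at h6
  omega

end Cfsg.Agent.N2.G2
end

-- part: N2/Cl/FrL/Main_mg
section
prune_inst 0x101001001400000000000000400000206000000000000800008008000100200000400000000000001002010000000000000800000000000000000000000400001000000400000000000000000000000000000000000000000000000000000000000000000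
set_option linter.all false
open scoped Cfsg.Agent.FastGrp

-- part: N2/Cl/FrL/Br
section
/-!
# N2 (S3519), linear groups: counting in `GL(V)` (helper53)

`gd_of_GL`: if `M ≤ GL(V)` cuts out `H ⊓ F.S` on the elements of determinant one and has all determinants, then
`|C(a)|³ |M| ≤ (q - 1)³ |GL(V)|` for some `a ∈ M` of determinant one is enough.
-/

set_option autoImplicit false
set_option linter.unusedSectionVars false

namespace Cfsg.Agent.N2C.FrL

open Cfsg.Agent.DS.Cl Cfsg.Agent.DS.Cl.Fwd Module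
open Cfsg.Agent.FP3 (Good fx)
open Cfsg.Agent.N2 (cn cc fx_mul fx_over good_comap)
open Cfsg.Agent.SB.Fld (prL)
open Cfsg.Agent.TH.Cl (KL)

/-- **overgroup criterion**: the conjugates of `a` lie in the kernel of `d` -/
theorem good_ker {G C : Type*} [Group G] [Finite G] [CommGroup C] (d : G →* C) {M : Subgroup G}
    (hM : ∀ c, ∃ g ∈ M, d g = c) {a : G} (ha : a ∈ M) (h1 : d a = 1) {c : ℕ} (hc : cn a ≤ c)
    (h : c ^ 3 * Nat.card M ≤ Nat.card C ^ 3 * Nat.card G) : Good (M.comap d.ker.subtype) := by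
  obtain ⟨e1, e2⟩ := fx_over d.ker.subtype M (fun g => by
    obtain ⟨m, hm, e⟩ := hM (d g)
    refine ⟨⟨g * m⁻¹, by rw [MonoidHom.mem_ker, map_mul, map_inv, e, mul_inv_cancel]⟩, ?_⟩
    change (g * m⁻¹)⁻¹ * g ∈ M
    rwa [mul_inv_rev, inv_inv, inv_mul_cancel_right]) ⟨a, h1⟩
  refine ⟨⟨a, h1⟩, ha, ?_⟩
  rw [e1, e2]
  change fx M a ^ 3 ≤ _
  have hs : Function.Surjective (d.comp M.subtype) := fun c => by
    obtain ⟨g, hg, e⟩ := hM c
    exact ⟨⟨g, hg⟩, e⟩
  have h2 : Nat.card C * Nat.card (d.comp M.subtype).ker = Nat.card M := by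
    rw [← (d.comp M.subtype).ker.index_mul_card, Subgroup.index_ker, MonoidHom.range_eq_top.2 hs, Subgroup.card_top]
  have h3 : cc M a ≤ Nat.card (d.comp M.subtype).ker :=
    Nat.card_le_card_of_injective (fun g => ⟨⟨g.1, g.2.2⟩, by
      obtain ⟨x, hx⟩ := isConj_iff.1 g.2.1
      change d g.1 = 1
      rw [← hx, map_mul, map_mul, h1, mul_one, map_inv, mul_inv_cancel]⟩)
      fun _ _ e => Subtype.ext (congrArg (fun x => x.1.1) e)
  have hp : 0 < Nat.card (d.comp M.subtype).ker := Nat.card_pos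
  have h4 : fx M a * Nat.card C ≤ c := by
    refine Nat.le_of_mul_le_mul_right ?_ hp
    rw [mul_assoc, h2, fx_mul]
    exact Nat.mul_le_mul hc h3
  have hC : 0 < Nat.card C := Nat.pos_of_ne_zero fun h0 => by
    rw [h0, zero_mul] at h2
    exact Nat.card_pos.ne h2
  refine Nat.le_of_mul_le_mul_right ?_ (Nat.mul_pos (pow_pos hC 3) (Nat.card_pos (α := M)))
  calc fx M a ^ 3 * (Nat.card C ^ 3 * Nat.card M) = (fx M a * Nat.card C) ^ 3 * Nat.card M := by ring
    _ ≤ c ^ 3 * Nat.card M := Nat.mul_le_mul_right _ (Nat.pow_le_pow_left h4 3)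
    _ ≤ _ := h
    _ = _ := by rw [← M.index_mul_card]; ring

variable {n : ℕ} {K : Type} [Field K] [Fintype K]

variable (n K) in
/-- the general linear group -/
abbrev GG : Type := (End K (Fin n → K))ˣ

variable (n K) in
/-- the isometry defined by an invertible linear map -/
noncomputable def lf : GG n K →* (LR (Fin n) K)ˣ := LR.gl.comp Matrix.GeneralLinearGroup.toLin.symm.toMonoidHom

variable (n K) in
/-- the determinant -/
noncomputable def dt : GG n K →* Kˣ := Units.map LinearMap.det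

theorem dt_val (g : GG n K) : (dt n K g : K) = LinearMap.det (g : End K (Fin n → K)) := rfl

theorem pr_lf (g : GG n K) : prL n K (lf n K g) = g := Matrix.toLinAlgEquiv'.apply_symm_apply _

theorem lf_iso (F : FR (LR (Fin n) K)) (g : GG n K) : lf n K g ∈ F.Iso :=
  mem_Iso_max (F.L_eq SB.Tor.eps_LR.cen SB.Tor.eps_LR.add) ((LR.mem_gl _).1 ⟨_, rfl⟩)

theorem exists_lf {F : FR (LR (Fin n) K)} {u : (LR (Fin n) K)ˣ} (hu : u ∈ F.Iso) : ∃ g, lf n K g = u := by
  obtain ⟨M, rfl⟩ := (LR.mem_gl u).2 hu.1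
  exact ⟨Matrix.GeneralLinearGroup.toLin M, congrArg LR.gl (MulEquiv.symm_apply_apply _ M)⟩

theorem card_GG : Nat.card (GG n K) = ∏ i : Fin n, (Fintype.card K ^ n - Fintype.card K ^ (i : ℕ)) := by
  classical
  rw [← Matrix.card_GL_field]
  exact Nat.card_congr Matrix.GeneralLinearGroup.toLin.symm.toEquiv

theorem finite_GG : Finite (GG n K) := by
  classical
  exact Finite.of_equiv _ (Matrix.GeneralLinearGroup.toLin (n := Fin n) (R := K)).toEquiv

/-- intertwining relations between symmetric elements can be read off on `V` -/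
theorem mul_eq_iff (g : GG n K) {e f : LR (Fin n) K} (he : star e = e) (hf : star f = f) :
    cj _ (lf n K g) e = f ↔ g * prL n K e = prL n K f * g := by
  constructor
  · intro h
    rw [← pr_lf g, ← map_mul, ← map_mul, ← h, cj_mul_eq]
  · intro h
    have h1 : ∀ u : (LR (Fin n) K)ˣ, (u : LR (Fin n) K) * star (u : LR (Fin n) K) = 1 → star (cj _ u e) = cj _ u e :=
      fun u hu => by rw [← cj_mem_SAut hu, he]
    have h2 : prL n K (cj _ (lf n K g) e) = prL n K f := by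
      rw [cj_apply, map_mul, map_mul, ← map_inv, pr_lf, pr_lf, h, mul_assoc, Units.mul_inv, mul_one]
    refine sub_eq_zero.1 (TH.Cl.prL_sep _ (by rw [map_sub, h2, sub_self]) ?_)
    rw [star_sub, h1 (lf n K g) ((LR.mem_gl _).1 ⟨_, rfl⟩), hf, map_sub, h2, sub_self]

variable {F : FR (LR (Fin n) K)} {H : Subgroup (RingAut (LR (Fin n) K))}

theorem mem_S (k : KL F) {g : GG n K} (hg : dt n K g = 1) : cj _ (lf n K g) ∈ F.S :=
  ⟨_, k.mem_comm (lf_iso F g) (by rw [pr_lf, ← dt_val, hg, Units.val_one]), rfl⟩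

theorem exists_of_mem_S (k : KL F) {s : RingAut (LR (Fin n) K)} (hs : s ∈ F.S) :
    ∃ g, dt n K g = 1 ∧ cj _ (lf n K g) = s := by
  obtain ⟨u, hu, rfl⟩ := hs
  obtain ⟨h1, h2⟩ := (SB.Tor.mem_comm_iff k.dim F u).1 hu
  obtain ⟨g, rfl⟩ := exists_lf h1
  exact ⟨g, Units.ext (by rw [dt_val, ← pr_lf, h2, Units.val_one]), rfl⟩

/-- the cover `SL(V) → F.S` -/
theorem gd_of_SL (k : KL F) {M : Subgroup (GG n K)} (hM : ∀ g, dt n K g = 1 → (g ∈ M ↔ cj _ (lf n K g) ∈ H))
    (h : Good (M.comap (dt n K).ker.subtype)) : Gd F H := by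
  let π : (dt n K).ker →* F.S := (((cj _).comp (lf n K)).comp (dt n K).ker.subtype).codRestrict F.S fun g => mem_S k g.2
  have hπ : Function.Surjective π := fun s => by
    obtain ⟨g, hg, e⟩ := exists_of_mem_S k s.2
    exact ⟨⟨g, hg⟩, Subtype.ext e⟩
  refine (good_comap π hπ _).1 ?_
  rwa [show (H.subgroupOf F.S).comap π = M.comap (dt n K).ker.subtype from Subgroup.ext fun g => (hM g g.2).symm]

/-- **criterion in `GL(V)`** -/
theorem gd_of_GL (k : KL F) {M : Subgroup (GG n K)} (hM : ∀ g, dt n K g = 1 → (g ∈ M ↔ cj _ (lf n K g) ∈ H))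
    (hd : ∀ c, ∃ g ∈ M, dt n K g = c) {a : GG n K} (ha : a ∈ M) (h1 : dt n K a = 1) {c : ℕ} (hc : cn a ≤ c)
    (h : c ^ 3 * Nat.card M ≤ (Fintype.card K - 1) ^ 3 * Nat.card (GG n K)) : Gd F H := by
  classical
  have := finite_GG (n := n) (K := K)
  refine gd_of_SL k hM (good_ker _ hd ha h1 hc ?_)
  rwa [Nat.card_eq_fintype_card (α := Kˣ), Fintype.card_units]

/-- the centraliser of a cyclic element -/
theorem cn_le_of_cyclic (a : GG n K) {v : Fin n → K} (hv : v ≠ 0)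
    (h : Submodule.span K (Set.range fun m : ℕ => ((a : End K (Fin n → K)) ^ m) v) = ⊤) :
    cn a ≤ Fintype.card K ^ n - 1 := by
  classical
  have h1 : Nat.card {w : Fin n → K // w ≠ 0} = Fintype.card K ^ n - 1 := by
    rw [Nat.card_eq_fintype_card, Fintype.card_subtype_compl, Fintype.card_subtype_eq, Fintype.card_fun, Fintype.card_fin]
  rw [← h1]
  refine Nat.card_le_card_of_injective (fun z : Subgroup.centralizer ({a} : Set (GG n K)) =>
    (⟨(z.1 : End K (Fin n → K)) v, fun h0 => hv ?_⟩ : {w : Fin n → K // w ≠ 0})) fun z z' e => ?_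
  · rw [← End.one_apply (R := K) v, ← z.1.inv_mul, End.mul_apply, h0, map_zero]
  · have h2 : ∀ z : Subgroup.centralizer ({a} : Set (GG n K)), ∀ m : ℕ,
        (z.1 : End K (Fin n → K)) (((a : End K (Fin n → K)) ^ m) v) = ((a : End K (Fin n → K)) ^ m) (z.1.1 v) :=
      fun z m => by
        have h3 : Commute (z.1 : End K (Fin n → K)) a :=
          congrArg Units.val (Subgroup.mem_centralizer_singleton_iff.1 z.2)
        rw [← End.mul_apply, (h3.pow_right m).eq, End.mul_apply]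
    refine Subtype.ext (Units.ext (LinearMap.ext_on_range h fun m => ?_))
    rw [h2, h2, show z.1.1 v = z'.1.1 v from congrArg Subtype.val e]

end Cfsg.Agent.N2C.FrL
end

-- part: N2/Cl/FrL/Num
section
/-!
# N2 (S3519), linear groups: the inequality for `GL_k(q) ≀ S_t` (helper53)
-/

set_option autoImplicit false

namespace Cfsg.Agent.N2C.FrL

/-- the order of `GL_m(q)` -/
def gN (q m : ℕ) : ℕ := ∏ i : Fin m, (q ^ m - q ^ (i : ℕ))

theorem gN_zero (q : ℕ) : gN q 0 = 1 := rfl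

theorem gN_succ (q m : ℕ) : gN q (m + 1) = q ^ m * (q ^ (m + 1) - 1) * gN q m := by
  rw [gN, gN, Fin.prod_univ_succ, Fin.val_zero, pow_zero, mul_comm (q ^ m), mul_assoc]
  congr 1
  rw [Finset.prod_congr rfl fun i _ => show q ^ (m + 1) - q ^ ((Fin.succ i : Fin (m + 1)) : ℕ) = q * (q ^ m - q ^ (i : ℕ)) by
    rw [Fin.val_succ, Nat.mul_sub, pow_succ', pow_succ'], Finset.prod_mul_distrib, Finset.prod_const, Finset.card_univ,
    Fintype.card_fin]

theorem gN_add {q : ℕ} (hq : 1 ≤ q) (m k : ℕ) : gN q m * gN q k * q ^ (2 * m * k) ≤ gN q (m + k) := by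
  induction k with
  | zero => simp [gN_zero]
  | succ k ih =>
    have h1 : q ^ m * (q ^ (k + 1) - 1) ≤ q ^ (m + k + 1) - 1 := by
      rw [Nat.mul_sub, ← pow_add, mul_one, add_assoc]
      exact Nat.sub_le_sub_left (Nat.one_le_pow _ _ hq) _
    rw [← add_assoc, gN_succ, gN_succ]
    calc _ = q ^ (m + k) * (q ^ m * (q ^ (k + 1) - 1)) * (gN q m * gN q k * q ^ (2 * m * k)) := by ring
      _ ≤ _ := Nat.mul_le_mul (Nat.mul_le_mul_left _ h1) ih

theorem gN_mul {q : ℕ} (hq : 1 ≤ q) (k t : ℕ) : gN q k ^ (t + 1) * q ^ (k * (t + 1) * (k * t)) ≤ gN q (k * (t + 1)) := by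
  induction t with
  | zero => simp
  | succ t ih =>
    calc _ = gN q k ^ (t + 1) * q ^ (k * (t + 1) * (k * t)) * gN q k * q ^ (2 * (k * (t + 1)) * k) := by ring
      _ ≤ gN q (k * (t + 1)) * gN q k * q ^ (2 * (k * (t + 1)) * k) := by gcongr
      _ ≤ _ := gN_add hq _ k

theorem fact_le {t m : ℕ} (h : t ≤ 2 ^ m) : t.factorial ≤ 2 ^ (t * m) := by
  rw [mul_comm, pow_mul]
  exact t.factorial_le_pow.trans (Nat.pow_le_pow_left h t)

theorem fact_le' {q k t : ℕ} (hq : 2 ≤ q) (hk : 1 ≤ k) (ht : 1 ≤ t) (h5 : 5 ≤ k * (t + 1))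
    (h1 : ¬ (q = 2 ∧ k = 1 ∧ t = 4)) (h2 : ¬ (q = 2 ∧ k = 3 ∧ t = 1)) :
    ∃ m, k * t = m + 3 ∧ (t + 1).factorial ≤ (q - 1) ^ 3 * q ^ (k * (t + 1) * m) := by
  have h3 : 3 ≤ k * t := by
    by_contra h
    have : k ≤ 2 := by nlinarith only [ht, h]
    have : t ≤ 2 := by linarith only [h5, h, this]
    interval_cases k <;> interval_cases t <;> omega
  obtain ⟨m, hm⟩ := Nat.exists_eq_add_of_le' h3
  refine ⟨m, hm, ?_⟩
  have a0 : 1 ≤ (q - 1) ^ 3 := Nat.one_le_pow _ _ (by omega)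
  have a1 : ∀ e, e ≤ k * (t + 1) * m → 2 ^ e ≤ (q - 1) ^ 3 * q ^ (k * (t + 1) * m) := fun e he =>
    ((Nat.pow_le_pow_right two_pos he).trans (Nat.pow_le_pow_left hq _)).trans (Nat.le_mul_of_pos_left _ a0)
  by_cases h6 : 6 ≤ t
  · refine (fact_le (m := t - 3) ?_).trans (a1 _ (Nat.mul_le_mul (Nat.le_mul_of_pos_left _ hk) (by
      have := Nat.le_mul_of_pos_left t hk
      omega)))
    obtain ⟨s, rfl⟩ := Nat.exists_eq_add_of_le' h6
    have := s.lt_two_pow_self
    rw [show s + 6 - 3 = s + 3 by omega, pow_add]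
    omega
  by_cases hk1 : k = 1
  · subst hk1
    obtain rfl | rfl : t = 4 ∨ t = 5 := by omega
    · obtain rfl : m = 1 := by omega
      have b1 : 3 ≤ q := by omega
      exact le_trans (by norm_num [Nat.factorial]) ((Nat.pow_le_pow_left b1 (1 * (4 + 1) * 1)).trans
        (Nat.le_mul_of_pos_left _ a0))
    · obtain rfl : m = 2 := by omega
      exact le_trans (by norm_num [Nat.factorial]) (a1 12 le_rfl)
  by_cases ht1 : t = 1
  · subst ht1
    by_cases hk3 : k = 3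
    · have b1 : 2 ≤ q - 1 := by omega
      exact le_trans (by norm_num [Nat.factorial]) ((Nat.pow_le_pow_left b1 3).trans
        (Nat.le_mul_of_pos_right _ (by positivity)))
    · exact le_trans (by norm_num [Nat.factorial]) (a1 1 (Nat.mul_pos (by omega) (by omega)))
  have b1 : 2 * t ≤ k * t := Nat.mul_le_mul_right _ (by omega)
  have b2 : 2 * (t + 1) * (2 * t - 3) ≤ k * (t + 1) * m := Nat.mul_le_mul (Nat.mul_le_mul_right _ (by omega)) (by omega)
  refine le_trans ?_ (a1 _ b2)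
  have b3 : 2 ≤ t := by omega
  have b4 : t ≤ 5 := by omega
  interval_cases t <;> norm_num [Nat.factorial]

/-- **the inequality** -/
theorem num {q k t : ℕ} (hq : 2 ≤ q) (hk : 1 ≤ k) (ht : 2 ≤ t) (h5 : 5 ≤ k * t) :
    (q ^ (k * t) - 1) ^ 3 * (t.factorial * gN q k ^ t) ≤ (q - 1) ^ 3 * gN q (k * t) := by
  obtain ⟨t, rfl⟩ : ∃ s, t = s + 1 := ⟨t - 1, by omega⟩
  by_cases h1 : q = 2 ∧ k = 1 ∧ t = 4
  · obtain ⟨rfl, rfl, rfl⟩ := h1
    norm_num [gN_succ, gN_zero, Nat.factorial]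
  by_cases h2 : q = 2 ∧ k = 3 ∧ t = 1
  · obtain ⟨rfl, rfl, rfl⟩ := h2
    norm_num [gN_succ, gN_zero, Nat.factorial]
  obtain ⟨m, hm, h3⟩ := fact_le' hq hk (by omega) h5 h1 h2
  have h4 := gN_mul (le_trans one_le_two hq) k t
  rw [hm] at h4
  calc _ ≤ (q ^ (k * (t + 1))) ^ 3 * (((q - 1) ^ 3 * q ^ (k * (t + 1) * m)) * gN q k ^ (t + 1)) :=
        Nat.mul_le_mul (Nat.pow_le_pow_left (Nat.sub_le _ _) 3) (Nat.mul_le_mul_right _ h3)
    _ = (q - 1) ^ 3 * (gN q k ^ (t + 1) * q ^ (k * (t + 1) * (m + 3))) := by ring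
    _ ≤ _ := Nat.mul_le_mul_left _ h4

end Cfsg.Agent.N2C.FrL
end

-- part: N2/Cl/FrL/Vec
section
/-!
# N2 (S3519), linear groups: the stabiliser of a decomposition of `V` into `t` blocks of dimension `k` (helper53)
-/

set_option autoImplicit false
set_option linter.unusedSectionVars false

namespace Cfsg.Agent.N2C.FrL

open Module

theorem val_rot {n : ℕ} (i : Fin n) : (finRotate n i : ℕ) = (i + 1) % n := by
  have := i.neZero
  rw [finRotate_apply, Fin.val_add, Fin.val_one', Nat.add_mod_mod]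

/-- a cycle through all points which permutes the blocks -/
theorem exists_cyc {k t : ℕ} (h : 2 ≤ k * t) : ∃ (σ : Equiv.Perm (Fin k × Fin t)) (τ : Equiv.Perm (Fin t)),
    (∀ x, (σ x).2 = τ x.2) ∧ ∀ x y, ∃ m : ℕ, (σ ^ m) x = y := by
  let e : Fin k × Fin t ≃ Fin (k * t) := finProdFinEquiv
  refine ⟨e.symm.permCongr (finRotate _), finRotate t, fun x => Fin.ext ?_, fun x y => ?_⟩
  · change (finRotate _ (e x) : ℕ) % t = _
    rw [val_rot, val_rot, Nat.mod_mod_of_dvd _ (Dvd.intro_left k rfl)]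
    change ((x.2 : ℕ) + t * x.1 + 1) % t = _
    rw [add_right_comm, Nat.add_mul_mod_self_left]
  · have h1 : ∀ z, finRotate (k * t) z ≠ z := fun z =>
      Equiv.Perm.mem_support.1 (support_finRotate_of_le h ▸ Finset.mem_univ z)
    obtain ⟨m, hm⟩ := (isCycle_finRotate_of_le h).exists_pow_eq (h1 (e x)) (h1 (e y))
    refine ⟨m, ?_⟩
    rw [show e.symm.permCongr (finRotate _) ^ m = e.symm.permCongr (finRotate _ ^ m) from
      (map_pow e.symm.permCongrHom _ m).symm]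
    change e.symm ((finRotate _ ^ m) (e x)) = y
    rw [hm, e.symm_apply_apply]

variable {K V : Type} [Field K] [AddCommGroup V] [Module K V]

section mon

variable {ι : Type} [Fintype ι] [DecidableEq ι] (b : Basis ι K V)

/-- monomial maps -/
noncomputable def mon (σ : Equiv.Perm ι) (w : ι → Kˣ) : (End K V)ˣ :=
  LinearMap.GeneralLinearGroup.ofLinearEquiv (b.equiv (b.unitsSMul w) σ)

theorem mon_apply (σ : Equiv.Perm ι) (w : ι → Kˣ) (x : ι) : (mon b σ w : End K V) (b x) = (w (σ x) : K) • b (σ x) :=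
  (b.equiv_apply x _ σ).trans (Basis.unitsSMul_apply _)

theorem mon_mul (σ : Equiv.Perm ι) (w : ι → Kˣ) : (mon b σ w : End K V) = mon b 1 w * mon b σ 1 :=
  b.ext fun x => by rw [End.mul_apply, mon_apply, mon_apply, map_smul, mon_apply]; simp

theorem det_mon (w : ι → Kˣ) : LinearMap.det (mon b 1 w : End K V) = ∏ i, (w i : K) :=
  (Basis.det_basis _ b).trans (b.det_unitsSMul_self w)

/-- monomial maps with a given permutation and a given determinant -/
theorem exists_mon [Nonempty ι] (σ : Equiv.Perm ι) (c : Kˣ) : ∃ w, LinearMap.det (mon b σ w : End K V) = c := by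
  obtain ⟨d, hd⟩ := (mon b σ 1).isUnit.map LinearMap.det
  obtain ⟨x⟩ := ‹Nonempty ι›
  refine ⟨Pi.mulSingle x (c * d⁻¹), ?_⟩
  rw [mon_mul, map_mul, det_mon, ← Units.coe_prod, Finset.prod_pi_mulSingle', if_pos (Finset.mem_univ x), ← hd,
    ← Units.val_mul, inv_mul_cancel_right]

theorem span_mon {σ : Equiv.Perm ι} (w : ι → Kˣ) {x : ι} (h : ∀ y, ∃ m : ℕ, (σ ^ m) x = y) :
    Submodule.span K (Set.range fun m : ℕ => ((mon b σ w : End K V) ^ m) (b x)) = ⊤ := by
  have h1 : ∀ m : ℕ, ∃ c : Kˣ, ((mon b σ w : End K V) ^ m) (b x) = (c : K) • b ((σ ^ m) x) := fun m => by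
    induction m with
    | zero => exact ⟨1, by simp only [_root_.pow_zero, _root_.Module.End.one_apply, _root_.Units.val_one, _root_.Equiv.Perm.coe_one, _root_.id_eq, _root_.one_smul]⟩
    | succ m ih =>
      obtain ⟨c, hc⟩ := ih
      exact ⟨c * w (σ ((σ ^ m) x)), by
        rw [pow_succ', pow_succ', End.mul_apply, hc, map_smul, mon_apply, smul_smul, Units.val_mul]; rfl⟩
  rw [eq_top_iff, ← b.span_eq, Submodule.span_le]
  rintro _ ⟨y, rfl⟩
  obtain ⟨m, rfl⟩ := h y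
  obtain ⟨c, hc⟩ := h1 m
  exact (Submodule.smul_mem_iff _ c.ne_zero).1 (hc ▸ Submodule.subset_span ⟨m, rfl⟩)

end mon

variable {k t : ℕ} {E : Fin t → End K V}

variable (E) in
/-- the stabiliser of a family of endomorphisms -/
def st : Subgroup (End K V)ˣ where
  carrier := {g | ∃ τ : Equiv.Perm (Fin t), ∀ i, g * E i = E (τ i) * g}
  one_mem' := ⟨1, fun i => by simp⟩
  mul_mem' := by
    rintro g h ⟨τ, hτ⟩ ⟨ρ, hρ⟩
    exact ⟨τ * ρ, fun i => by rw [Units.val_mul, mul_assoc, hρ, ← mul_assoc, hτ, mul_assoc]; rfl⟩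
  inv_mem' := by
    rintro g ⟨τ, hτ⟩
    refine ⟨τ⁻¹, fun i => ?_⟩
    rw [Units.inv_mul_eq_iff_eq_mul, ← mul_assoc, hτ, Units.mul_inv_cancel_right]
    simp

/-- a basis adapted to the decomposition -/
theorem exists_basis [Module.Finite K V] (h1 : ∀ i, E i * E i = E i) (h2 : ∀ i j, i ≠ j → E i * E j = 0)
    (h3 : ∑ i, E i = 1) (h4 : ∀ i, finrank K (LinearMap.range (E i)) = k) :
    ∃ b : Basis (Fin k × Fin t) K V, ∀ i x, E i (b x) = if i = x.2 then b x else 0 := by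
  let β := fun i => finBasisOfFinrankEq K (LinearMap.range (E i)) (h4 i)
  let v : Fin k × Fin t → V := fun x => β x.2 x.1
  have hv : ∀ i x, E i (v x) = if i = x.2 then v x else 0 := fun i x => by
    obtain ⟨y, hy⟩ := (β x.2 x.1).2
    change E i (β x.2 x.1) = if _ then (β x.2 x.1 : V) else 0
    rw [← hy, ← End.mul_apply]
    split_ifs with h
    · rw [h, h1]
    · rw [h2 _ _ h, LinearMap.zero_apply]
  refine ⟨Basis.mk (v := v) (Fintype.linearIndependent_iff.2 fun c hc x => ?_) fun y _ => ?_, fun i x => ?_⟩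
  · have h5 := congrArg (E x.2) hc
    rw [map_sum, map_zero, Fintype.sum_prod_type] at h5
    simp only [map_smul, hv, smul_ite, smul_zero, Finset.sum_ite_eq, Finset.mem_univ, if_true] at h5
    exact Fintype.linearIndependent_iff.1 (β x.2).linearIndependent (fun j => c (j, x.2))
      (Subtype.ext (by simpa only [_root_.AddSubmonoidClass.coe_finsetSum, _root_.SetLike.val_smul, _root_.ZeroMemClass.coe_zero] using h5)) x.1
  · rw [← End.one_apply (R := K) y, ← h3, LinearMap.sum_apply]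
    refine Submodule.sum_mem _ fun i _ => ?_
    have h5 := congrArg Subtype.val ((β i).sum_repr ⟨E i y, y, rfl⟩)
    rw [Submodule.coe_sum] at h5
    rw [show E i y = _ from h5.symm]
    exact Submodule.sum_mem _ fun j _ => Submodule.smul_mem _ _ (Submodule.subset_span ⟨(j, i), rfl⟩)
  · rw [Basis.mk_apply, hv]

variable {b : Basis (Fin k × Fin t) K V} (hb : ∀ i x, E i (b x) = if i = x.2 then b x else 0)
include hb

theorem mon_mem {σ : Equiv.Perm (Fin k × Fin t)} {τ : Equiv.Perm (Fin t)} (h : ∀ x, (σ x).2 = τ x.2)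
    (w : Fin k × Fin t → Kˣ) : mon b σ w ∈ st E := ⟨τ, fun i => b.ext fun x => by
  rw [End.mul_apply, End.mul_apply, mon_apply, map_smul, hb, hb, h]
  simp only [τ.apply_eq_iff_eq]
  split_ifs
  · rw [mon_apply]
  · rw [map_zero, smul_zero]⟩

/-- `|GL_k(q) ≀ S_t|` -/
theorem card_st [Fintype K] [Finite V] (h4 : ∀ i, finrank K (LinearMap.range (E i)) = k) :
    Nat.card (st E) ≤ t.factorial * gN (Fintype.card K) k ^ t := by
  let LI := fun i => {s : Fin k → LinearMap.range (E i) // LinearIndependent K s}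
  have h1 : ∀ i, Nat.card (LI i) = gN (Fintype.card K) k := fun i => by
    rw [card_linearIndependent (h4 i).ge, h4]
    rfl
  have h2 : Nat.card (Σ τ : Equiv.Perm (Fin t), ∀ i, LI (τ i)) = t.factorial * gN (Fintype.card K) k ^ t := by
    rw [Nat.card_sigma]
    simp only [Nat.card_pi, h1, Finset.prod_const, Finset.sum_const, Finset.card_univ, Fintype.card_fin,
      Fintype.card_perm, smul_eq_mul]
  rw [← h2]
  choose τ hτ using fun g : st E => g.2
  let φ : st E → Σ τ : Equiv.Perm (Fin t), ∀ i, LI (τ i) := fun g => ⟨τ g, fun i =>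
    ⟨fun j => ⟨g.1.1 (b (j, i)), g.1.1 (b (j, i)), by rw [← End.mul_apply, ← hτ, End.mul_apply, hb, if_pos rfl]⟩,
      LinearIndependent.of_comp (LinearMap.range (E (τ g i))).subtype
        ((b.linearIndependent.comp (fun j => (j, i)) fun _ _ e => congrArg Prod.fst e).map' g.1.1
          (LinearMap.GeneralLinearGroup.toLinearEquiv g.1).ker)⟩⟩
  refine Nat.card_le_card_of_injective φ fun g h e => Subtype.ext (Units.ext (b.ext fun x => ?_))
  exact congrArg (fun z : Σ τ : Equiv.Perm (Fin t), ∀ i, LI (τ i) => ((z.2 x.2).1 x.1 : V)) e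

end Cfsg.Agent.N2C.FrL
end

-- part: N2/Cl/FrL/Main
section
/-!
# N2 (S3519), linear groups: imprimitive subgroups `GL_k(q) ≀ S_t` (helper53)
-/

set_option autoImplicit false
set_option linter.unusedSectionVars false

namespace Cfsg.Agent.N2C

open Cfsg.Agent.DS.Cl Cfsg.Agent.DS.Cl.Fwd Module
open Cfsg.Agent.SB.Fld (prL)
open Cfsg.Agent.TH.Cl (KL)
open scoped Matrix

namespace FrL

variable {n : ℕ} {K : Type} [Field K] [Fintype K]

theorem card_fix (M : Matrix (Fin n) (Fin n) K) :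
    Nat.card {v : Fin n → K // M *ᵥ v = v} = Nat.card K ^ (n - (M - 1).rank) := by
  have h1 := (M - 1).mulVecLin.finrank_range_add_finrank_ker
  rw [finrank_fin_fun] at h1
  rw [Matrix.rank, Nat.sub_eq_of_eq_add (h1.symm.trans (add_comm _ _)), ← Module.natCard_eq_pow_finrank]
  exact Nat.card_congr (Equiv.subtypeEquivRight fun v => by
    rw [LinearMap.mem_ker, Matrix.mulVecLin_apply, Matrix.sub_mulVec, Matrix.one_mulVec, sub_eq_zero])

theorem card_fix' (M : Matrix (Fin n) (Fin n) K) :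
    Nat.card {x : Matrix (Fin n) (Fin n) K // M * x = x} = Nat.card {v : Fin n → K // M *ᵥ v = v} ^ n := by
  refine Eq.trans ?_ (Nat.card_fun.trans (congrArg _ (Nat.card_fin n)))
  exact Nat.card_congr ⟨fun x j => ⟨fun i => x.1 i j, funext fun i => congrFun (congrFun x.2 i) j⟩,
    fun c => ⟨Matrix.of fun i j => (c j).1 i, Matrix.ext fun i j => congrFun (c j).2 i⟩, fun _ => rfl, fun _ => rfl⟩

theorem card_fix_LR {e : LR (Fin n) K} (he : star e = e) :
    Nat.card {x : LR (Fin n) K // e * x = x} = Nat.card {v : Fin n → K // e.1 *ᵥ v = v} ^ (2 * n) := by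
  have h1 : e.2 = e.1ᵀ := (congrArg Prod.snd he).symm
  have h2 : Nat.card {v : Fin n → K // e.2 *ᵥ v = v} = Nat.card {v : Fin n → K // e.1 *ᵥ v = v} := by
    rw [card_fix, card_fix, h1, ← Matrix.rank_transpose (e.1 - 1), Matrix.transpose_sub, Matrix.transpose_one]
  rw [two_mul, pow_add]
  nth_rewrite 2 [← h2]
  rw [← card_fix', ← card_fix', ← Nat.card_prod]
  exact Nat.card_congr ⟨fun x => (⟨x.1.1, congrArg Prod.fst x.2⟩, ⟨x.1.2, congrArg Prod.snd x.2⟩),
    fun y => ⟨LR.mk y.1.1 y.2.1, Prod.ext y.1.2 y.2.2⟩, fun _ => rfl, fun _ => rfl⟩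

/-- automorphisms preserve the rank of symmetric idempotents -/
theorem rank_map (hn : n ≠ 0) (γ : RingAut (LR (Fin n) K)) {e : LR (Fin n) K} (h0 : e * e = e) (he : star e = e)
    (he' : star (γ e) = γ e) : finrank K (LinearMap.range (prL n K (γ e))) = finrank K (LinearMap.range (prL n K e)) := by
  have h1 : ∀ e : LR (Fin n) K, e * e = e →
      Nat.card {v : Fin n → K // e.1 *ᵥ v = v} = Nat.card K ^ finrank K (LinearMap.range (prL n K e)) := fun e h => by
    rw [← Module.natCard_eq_pow_finrank]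
    exact Nat.card_congr (Equiv.subtypeEquivRight fun v => ⟨fun hv => ⟨v, hv⟩, by
      rintro ⟨y, rfl⟩
      change prL n K e (prL n K e y) = _
      rw [← End.mul_apply, ← map_mul, h]⟩)
  have h2 : Nat.card {x : LR (Fin n) K // e * x = x} = Nat.card {x : LR (Fin n) K // γ e * x = x} :=
    Nat.card_congr (γ.toEquiv.subtypeEquiv fun x => by
      change _ ↔ γ e * γ x = γ x
      rw [← map_mul, γ.injective.eq_iff])
  rw [card_fix_LR he, card_fix_LR he', h1 e h0, h1 _ (by rw [← map_mul, h0])] at h2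
  exact (Nat.pow_right_injective Finite.one_lt_card (Nat.pow_left_injective (by omega) h2)).symm

/-- the blocks of a frame -/
theorem mem_st {D : Finset (LR (Fin n) K)} (hD : Fr D) {t : ℕ} (ε : Fin t ≃ D) (g : GG n K) :
    g ∈ st (fun i => prL n K (ε i)) ↔ ∀ d ∈ D, cj _ (lf n K g) d ∈ D := by
  constructor
  · rintro ⟨τ, hτ⟩ d hd
    obtain ⟨i, hi⟩ := ε.surjective ⟨d, hd⟩
    rw [show d = ε i from congrArg Subtype.val hi.symm,
      (mul_eq_iff g (hD.symm _ (ε i).2) (hD.symm _ (ε (τ i)).2)).2 (hτ i)]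
    exact (ε _).2
  · intro h
    let f : Fin t → Fin t := fun i => ε.symm ⟨_, h _ (ε i).2⟩
    have hf : ∀ i, cj _ (lf n K g) (ε i) = ε (f i) := fun i => by rw [ε.apply_symm_apply]
    have hi : Function.Injective f := fun i j e =>
      ε.injective (Subtype.ext ((cj _ (lf n K g)).injective (by rw [hf, hf, e])))
    exact ⟨Equiv.ofBijective f (Finite.injective_iff_bijective.1 hi), fun i =>
      (mul_eq_iff g (hD.symm _ (ε i).2) (hD.symm _ (ε (f i)).2)).1 (hf i)⟩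

/-- frames with blocks of equal rank -/
theorem gd_of_rank {F : FR (LR (Fin n) K)} {H : Subgroup (RingAut (LR (Fin n) K))} {p : ℕ} (kl : KL F) (hn : 5 ≤ n)
    (c : Ctx F H p) {D : Finset (LR (Fin n) K)} (hD : Fr D) (hI : _root_.Cfsg.Agent.DS.Cl.Inv H D) {k : ℕ}
    (hk : ∀ d ∈ D, finrank K (LinearMap.range (prL n K d)) = k) : Gd F H := by
  classical
  have := finite_GG (n := n) (K := K)
  obtain ⟨t, ht, ⟨ε⟩⟩ : ∃ t, 2 ≤ t ∧ Nonempty (Fin t ≃ D) := ⟨D.card, hD.two, ⟨D.equivFin.symm⟩⟩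
  have h4 := fun i => hk _ (ε i).2
  obtain ⟨b, hb⟩ := exists_basis (E := fun i => prL n K (ε i)) (fun i => by rw [← map_mul, hD.idem _ (ε i).2])
    (fun i j h => by
      rw [← map_mul, hD.orth _ (ε i).2 _ (ε j).2 fun e => h (ε.injective (Subtype.ext e)), map_zero])
    (by rw [← map_sum, ε.sum_comp fun d => (d : LR (Fin n) K), Finset.sum_coe_sort D fun d => d, hD.sum, map_one]) h4
  have hkt : n = k * t := by
    have h1 := finrank_eq_card_basis b
    rwa [finrank_fin_fun, Fintype.card_prod, Fintype.card_fin, Fintype.card_fin] at h1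
  have hk0 : 1 ≤ k := Nat.pos_of_ne_zero fun h => by rw [h, zero_mul] at hkt; omega
  have x : Fin k × Fin t := (⟨0, hk0⟩, ⟨0, by omega⟩)
  have : Nonempty (Fin k × Fin t) := ⟨x⟩
  have hq : 2 ≤ Fintype.card K := Fintype.one_lt_card
  obtain ⟨σ, τ, h1, h2⟩ := exists_cyc (k := k) (t := t) (by omega)
  have hd : ∀ z, ∃ g ∈ st (fun i => prL n K (ε i)), dt n K g = z := fun z => by
    obtain ⟨w, hw⟩ := exists_mon b σ z
    exact ⟨_, mon_mem hb h1 w, Units.ext hw⟩
  have h3 : (Fintype.card K ^ n - 1) ^ 3 * Nat.card (st fun i => prL n K (ε i)) ≤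
      (Fintype.card K - 1) ^ 3 * Nat.card (GG n K) := by
    refine (Nat.mul_le_mul_left _ (card_st hb h4)).trans ?_
    rw [card_GG]
    change _ ≤ _ * gN _ n
    rw [hkt]
    exact num hq hk0 ht (hkt ▸ hn)
  have hS : ¬ _root_.Cfsg.Agent.DS.Cl.Inv F.S D := fun hS => by
    have h5 : st (fun i => prL n K (ε i)) = ⊤ := eq_top_iff.2 fun g _ => by
      obtain ⟨m, hm, e⟩ := hd (dt n K g)
      have h6 := (mem_st hD ε (g * m⁻¹)).2 (hS _ (mem_S kl (by rw [map_mul, map_inv, e, mul_inv_cancel])))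
      simpa only [_root_.inv_mul_cancel_right] using mul_mem h6 hm
    rw [h5, Subgroup.card_top] at h3
    have h6 := (Nat.pow_le_pow_iff_left three_ne_zero).1 (Nat.le_of_mul_le_mul_right h3 Nat.card_pos)
    have h7 : Fintype.card K ^ 1 < Fintype.card K ^ n := Nat.pow_lt_pow_right hq (by omega)
    rw [pow_one] at h7
    omega
  obtain ⟨w, hw⟩ := exists_mon b σ 1
  exact gd_of_GL kl (fun g hg => (mem_st hD ε g).trans ⟨c.mem_of_inv hI hS (mem_S kl hg), hI _⟩) hd (mon_mem hb h1 w)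
    (Units.ext hw) (cn_le_of_cyclic _ (b.ne_zero x) (span_mon b w (h2 x))) h3

end FrL

/-- **[Fr], linear groups** -/
theorem frL : OnL 5 pFr := by
  rintro K _ _ n F H p kl hn c ⟨-, -, D, hD, hI, htr⟩
  obtain ⟨e, he⟩ : D.Nonempty := Finset.card_pos.1 (lt_of_lt_of_le two_pos hD.two)
  refine FrL.gd_of_rank kl hn c hD hI (k := finrank K (LinearMap.range (prL n K e))) fun d hd => ?_
  obtain ⟨γ, -, rfl⟩ := htr e he d hd
  exact FrL.rank_map (by omega) γ (hD.idem e he) (hD.symm e he) (hD.symm _ hd)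

end Cfsg.Agent.N2C
end

-- part: N2/Cl/FrSp/Many
section
/-!
# N2 (S3519), symplectic groups: at least three blocks (helper79)

`f.cyc` permutes the `n + 1` blocks cyclically and `f.cyc ^ (n + 1) = lam` on every block.
-/

set_option autoImplicit false
set_option linter.unusedSectionVars false

namespace Cfsg.Agent.N2C.FrSp

open Cfsg.Agent.DS.Cl Cfsg.Agent.DS.Cl.Fwd Cfsg.Agent.SB.Cl Module Cfsg.Agent.N2C.Cyc
open Cfsg.Agent.TH.Cl (KSp)

variable {K V E : Type} [Field K] [Fintype K] [AddCommGroup V] [Module K V] [Finite V] [Field E] [Finite E] [Algebra K E]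
  {h : HF K V} {F : FR h.EB} {m k p n : ℕ} {H : Subgroup (RingAut h.EB)}

variable (h) in
/-- a frame with coordinates -/
structure Fm (s : Sg K E m) (n : ℕ) where
  /-- the idempotents -/
  e : Fin (n + 1) → h.EB
  /-- the blocks -/
  b : ∀ i, Blk h s (e i)
  orth : ∀ i j, i ≠ j → e i * e j = 0
  symm : ∀ i, star (e i) = e i
  sum : ∑ i, e i = 1

theorem ap_sum {I : Type} (t : Finset I) (a : I → h.EB) (v : V) : h.ap (∑ i ∈ t, a i) v = ∑ i ∈ t, h.ap (a i) v :=
  LinearMap.sum_apply t (fun i => h.ap (a i)) v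

namespace Fm

variable {s : Sg K E m} (f : Fm h s n)

theorem dec (v : V) : ∑ i, (f.b i).φ ((f.b i).ψ v) = v := by
  simp only [Blk.φψ]
  rw [← ap_sum, f.sum, h.ap_one]

theorem lin_ext {W : Type} [AddCommGroup W] [Module K W] {g g' : V →ₗ[K] W}
    (hg : ∀ i x, g ((f.b i).φ x) = g' ((f.b i).φ x)) : g = g' := LinearMap.ext fun v => by
  rw [← f.dec v, map_sum, map_sum]
  exact Finset.sum_congr rfl fun i _ => hg i _

theorem ext {a a' : h.EB} (ha : ∀ i x, h.ap a ((f.b i).φ x) = h.ap a' ((f.b i).φ x)) : a = a' := f.lin_ext (W := V) ha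

theorem ψφ_ne {i j : Fin (n + 1)} (hij : i ≠ j) (x : E) : (f.b i).ψ ((f.b j).φ x) = 0 :=
  (f.b i).ψ_zero ((f.b j).ap_other (f.orth i j hij) x)

theorem b_φ (i j : Fin (n + 1)) (x y : E) : h.b ((f.b i).φ x) ((f.b j).φ y) = if i = j then s.B x y else 0 := by
  split_ifs with hij
  · subst hij
    exact (f.b i).b x y
  · exact (f.b i).b_zero (f.symm i) x ((f.b j).ap_other (f.orth i j hij) y)

theorem b_ext (o : IsSp h F) {a a' c c' : h.EB} (ha : ∀ i j x y, h.b (h.ap a ((f.b i).φ x)) (h.ap a' ((f.b j).φ y)) =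
    h.b (h.ap c ((f.b i).φ x)) (h.ap c' ((f.b j).φ y))) (v w : V) :
    h.b (h.ap a v) (h.ap a' w) = h.b (h.ap c v) (h.ap c' w) :=
  LinearMap.congr_fun₂ (f.lin_ext (g := (bil o).compl₁₂ (h.ap a) (h.ap a')) (g' := (bil o).compl₁₂ (h.ap c) (h.ap c'))
    fun i x => f.lin_ext fun j y => ha i j x y) v w

include f in
theorem finrank_eq : finrank K V = (n + 1) * (2 * m) := by
  have : Module.Finite K E := Module.Finite.of_finite
  have h1 : Function.Bijective (LinearMap.pi fun i => (f.b i).ψ) := ⟨fun v w e => by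
    rw [← f.dec v, ← f.dec w]
    exact Finset.sum_congr rfl fun i _ => congrArg _ (congrFun e i), fun x => ⟨∑ i, (f.b i).φ (x i), funext fun j => by
      rw [LinearMap.pi_apply, map_sum, Finset.sum_eq_single j (fun i _ hi => f.ψφ_ne hi.symm _) (by simp), Blk.ψφ]⟩⟩
  rw [(LinearEquiv.ofBijective _ h1).finrank_eq, Module.finrank_pi_fintype, Finset.sum_const, Finset.card_univ,
    Fintype.card_fin, s.dim, smul_eq_mul]

/-- monomial elements -/
def mon (π : Equiv.Perm (Fin (n + 1))) (c : Fin (n + 1) → E) : h.EB :=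
  ∑ i, h.eb ((f.b (π i)).φ ∘ₗ LinearMap.mulLeft K (c i) ∘ₗ (f.b i).ψ)

theorem mon_φ (π : Equiv.Perm (Fin (n + 1))) (c : Fin (n + 1) → E) (i : Fin (n + 1)) (x : E) :
    h.ap (f.mon π c) ((f.b i).φ x) = (f.b (π i)).φ (c i * x) := by
  rw [mon, ap_sum, Finset.sum_eq_single i (fun j _ hj => ?_) (by simp)]
  · change (f.b (π i)).φ (c i * (f.b i).ψ _) = _
    rw [Blk.ψφ]
  · change (f.b (π j)).φ (c j * (f.b j).ψ _) = _
    rw [f.ψφ_ne hj, mul_zero, map_zero]

theorem mon_iso (o : IsSp h F) (π : Equiv.Perm (Fin (n + 1))) {c : Fin (n + 1) → E} (hc : ∀ i, c i * s.σ (c i) = 1)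
    (v w : V) : h.b (h.ap (f.mon π c) v) (h.ap (f.mon π c) w) = h.b v w :=
  f.b_ext o (c := 1) (c' := 1) (fun i j x y => by
    rw [mon_φ, mon_φ, h.ap_one, h.ap_one, b_φ, b_φ]
    by_cases hij : i = j
    · rw [hij, if_pos rfl, if_pos rfl, s.B_iso (hc j)]
    · rw [if_neg hij, if_neg (π.injective.ne hij)]) v w

theorem mon_e (π : Equiv.Perm (Fin (n + 1))) (c : Fin (n + 1) → E) (i : Fin (n + 1)) :
    f.mon π c * f.e i = f.e (π i) * f.mon π c := f.ext fun j x => by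
  rw [h.ap_mul, h.ap_mul, mon_φ]
  by_cases hij : i = j
  · rw [hij, Blk.ap_φ, Blk.ap_φ, mon_φ]
  · rw [(f.b j).ap_other (f.orth _ _ hij), (f.b _).ap_other (f.orth _ _ (π.injective.ne hij)), map_zero]

/-- the scalars -/
def ι : E →+* h.EB where
  toFun z := f.mon 1 fun _ => z
  map_one' := f.ext fun i x => by rw [mon_φ, one_mul]; rfl
  map_mul' z z' := f.ext fun i x => by rw [h.ap_mul, mon_φ, mon_φ, mon_φ, mul_assoc]; rfl
  map_zero' := f.ext fun i x => by rw [mon_φ, zero_mul, map_zero]; rfl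
  map_add' z z' := f.ext fun i x => by rw [h.ap_add, mon_φ, mon_φ, mon_φ, add_mul, map_add]

theorem ι_φ (z : E) (i : Fin (n + 1)) (x : E) : h.ap (f.ι z) ((f.b i).φ x) = (f.b i).φ (z * x) := f.mon_φ 1 _ i x

theorem star_ι (o : IsSp h F) (z : E) : star (f.ι z) = f.ι (s.σ z) := h.ap_ext fun w => h.ext_right fun v => by
  rw [h.b_star]
  exact f.b_ext o (a' := 1) (c := 1) (fun i j x y => by rw [h.ap_one, h.ap_one, ι_φ, ι_φ, b_φ, b_φ, s.B_mul]) v w

theorem ι_unit {z : E} (hz : z ≠ 0) : IsUnit (f.ι z) := (IsUnit.mk0 z hz).map f.ι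

/-- the cyclic element -/
def cyc : h.EB := f.mon (finRotate (n + 1)) fun i => if i = Fin.last n then s.lam else 1

theorem cyc_ι (z : E) : f.ι z * f.cyc = f.cyc * f.ι z := f.ext fun i x => by
  rw [h.ap_mul, h.ap_mul, cyc, mon_φ, ι_φ, ι_φ, mon_φ, mul_left_comm]

theorem pow_φ (i : Fin (n + 1)) (x : E) : h.ap (f.cyc ^ (i : ℕ)) ((f.b 0).φ x) = (f.b i).φ x := by
  induction i using Fin.induction with
  | zero => rfl
  | succ i ih =>
    rw [Fin.val_succ, pow_succ', h.ap_mul, ← Fin.val_castSucc, ih, cyc, mon_φ, if_neg (Fin.castSucc_ne_last i), one_mul,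
      finRotate_apply, Fin.coeSucc_eq_succ]

theorem cyc_pow : f.cyc ^ (n + 1) = f.ι s.lam := f.ext fun i x => by
  rw [ι_φ, ← pow_φ, ← h.ap_mul, ← pow_add, add_comm, pow_add, h.ap_mul, pow_succ', h.ap_mul, ← pow_φ _ i]
  refine congrArg _ ((congrArg _ (f.pow_φ (Fin.last n) x)).trans ?_)
  rw [cyc, mon_φ, if_pos rfl, finRotate_last]

theorem comm_ι {x : h.EB} (hx : x * f.cyc = f.cyc * x) (z : E) : x * f.ι z = f.ι z * x := by
  have hz : z ∈ Algebra.adjoin K {s.lam ^ 1} := s.gen (Or.inl rfl) ▸ trivial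
  induction hz using Algebra.adjoin_induction with
  | mem z hz =>
    rw [hz, pow_one, ← cyc_pow]
    exact (Commute.pow_right hx _).eq
  | algebraMap c =>
    have h1 : ∀ v, h.ap (f.ι (algebraMap K E c)) v = c • v := LinearMap.congr_fun
      (f.lin_ext (g' := c • LinearMap.id) fun i y => by rw [ι_φ, ← Algebra.smul_def, map_smul]; rfl)
    exact h.ap_ext fun v => by rw [h.ap_mul, h.ap_mul, h1, h1, map_smul]
  | add a b _ _ ha hb => rw [map_add, mul_add, add_mul, ha, hb]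
  | mul a b _ _ ha hb => rw [map_mul, ← mul_assoc, ha, mul_assoc, hb, mul_assoc]

theorem ap_gen (i : Fin (n + 1)) (z : E) : h.ap (f.cyc ^ (i : ℕ) * f.ι z) ((f.b 0).φ 1) = (f.b i).φ z := by
  rw [h.ap_mul, ι_φ, mul_one, pow_φ]

theorem comm_gen {x : h.EB} (hx : x * f.cyc = f.cyc * x) (i : ℕ) (z : E) :
    x * (f.cyc ^ i * f.ι z) = f.cyc ^ i * f.ι z * x := by
  rw [← mul_assoc, (Commute.pow_right hx i).eq, mul_assoc, f.comm_ι hx, mul_assoc]

theorem eq_of_ap {x y : h.EB} (hx : x * f.cyc = f.cyc * x) (hy : y * f.cyc = f.cyc * y)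
    (e : h.ap x ((f.b 0).φ 1) = h.ap y ((f.b 0).φ 1)) : x = y := f.ext fun i z => by
  rw [← ap_gen, ← h.ap_mul, ← h.ap_mul, f.comm_gen hx, f.comm_gen hy, h.ap_mul, h.ap_mul _ y, e]

theorem exists_sum {x : h.EB} (hx : x * f.cyc = f.cyc * x) :
    ∃ z : Fin (n + 1) → E, x = ∑ i : Fin (n + 1), f.cyc ^ (i : ℕ) * f.ι (z i) := by
  refine ⟨fun i => (f.b i).ψ (h.ap x ((f.b 0).φ 1)), f.eq_of_ap hx ?_ ?_⟩
  · rw [Finset.sum_mul, Finset.mul_sum]
    exact Finset.sum_congr rfl fun i _ => (f.comm_gen rfl _ _).symm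
  · rw [ap_sum]
    simp only [ap_gen]
    exact (f.dec _).symm

theorem isCyc : IsCyc f.cyc := fun x y hx hy => by
  obtain ⟨z, rfl⟩ := f.exists_sum hy
  rw [Finset.sum_mul, Finset.mul_sum]
  exact Finset.sum_congr rfl fun i _ => f.comm_gen hx _ _

theorem cA_le : cA f.cyc ≤ (Fintype.card K ^ (m * (n + 1))) ^ 2 := by
  have : Module.Finite K V := Module.Finite.of_finite
  refine (Nat.card_le_card_of_injective (fun x => h.ap x.1 ((f.b 0).φ 1)) fun x y e =>
    Subtype.ext (f.eq_of_ap x.2 y.2 e)).trans (le_of_eq ?_)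
  rw [Module.natCard_eq_pow_finrank (K := K), f.finrank_eq, Nat.card_eq_fintype_card, ← pow_mul]
  congr 1
  ring

theorem cyc_iso (o : IsSp h F) (v w : V) : h.b (h.ap f.cyc v) (h.ap f.cyc w) = h.b v w := f.mon_iso o _ (fun i => by
  split_ifs
  · exact s.lam_σ
  · rw [map_one, one_mul]) v w

theorem cyc_ms (o : IsSp h F) : f.cyc * star f.cyc = 1 := SB.Tor.isoU_ms h _ (f.cyc_iso o)

theorem tr_one (o : IsSp h F) : f.ι (s.lam / s.δ) + star (f.ι (s.lam / s.δ)) = 1 := by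
  rw [f.star_ι o, ← map_add, map_div₀, s.σ_δ, div_neg, ← sub_eq_add_neg, ← sub_div, ← Sg.δ, div_self s.δ_ne, map_one]

theorem cU_le (o : IsSp h F) : cU f.cyc ≤ (Fintype.card K + 1) ^ (m * (n + 1)) := by
  rw [← Nat.card_eq_fintype_card]
  refine cU_le_unit (f.cyc_ms o) f.isCyc (f.cyc_ι _) (f.tr_one o) (f.cyc_ι s.lam)
    (by rw [f.star_ι o, ← map_sub]; exact f.ι_unit s.δ_ne) (fun c : K => f.ι (algebraMap K E c)) (fun _ => f.cyc_ι _)
    (fun c => by rw [f.star_ι o, AlgEquiv.commutes]) (fun c d hcd => ?_) Finite.one_lt_card ?_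
  · rw [← map_sub]
    exact f.ι_unit (sub_ne_zero.2 ((algebraMap K E).injective.ne hcd))
  · rw [Nat.card_eq_fintype_card]
    exact f.cA_le

theorem cS_sq_le (o : IsSp h F) : cS f.cyc ^ 2 ≤ (Fintype.card K ^ (m * (n + 1))) ^ 2 :=
  (cS_sq_le_unit (f.cyc_ms o) f.isCyc (f.cyc_ι _) (f.tr_one o) (f.cyc_ι s.δ) (by rw [f.star_ι o, s.σ_δ, map_neg])
    (f.ι_unit s.δ_ne)).trans f.cA_le

theorem e_inj : Function.Injective f.e := fun i j hij => by
  by_contra h1
  have h2 := (f.b j).ap_other (f.orth i j h1) 1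
  rw [hij, Blk.ap_φ] at h2
  exact one_ne_zero ((f.b j).inj (h2.trans (map_zero _).symm))

/-- the order of the stabiliser -/
theorem card_le (L : Subgroup h.EBˣ) (h1 : L ≤ F.Iso) (h2 : ∀ u ∈ L, ∀ i, ∃ j, cj h.EB u (f.e i) = f.e j) :
    Nat.card L ≤ (n + 1).factorial * oSp m (Fintype.card K) ^ (n + 1) := by
  have : Module.Finite K E := Module.Finite.of_finite
  have h3 : ∀ u : L, ∃ y : Equiv.Perm (Fin (n + 1)) × (Fin (n + 1) → H727.GW.isomGroup s.B),
      ∀ i x, h.ap u.1 ((f.b i).φ x) = (f.b (y.1 i)).φ ((y.2 i).1 x) := fun u => by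
    choose π hπ using h2 u u.2
    have h4 : Function.Injective π := fun i j e => f.e_inj ((cj h.EB u.1).injective (by rw [hπ, hπ, e]))
    have h5 : ∀ i x, (f.b (π i)).φ ((f.b (π i)).ψ (h.ap u.1 ((f.b i).φ x))) = h.ap u.1 ((f.b i).φ x) := fun i x => by
      rw [Blk.φψ, ← hπ, ← h.ap_mul, cj_mul_eq, h.ap_mul, Blk.ap_φ]
    have h6 : ∀ i x y, s.B (((f.b (π i)).ψ ∘ₗ h.ap u.1 ∘ₗ (f.b i).φ) x) (((f.b (π i)).ψ ∘ₗ h.ap u.1 ∘ₗ (f.b i).φ) y) =
        s.B x y := fun i x y => by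
      rw [← (f.b (π i)).b, ← (f.b i).b]
      exact (congrArg₂ _ (h5 i x) (h5 i y)).trans ((h.unit_iff _).1 (h1 u.2).1 _ _)
    exact ⟨⟨Equiv.ofBijective π (Finite.injective_iff_bijective.1 h4), fun i =>
      ⟨LinearEquiv.ofInjectiveEndo ((f.b (π i)).ψ ∘ₗ h.ap u.1 ∘ₗ (f.b i).φ) ((injective_iff_map_eq_zero _).2 fun x hx =>
        s.B_nd x fun y => by rw [← h6 i, hx, map_zero, LinearMap.zero_apply]), fun x y => h6 i x y⟩⟩,
      fun i x => (h5 i x).symm⟩
  choose g hg using h3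
  have : Finite (E ≃ₗ[K] E) := Finite.of_injective (fun g => (g : E → E)) DFunLike.coe_injective
  refine (Nat.card_le_card_of_injective g fun u v e => Subtype.ext (Units.ext (f.ext fun i x => ?_))).trans (le_of_eq ?_)
  · rw [hg, hg, e]
  · rw [Nat.card_prod, Nat.card_perm, Nat.card_fun, Nat.card_fin, H727.GW.card_isomGroup _ s.B_self s.B_nd s.dim]
    rfl

end Fm

theorem char_zero {r : ℕ} (hK : Fintype.card K = r) : (r : h.EB) = 0 := by
  have h1 : (r : K) = 0 := hK ▸ FiniteField.cast_card_eq_zero K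
  have h2 := map_natCast (algebraMap K (End K V)) r
  rw [h1, map_zero] at h2
  exact h2.symm

namespace Fm

variable {s : Sg K E 1} (f : Fm h s 2)

/-- `Sp₆(2)` -/
theorem cU_two [Nontrivial V] (o : IsSp h F) (hK : Fintype.card K = 2) : cU f.cyc ≤ 9 := by
  have h1 := f.cS_sq_le o
  have h2 := f.cA_le
  have h3 := s.ord
  rw [hK] at h1 h2 h3
  refine (cU_le_field (f.cyc_ms o) f.isCyc (fun x hx h0 => ?_) (f.cyc_ι s.lam) fun e => ?_).trans
    (Nat.succ_le_succ ((Nat.pow_le_pow_iff_left two_ne_zero).1 h1))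
  · refine (field9 (R := Cn f.isCyc) (a := Cn.mk _ f.cyc rfl) (x := Cn.mk _ x hx) (Cn.val_inj ?_) (cA_eq f.isCyc ▸ h2)
      (Cn.val_inj ?_) (Cn.isUnit ?_) fun e => h0 (congrArg Cn.val e)).map Cn.val
    · rw [map_ofNat, map_zero]
      exact char_zero hK
    · rw [map_pow, map_one]
      change f.cyc ^ (3 * 3 : ℕ) = 1
      rw [pow_mul, f.cyc_pow, ← map_pow, show s.lam ^ 3 = 1 from (congrArg _ h3.symm).trans (pow_orderOf_eq_one _), map_one]
    · rw [map_sub, map_pow, map_one]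
      change IsUnit (f.cyc ^ (2 + 1 : ℕ) - 1)
      rw [f.cyc_pow, ← map_one f.ι, ← map_sub]
      exact f.ι_unit (sub_ne_zero.2 (pow_one s.lam ▸ s.pow_ne one_ne_zero (by have := s.two_le; omega)))
  · rw [f.star_ι o] at e
    have : Nontrivial h.EB := inferInstanceAs (Nontrivial (End K V))
    exact s.δ_ne (sub_eq_zero.2 (f.ι.injective e).symm)

/-- `Sp₆(3)` -/
theorem cU_three [Nontrivial V] (o : IsSp h F) (hK : Fintype.card K = 3) : cU f.cyc ≤ 36 := by
  classical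
  have h1 := f.cS_sq_le o
  rw [hK, cS_eq f.isCyc (f.cyc_ms o)] at h1
  let j : E →+* Cn f.isCyc := f.ι.codRestrict (Subring.centralizer {f.cyc}) fun z => (Cn.mk f.isCyc _ (f.cyc_ι z)).2
  have hj : ∀ z, Cn.val (j z) = f.ι z := fun _ => rfl
  have hσ : ∀ z, Cn.sg f.isCyc (f.cyc_ms o) (j z) = j (s.σ z) := fun z => Cn.val_inj (f.star_ι o z)
  have h3 : (3 : Cn f.isCyc) = 0 := Cn.val_inj (by rw [map_ofNat, map_zero]; exact char_zero hK)
  have : Nontrivial h.EB := inferInstanceAs (Nontrivial (End K V))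
  have : Nontrivial (Cn f.isCyc) := Cn.val.domain_nontrivial
  rw [cU_eq f.isCyc (f.cyc_ms o)]
  refine loc36 h3 ((Polynomial.nthRoots 4 (1 : E)).toFinset.image j) (Finset.card_image_le.trans
    ((Multiset.toFinset_card_le _).trans (Polynomial.card_nthRoots 4 1))) (fun u hu => ?_) (δ := j s.δ)
    (by rw [hσ, s.σ_δ, map_neg]) ((IsUnit.mk0 _ s.δ_ne).map j) ((Nat.pow_le_pow_iff_left two_ne_zero).1 h1)
  obtain ⟨z, hz⟩ := f.exists_sum u.comm
  have h4 : (Cn.mk f.isCyc f.cyc rfl) ^ 3 = j s.lam := Cn.val_inj (by rw [map_pow]; exact f.cyc_pow)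
  have h5 : u = j (z 0) + Cn.mk f.isCyc f.cyc rfl * j (z 1) + Cn.mk f.isCyc f.cyc rfl ^ 2 * j (z 2) := Cn.val_inj (by
    rw [hz, Fin.sum_univ_three, map_add, map_add, map_mul, map_mul, map_pow]
    change f.cyc ^ 0 * _ + f.cyc ^ 1 * _ + _ = _
    rw [pow_zero, one_mul, pow_one]
    rfl)
  obtain ⟨w, hw⟩ : ∃ w, u ^ 3 = j w := by
    refine ⟨z 0 ^ 3 + s.lam * z 1 ^ 3 + s.lam ^ 2 * z 2 ^ 3, ?_⟩
    simp only [map_add, map_mul, map_pow, ← h4]
    rw [h5]
    generalize Cn.mk f.isCyc f.cyc rfl = a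
    linear_combination ((j (z 0) + a * j (z 1)) * (a * j (z 1) + a ^ 2 * j (z 2)) * (a ^ 2 * j (z 2) + j (z 0))) * h3
  have h6 : w ^ 4 = 1 := j.injective (by
    have h7 := congrArg (· ^ 3) hu
    simp only [mul_pow, ← map_pow, hw, hσ, s.σ_eq, hK] at h7
    rw [map_one, show w ^ 4 = w * w ^ 3 ^ 1 by ring, map_mul, h7, one_pow])
  exact ⟨Finset.mem_image.2 ⟨w, Multiset.mem_toFinset.2 ((Polynomial.mem_nthRoots four_pos).2 h6), hw.symm⟩,
    by rw [show 12 = 3 * 4 from rfl, pow_mul, hw, ← map_pow, h6, map_one]⟩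

end Fm

theorem le_card_I0 (o : KSp h F k) : oSp k (Fintype.card K) ≤ Nat.card (I0 F) := by
  have : Module.Finite K V := Module.Finite.of_finite
  refine (H727.GW.card_isomGroup (bil o.sp) o.sp.2.1 (bil_nd o.sp) o.dim).ge.trans (Nat.card_le_card_of_injective
    (fun g => ⟨SB.Tor.isoU h (h.eb g.1) g.2, o.mem_comm (mem_Iso_max o.sp.2.2 (SB.Tor.isoU_ms _ _ _))⟩) fun g g' e => ?_)
  exact Subtype.ext (LinearEquiv.toLinearMap_injective (congrArg (fun u : I0 F => (u.1 : h.EB)) e))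

theorem many (o : KSp h F k) (c : Ctx F H p) {s : Sg K E m} (f : Fm h s n) (hn : 2 ≤ n) {D : Finset h.EB} (hD : Fr D)
    (hI : _root_.Cfsg.Agent.DS.Cl.Inv H D) (he : ∀ x, x ∈ D ↔ ∃ i, f.e i = x) : Gd F H := by
  have := nontrivial o
  have hk : k = m * (n + 1) := by
    have h1 := f.finrank_eq
    rw [o.dim] at h1
    linarith only [h1]
  let u := SB.Tor.isoU h _ (f.cyc_iso o.sp)
  have hu : u ∈ I0 F := o.mem_comm (mem_Iso_max o.sp.2.2 (SB.Tor.isoU_ms _ _ _))
  have h1 := f.card_le (F := F) (Lf F H) (fun _ hv => F.comm_le_Iso hv.2) fun v hv i => by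
    obtain ⟨j, hj⟩ := (he _).1 (hI _ hv.1 _ ((he _).2 ⟨i, rfl⟩))
    exact ⟨j, hj.symm⟩
  have h2 : ∀ X, cU f.cyc ≤ X → X ^ 3 * ((n + 1).factorial * oSp m (Fintype.card K) ^ (n + 1)) ≤
      oSp (m * (n + 1)) (Fintype.card K) → Gd F H := fun X hX hX' =>
    gd_of_lift hu (c.mem_of_inv hI (not_inv c hD) ⟨u, hu, rfl⟩ fun x hx => by
      obtain ⟨i, rfl⟩ := (he x).1 hx
      exact (he _).2 ⟨_, (cj_eq_of_mul ((by exact f.mon_e _ _ i))).symm⟩) ((cn_le hu).trans ((cI_le_cU F u).trans hX))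
      ((Nat.mul_le_mul_left _ h1).trans (hX'.trans (hk ▸ le_card_I0 o)))
  have hq : 2 ≤ Fintype.card K := Fintype.one_lt_card
  by_cases h3 : m = 1 → n + 1 = 3 → 4 ≤ Fintype.card K
  · exact h2 _ (f.cU_le o.sp) (num hq s.pos (by omega) h3)
  push Not at h3
  obtain ⟨rfl, h3, h4⟩ := h3
  obtain rfl : n = 2 := by omega
  obtain h5 | h5 : Fintype.card K = 2 ∨ Fintype.card K = 3 := by omega
  · exact h2 _ (f.cU_two o.sp h5) (by rw [h5]; exact num2)
  · exact h2 _ (f.cU_three o.sp h5) (by rw [h5]; exact num3)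

/-- **a transitive frame** -/
theorem fr (o : KSp h F k) (hk : 3 ≤ k ∨ 4 ≤ Fintype.card K) (c : Ctx F H p) {D : Finset h.EB} (hD : Fr D) (hI : _root_.Cfsg.Agent.DS.Cl.Inv H D)
    (ht : ∀ e ∈ D, ∀ e' ∈ D, ∃ γ ∈ H, γ e = e') : Gd F H := by
  have := nontrivial o
  obtain ⟨n, hn⟩ : ∃ n, D.card = n + 1 := ⟨D.card - 1, by have := hD.two; omega⟩
  let ε := (Finset.equivFinOfCardEq hn).symm
  have he : ∀ x, x ∈ D ↔ ∃ i, (ε i).1 = x := fun x =>
    ⟨fun hx => ⟨ε.symm ⟨x, hx⟩, by rw [ε.apply_symm_apply]⟩, fun ⟨i, hi⟩ => hi ▸ (ε i).2⟩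
  have hs : ∑ i, (ε i).1 = 1 := by rw [ε.sum_comp fun x => x.1, Finset.sum_coe_sort D fun x => x, hD.sum]
  have h0 := (ε 0).2
  by_cases h2 : 2 ≤ n
  · obtain ⟨m, hm⟩ := even_rk o.sp (hD.idem _ h0) (hD.symm _ h0)
    have : Module.Finite K V := Module.Finite.of_finite
    obtain ⟨E, _, _, _, ⟨s⟩⟩ := exists_sg K (m := m) (Nat.pos_of_ne_zero fun h3 => hD.ne _ h0
      (LinearMap.range_eq_bot.1 (Submodule.finrank_eq_zero.1 (hm.trans (by rw [h3])))))
    have h3 : ∀ i, Nonempty (Blk h s (ε i).1) := fun i => exists_blk o.sp s (hD.idem _ (ε i).2) (hD.symm _ (ε i).2) (by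
      obtain ⟨γ, hγ, h4⟩ := ht _ h0 _ (ε i).2
      rw [← h4, rk_map (c.le_SAut hγ), hm, two_mul])
    exact many o c ⟨fun i => (ε i).1, fun i => (h3 i).some, fun i j hij => hD.orth _ (ε i).2 _ (ε j).2 fun e =>
      hij (ε.injective (Subtype.ext e)), fun i => hD.symm _ (ε i).2, hs⟩ h2 hD hI he
  obtain rfl : n = 1 := by have := hD.two; omega
  rw [Fin.sum_univ_two] at hs
  refine two o hk c (hD.ne _ h0) (hD.ne_one h0) (hD.idem _ h0) (hD.symm _ h0) fun γ hγ => ?_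
  obtain ⟨i, hi⟩ := (he _).1 (hI γ hγ _ h0)
  fin_cases i
  · exact Or.inl hi.symm
  · exact Or.inr (hi.symm.trans (eq_sub_of_add_eq' hs))

end Cfsg.Agent.N2C.FrSp

namespace Cfsg.Agent.N2C

/-- [FrSp] -/
theorem frSp : OnSp 3 pFr := fun _ _ _ _ _ _ _ _ _ _ _ _ o hk c ⟨_, _, _, hD, hI, ht⟩ => FrSp.fr o (Or.inl hk) c hD hI ht

end Cfsg.Agent.N2C
end

-- part: N2/Cl/FldLU/Crit
section
/-!
# N2, field extension subgroups of linear and unitary groups: the criterion (helper52)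

`W` is the invariant field, `Y` a symmetric field of degree `n` over `C0 A` which contains `W` and has the centraliser
`Y + Y θ`.  A generator of the torus of `Y + Y θ` gives an element which normalises only one conjugate of `W`.
-/

set_option autoImplicit false

namespace Cfsg.Agent.N2C.FldLU

open Cfsg.Agent.DS.Cl Cfsg.Agent.DS.Cl.Fwd Cfsg.Agent.SB.C2 Cfsg.Agent.SB.Fld Cfsg.Agent.TH.Cl.Fld
open scoped commutatorElement

theorem num_two {k : ℕ} (hk : 4 ≤ k) : 9 * (k + 2) + 2 ≤ 4 * 2 ^ k := by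
  induction k, hk using Nat.le_induction with
  | base => norm_num
  | succ k _ ih => rw [pow_succ]; omega

set_option synthInstance.maxSize 2000 in
theorem num_small : ∀ n ∈ Finset.Icc 5 6, ∀ d ∈ Finset.Icc 1 3, ∀ r ∈ Finset.range 6, ∀ e ∈ Finset.Icc 1 3,
    ∀ m ∈ Finset.Icc 1 (2 ^ d + 1), ∀ o ∈ Finset.Icc (2 ^ n - 1) (2 ^ n + 1), d ∣ n → r ∣ n → o ∣ e * r * m →
      e = 3 ∧ r = 3 ∧ d = 3 ∧ o = 63 ∧ m = 7 := by
  decide +kernel

theorem num {q n r d e m o : ℕ} (hq : 2 ≤ q) (hn : 5 ≤ n) (hr : r.Prime) (h1 : r ∣ n) (h2 : d ∣ n) (h3 : d < n) (e0 : 0 < e)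
    (he : e ≤ q + 1) (m0 : 0 < m) (hm : m ≤ q ^ d + 1) (ho : q ^ n ≤ o + 1) (ho' : o ≤ q ^ n + 1) (hd : o ∣ e * r * m) :
    q = 2 ∧ e = 3 ∧ r = 3 ∧ d = 3 ∧ o = 63 ∧ m = 7 := by
  have half : ∀ {a : ℕ}, a ∣ n → a ≠ n → 2 * a ≤ n := fun {a} ⟨i, hi⟩ h => by
    rcases i with _ | _ | i
    · omega
    · omega
    · nlinarith only [hi]
  have a1 := half h2 h3.ne
  have d0 : 0 < d := Nat.pos_of_dvd_of_pos h2 (by omega)
  have a2 : r = n ∧ d = 1 ∨ 2 * r ≤ n := by
    by_cases h : r = n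
    · exact .inl ⟨h, ((Nat.dvd_prime hr).1 (h ▸ h2)).resolve_right (by omega)⟩
    · exact .inr (half h1 h)
  have a3 : r ≠ 4 := fun h => by rw [h] at hr; exact absurd hr (by decide)
  by_cases hs : q = 2 ∧ n < 7
  · obtain ⟨rfl, h7⟩ := hs
    have a6 : r ≠ 6 := fun h => by rw [h] at hr; exact absurd hr (by decide)
    exact ⟨rfl, num_small n (Finset.mem_Icc.2 ⟨hn, by omega⟩) d (Finset.mem_Icc.2 ⟨d0, by omega⟩) r
      (Finset.mem_range.2 (by omega)) e (Finset.mem_Icc.2 ⟨e0, he⟩) m (Finset.mem_Icc.2 ⟨m0, hm⟩) o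
      (Finset.mem_Icc.2 ⟨by omega, ho'⟩) h2 h1 hd⟩
  exfalso
  obtain ⟨k, rfl⟩ : ∃ k, n = d + 1 + k := ⟨n - d - 1, by omega⟩
  have b1 : 9 * r + 2 ≤ 4 * q ^ k := by
    by_cases h4 : 4 ≤ k
    · have := num_two h4
      have := Nat.pow_le_pow_left hq k
      omega
    have h5 : k = 2 ∨ k = 3 := by omega
    by_cases h6 : q = 2
    · obtain rfl : k = 3 := by omega
      subst h6
      omega
    · have h7 := Nat.pow_le_pow_left (show 3 ≤ q by omega) k
      rcases h5 with rfl | rfl <;> (clear * - hn a1 a2 h7; omega)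
  have b2 : q ≤ q ^ d := Nat.le_self_pow d0.ne' q
  have b3 := Nat.le_of_dvd (Nat.mul_pos (Nat.mul_pos e0 hr.pos) m0) hd
  rw [pow_add, pow_succ] at ho
  generalize q ^ d = Q at hm ho b2
  generalize q ^ k = P at ho b1
  have b4 : 4 * (e * m) ≤ 9 * (Q * q) := by nlinarith only [hq, he, hm, b2]
  have b5 : 4 ≤ Q * q := by nlinarith only [hq, b2]
  generalize Q * q = R at ho b4 b5
  have b6 := Nat.mul_le_mul_left R b1
  have b7 := Nat.mul_le_mul_left r b4
  linarith only [b3, ho, b5, b6, b7]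

variable {A : Type} [Ring A] [StarRing A] [Finite A] [Nontrivial A] {W Y : Subring A} {θ : A} {r n e : ℕ}

/-- the torus of `Y + Y θ` -/
theorem tor (h : Qd Y θ) : (∃ t ∈ Zt Y θ, t * star t = 1 ∧ ∀ m, 0 < m → t ^ m = 1 → Nat.card Y ≤ m + 1) ∧
    ∀ X ≤ Y, ∀ u ∈ Zt Y θ, u * star u = 1 → u + star u ∈ X → ∃ m, 0 < m ∧ m ≤ Nat.card X + 1 ∧ u ^ m = 1 := by
  let _ : CommRing (Zt Y θ) := { (inferInstance : Ring (Zt Y θ)) with
    mul_comm := fun x y => Subtype.ext (h.mul_comm _ x.2 _ y.2) }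
  let _ : StarRing (Zt Y θ) :=
    { star := fun x => ⟨star x.1, h.star_mem _ x.2⟩
      star_involutive := fun x => Subtype.ext (star_star x.1)
      star_mul := fun x y => Subtype.ext (star_mul x.1 y.1)
      star_add := fun x y => Subtype.ext (star_add x.1 y.1) }
  obtain ⟨M, hM⟩ := Ideal.exists_maximal (Zt Y θ)
  let _ := Ideal.Quotient.field M
  have hθ : IsUnit ((⟨θ, self_mem_Zt⟩ : Zt Y θ) - star (⟨θ, self_mem_Zt⟩ : Zt Y θ)) := by
    obtain ⟨y, hy, -, e⟩ := h.exists_inv (sub_mem self_mem_Zt h.star_self) (h.unit.star.mul h.unit).ne_zero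
    exact IsUnit.of_mul_eq_one ⟨y, hy⟩ (Subtype.ext e)
  have h0 : ∀ a (ha : a ∈ Y), Ideal.Quotient.mk M ⟨a, le_Zt ha⟩ = 0 → a = 0 := fun a ha e => by
    by_contra h1
    obtain ⟨b, hb, e'⟩ := h.isF.inv a ha h1
    have h2 : (⟨a, le_Zt ha⟩ : Zt Y θ) * ⟨b, le_Zt hb⟩ = 1 := Subtype.ext e'
    have h3 := congrArg (Ideal.Quotient.mk M) h2
    rw [map_mul, e, zero_mul, map_one] at h3
    exact zero_ne_one h3
  have hρ : _root_.Cfsg.Agent.SB.Fld.Sep (Ideal.Quotient.mk M) := fun z h1 h2 => by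
    obtain ⟨a, ha, b, hb, e⟩ := h.mem_iff.1 z.2
    have h3 : z - star z = ⟨b, le_Zt hb⟩ * (⟨θ, self_mem_Zt⟩ - star ⟨θ, self_mem_Zt⟩) :=
      Subtype.ext (show z.1 - star z.1 = b * (θ - star θ) by rw [e, h.sub_star ha hb])
    have h4 := congrArg (Ideal.Quotient.mk M) h3
    rw [map_sub, h1, h2, sub_zero, map_mul] at h4
    rw [h0 b hb ((hθ.map _).mul_left_eq_zero.1 h4.symm), zero_mul, add_zero] at e
    exact Subtype.ext (e.trans (h0 a ha (by rw [← h1]; exact congrArg _ (Subtype.ext e.symm))))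
  have hc : ∀ X ≤ Y, Nat.card (X.comap (Zt Y θ).subtype) = Nat.card X := fun X hX =>
    Nat.card_congr ⟨fun x => ⟨x.1.1, x.2⟩, fun x => ⟨⟨x.1, le_Zt (hX x.2)⟩, x.2⟩, fun _ => rfl, fun _ => rfl⟩
  refine ⟨?_, fun X hX u hu h1 h2 => ?_⟩
  · obtain ⟨t, h1, h2⟩ := hρ.exists_gen hθ
    refine ⟨t, t.2, congrArg Subtype.val h1, fun m hm e => ?_⟩
    rw [← hc Y le_rfl, show Y.comap (Zt Y θ).subtype = sym _ from Subring.ext fun x =>
      ⟨fun hx => Subtype.ext (h.sym _ hx), fun hx => h.mem_of_sym x.2 (congrArg Subtype.val hx)⟩]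
    exact h2 m hm (Subtype.ext e)
  · obtain ⟨m, a1, a2, a3⟩ := hρ.pow_cases (X.comap (Zt Y θ).subtype) (fun x hx => Subtype.ext (h.sym _ (hX hx)))
      (u := ⟨u, hu⟩) (Subtype.ext h1) h2
    exact ⟨m, a1, hc X hX ▸ a2, congrArg Subtype.val a3⟩

omit [Finite A] [Nontrivial A] in
theorem qd_of (hθ : θ ∈ Subring.center A) (hu : IsUnit (θ - star θ)) (hY : IsF Y) (hs : ∀ y ∈ Y, star y = y)
    (h0 : C0 A ≤ Y) : Qd Y θ :=
  ⟨hY, hs, fun x _ => cen_comm hθ x, h0 ⟨add_mem hθ (star_cen hθ), by rw [star_add, star_star, add_comm]⟩,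
    h0 ⟨mul_mem hθ (star_cen hθ), by rw [star_mul, star_star]⟩, hu⟩

/-- the symmetric field of degree `n` -/
structure Ext (θ : A) (W Y : Subring A) (n : ℕ) : Prop where
  isF : IsF Y
  sym : ∀ y ∈ Y, star y = y
  le : W ≤ Y
  card : Nat.card Y = Nat.card (C0 A) ^ n
  cent : ∀ x, (∀ y ∈ Y, y * x = x * y) → x ∈ Zt Y θ

/-- the generator -/
theorem exists_gen (hθ : θ ∈ Subring.center A) (hu : IsUnit (θ - star θ)) (hW : SymF W r) (h : Ext θ W Y n) (hn : 5 ≤ n)
    (e0 : 0 < e) (he : e ≤ Nat.card (C0 A) + 1)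
    (hω : Nat.card (C0 A) = 2 → e = 3 → ∃ ω ∈ Subring.center A, ω * star ω = 1 ∧ ω ≠ 1 ∧ ω ^ 3 = 1) :
    ∃ t ∈ Zt Y θ, t * star t = 1 ∧ ∀ x, star x = x → t ^ (e * r) * x = x * t ^ (e * r) → x ∈ Y := by
  have hq := qd_of hθ hu h.isF h.sym (hW.le.trans h.le)
  obtain ⟨⟨t, t1, t2, t3⟩, hp⟩ := tor hq
  refine ⟨t, t1, t2, fun x x1 x2 => ?_⟩
  have h2 := two_le_card (C0 A)
  have inj : ∀ {a b : ℕ}, Nat.card (C0 A) ^ a = Nat.card (C0 A) ^ b → a = b := fun e => Nat.pow_right_injective h2 e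
  let X : Subring A := Y ⊓ Subring.centralizer {x}
  have mX : ∀ {y}, y ∈ Y → y * x = x * y → y ∈ X := fun hy e => ⟨hy, by rintro _ rfl; exact e.symm⟩
  have X0 : C0 A ≤ X := fun y hy => mX (h.le (hW.le hy)) (cen_comm hy.1 x).symm
  by_cases hX : X = Y
  · exact hq.mem_of_sym (h.cent x fun y hy => ((hX.ge hy).2 x rfl).symm) x1
  exfalso
  obtain ⟨i, hi⟩ := exists_card_pow h.isF (inf_le_left : X ≤ Y)
  obtain ⟨d, hd⟩ := exists_card_pow (isF_of_le h.isF inf_le_left) X0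
  obtain ⟨j, hj⟩ := exists_card_pow h.isF h.le
  have a1 : n = d * i := inj (by rw [← h.card, hi, hd, pow_mul])
  have a2 : n = r * j := inj (by rw [← h.card, hj, hW.card, pow_mul])
  have a3 : d < n := lt_of_le_of_ne (Nat.le_of_dvd (by omega) ⟨i, a1⟩) fun e =>
    hX (eq_of_le_of_card inf_le_left (by rw [h.card, hd, e]))
  have uni : ∀ {u : A}, u * star u = 1 → ∀ k, u ^ k * star (u ^ k) = 1 := fun {u} e k => by
    rw [star_pow, ← Commute.mul_pow (e.trans (mul_eq_one_comm.1 e).symm), e, one_pow]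
  have key : ∀ v ∈ Zt Y θ, v * star v = 1 → v * x = x * v → ∃ m, 0 < m ∧ m ≤ Nat.card (C0 A) ^ d + 1 ∧ v ^ m = 1 :=
    fun v v1 v2 v3 => hd ▸ hp X inf_le_left v v1 v2 (mX (hq.trace_mem v1) (by
      have v4 := congrArg star v3
      rw [star_mul, star_mul, x1] at v4
      rw [add_mul, mul_add, v3, v4]))
  obtain ⟨m, m0, m1, m2⟩ := key _ (pow_mem t1 _) (uni t2 _) x2
  obtain ⟨k, k0, k1, k2⟩ := hp Y le_rfl t t1 t2 (hq.trace_mem t1)
  have o0 : 0 < orderOf t := (isOfFinOrder_iff_pow_eq_one.2 ⟨k, k0, k2⟩).orderOf_pos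
  obtain ⟨b1, rfl, rfl, rfl, b5, rfl⟩ := num h2 hn hW.prime ⟨j, a2⟩ ⟨i, a1⟩ a3 e0 he m0 m1
    (h.card ▸ t3 _ o0 (pow_orderOf_eq_one t)) (h.card ▸ (orderOf_le_of_pow_eq_one k0 k2).trans k1)
    (orderOf_dvd_of_pow_eq_one (by rw [pow_mul, m2]))
  obtain ⟨ω, w1, w2, w3, w4⟩ := hω b1 rfl
  have w5 := h.cent ω fun y _ => cen_comm w1 y
  have w6 : Commute ω (t ^ (3 * 3)) := (cen_comm w1 _).symm
  obtain ⟨l, l0, l1, l2⟩ := key _ (mul_mem w5 (pow_mem t1 (3 * 3)))
    (by rw [star_mul, mul_assoc, ← mul_assoc (t ^ _), uni t2, one_mul, w2])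
    (by rw [mul_assoc, x2, ← mul_assoc, ← cen_comm w1, mul_assoc])
  rw [w6.mul_pow] at l2
  have l3 := congrArg (· ^ 3) l2
  simp only [(w6.pow_pow l l).mul_pow] at l3
  rw [← pow_mul, mul_comm l, pow_mul, w4, one_pow, one_mul, ← pow_mul, ← pow_mul, one_pow] at l3
  have l4 := orderOf_dvd_of_pow_eq_one l3
  rw [b1] at l1
  obtain rfl : l = 7 := by rw [b5] at l4; (clear * - l0 l1 l4; solve | lia | omega)
  rw [m2, mul_one, show 7 = 3 * 2 + 1 from rfl, pow_succ, pow_mul, w4, one_pow, one_mul] at l2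
  exact w3 l2

omit [Nontrivial A] in
/-- **the criterion** -/
theorem crit {F : FR A} {H : Subgroup (RingAut A)} {p : ℕ} (c : Ctx F H p) (hF : TH.Cl.FldD H) (hθ : θ ∈ Subring.center A)
    (hu : IsUnit (θ - star θ)) (h : ∀ W r, SymF W r → ∃ Y, Ext θ W Y n) (hn : 5 ≤ n) (e0 : 0 < e)
    (he : e ≤ Nat.card (C0 A) + 1)
    (hω : Nat.card (C0 A) = 2 → e = 3 → ∃ ω ∈ Subring.center A, ω * star ω = 1 ∧ ω ≠ 1 ∧ ω ^ 3 = 1)
    (hI : ∀ u : Aˣ, (u : A) * star (u : A) = 1 → u ^ e ∈ (⁅F.Iso, F.Iso⁆ : Subgroup Aˣ)) : Gd F H := by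
  have := c.ss.nontrivial
  obtain ⟨W, r, hW, hH, hS, hr⟩ := Fld.red_LU c hθ hu hF
  obtain ⟨Y, h⟩ := h W r hW
  obtain ⟨t, t1, t2, t3⟩ := exists_gen hθ hu hW h hn e0 he hω
  have hq := qd_of hθ hu h.isF h.sym (hW.le.trans h.le)
  refine Fld.gd_one c hH hS (hI (mkU t t2) t2) (fun x hx => ?_) hr fun s hs h1 w hw =>
    mem_of_pow h.isF h.le (t3 _ (by rw [← F.Aut_le_SAut (F.S_le_Aut hs), hW.sym w hw]) ?_)
      (by rw [← map_pow, pow_card hW.isF hw])
  · rw [Units.val_pow_eq_pow_val]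
    exact hq.mul_comm _ (pow_mem t1 e) _ (le_Zt (h.le hx))
  · have a1 := h1 w hw
    rwa [Units.val_pow_eq_pow_val, ← pow_mul] at a1

end Cfsg.Agent.N2C.FldLU
end

-- part: N2/Cl/FldLU/ExL
section
/-!
# N2, field extension subgroups: the field of degree `n`, and the linear groups (helper52)
-/

set_option autoImplicit false

namespace Cfsg.Agent.N2C

open Cfsg.Agent.DS.Cl Cfsg.Agent.DS.Cl.Fwd Cfsg.Agent.SB.C2 Cfsg.Agent.SB.Fld Cfsg.Agent.TH.Cl.Fld Module

namespace FldLU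

/-- a finite vector space is an extension field -/
theorem exists_L (E M : Type) [Field E] [Finite E] [AddCommGroup M] [Module E M] [Finite M] [Nontrivial M] :
    ∃ (L : Type) (_ : Field L) (ι : E →+* L) (e : L ≃+ M), ∀ w a, e (ι w * a) = w • e a := by
  have : Module.Finite E M := Module.Finite.of_finite
  obtain ⟨r, hr⟩ := CharP.exists E
  have : Fact r.Prime := ⟨CharP.char_is_prime E r⟩
  have : NeZero (finrank E M) := ⟨finrank_pos.ne'⟩
  let e := LinearEquiv.ofFinrankEq _ M (FiniteField.finrank_extension E r (finrank E M))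
  exact ⟨_, _, algebraMap E _, e.toAddEquiv, fun w a => by rw [← Algebra.smul_def]; exact e.map_smul w a⟩

variable {A : Type} [Ring A] [StarRing A] {K V : Type} [Field K] [AddCommGroup V] [Module K V] {π : A →+* End K V}
  {c η θ : A} {L : Type} [Field L] {W : Subring A} {n : ℕ}

/-- the action of `L` on `V` -/
theorem exists_mu {M : Type} [AddCommGroup M] [Module L M] (Φ : M ≃+ V)
    (hk : ∀ k : K, ∃ f : M →ₗ[L] M, ∀ m, Φ (f m) = k • Φ m) : ∃ μ : L →+* End K V, ∀ l m, μ l (Φ m) = Φ (l • m) := by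
  refine ⟨{ toFun := fun l =>
              { toFun := fun x => Φ (l • Φ.symm x)
                map_add' := fun x y => by rw [map_add, smul_add, map_add]
                map_smul' := fun k x => ?_ }
            map_one' := LinearMap.ext fun x => by simp
            map_mul' := fun a b => LinearMap.ext fun x => by simp only [mul_smul, _root_.SemigroupAction.mul_smul, _root_.LinearMap.coe_mk, _root_.AddHom.coe_mk, _root_.Module.End.mul_apply, _root_.AddEquiv.symm_apply_apply]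
            map_zero' := LinearMap.ext fun x => by simp
            map_add' := fun a b => LinearMap.ext fun x => by simp only [add_smul, _root_.add_smul, _root_.map_add, _root_.LinearMap.coe_mk, _root_.AddHom.coe_mk, _root_.LinearMap.add_apply] }, fun l m => by simp only [_root_.RingHom.coe_mk, _root_.MonoidHom.coe_mk, _root_.OneHom.coe_mk, _root_.LinearMap.coe_mk, _root_.AddHom.coe_mk, _root_.AddEquiv.symm_apply_apply]⟩
  obtain ⟨f, hf⟩ := hk k
  obtain ⟨m, rfl⟩ := Φ.surjective x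
  rw [← hf, Φ.symm_apply_apply, Φ.symm_apply_apply, ← map_smul, hf, RingHom.id_apply]

/-- the symmetric lifts of the image of `L` -/
theorem ext_of [Nontrivial V] (h : LU π c η θ) (μ : L →+* End K V) (h1 : ∀ l, ∃ a, star a = a ∧ π a = μ l) (h0 : C0 A ≤ W)
    (hs : ∀ w ∈ W, star w = w) (h2 : ∀ w ∈ W, ∃ l, π w = μ l) (hc : Nat.card L = Nat.card (C0 A) ^ n) {v : V}
    (hv : ∀ x, ∃ a b, μ a v + π θ (μ b v) = x) : ∃ Y, Ext θ W Y n := by
  have com : ∀ {a b : A} {l l' : L}, star a = a → star b = b → π a = μ l → π b = μ l' → a * b = b * a :=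
    fun {a b l l'} a1 b1 a2 b2 => by
      have e : π (a * b) = π (b * a) := by rw [map_mul, map_mul, a2, b2, ← map_mul, ← map_mul, mul_comm]
      exact sub_eq_zero.1 (h.sep _ (by rw [map_sub, e, sub_self])
        (by rw [star_sub, star_mul, star_mul, a1, b1, map_sub, e, sub_self]))
  let Y : Subring A :=
    { carrier := {a | star a = a ∧ ∃ l, π a = μ l}
      mul_mem' := by
        rintro a b ⟨a1, l, a2⟩ ⟨b1, l', b2⟩
        exact ⟨by rw [star_mul, a1, b1, com a1 b1 a2 b2], l * l', by rw [map_mul, map_mul, a2, b2]⟩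
      one_mem' := ⟨star_one A, 1, by rw [map_one, map_one]⟩
      add_mem' := by
        rintro a b ⟨a1, l, a2⟩ ⟨b1, l', b2⟩
        exact ⟨by rw [star_add, a1, b1], l + l', by rw [map_add, map_add, a2, b2]⟩
      zero_mem' := ⟨star_zero A, 0, by rw [map_zero, map_zero]⟩
      neg_mem' := by
        rintro a ⟨a1, l, a2⟩
        exact ⟨by rw [star_neg, a1], -l, by rw [map_neg, map_neg, a2]⟩ }
  have hY : IsF Y := ⟨fun a ⟨a1, _, a2⟩ b ⟨b1, _, b2⟩ => com a1 b1 a2 b2, fun a ⟨a1, l, a2⟩ a0 => by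
    obtain ⟨b, b1, b2⟩ := h1 l⁻¹
    refine ⟨b, ⟨b1, _, b2⟩, sub_eq_zero.1 (h.sep_symm (by rw [star_sub, star_mul, a1, b1, star_one, com a1 b1 a2 b2]) ?_)⟩
    rw [map_sub, map_mul, a2, b2, ← map_mul, mul_inv_cancel₀ fun e => a0 (h.sep_symm a1 (by rw [a2, e, map_zero])),
      map_one, map_one, sub_self]⟩
  have hle : W ≤ Y := fun w hw => ⟨hs w hw, h2 w hw⟩
  have hq := qd_of h.θ_cen h.θ_unit hY (fun _ hy => hy.1) (h0.trans hle)
  have cyc : ∀ x, ∃ z ∈ Zt Y θ, π z v = x := fun x => by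
    obtain ⟨a, b, rfl⟩ := hv x
    obtain ⟨a', a1, a2⟩ := h1 a
    obtain ⟨b', b1, b2⟩ := h1 b
    exact ⟨a' + b' * θ, hq.mem_iff.2 ⟨a', ⟨a1, _, a2⟩, b', ⟨b1, _, b2⟩, rfl⟩, by
      rw [cen_comm h.θ_cen, map_add, map_mul, a2, b2]; rfl⟩
  have cen : Subring.center A ≤ Zt Y θ := fun x hx => by
    obtain ⟨a, ha, b, hb, e⟩ := cen_rep h hx
    exact hq.mem_iff.2 ⟨a, hle (h0 ha), b, hle (h0 hb), e⟩
  have key : ∀ x, (∀ y ∈ Y, y * x = x * y) → c * x ∈ Zt Y θ := fun x hx => by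
    obtain ⟨z, hz, e⟩ := cyc (π x v)
    have a1 := h.c_ker (x - z) (LinearMap.ext fun y => by
      obtain ⟨u, hu, rfl⟩ := cyc y
      rw [← End.mul_apply, ← map_mul, sub_mul, ← Qd.comm_of hx (cen_comm h.θ_cen x).symm u hu, hq.mul_comm z hz u hu,
        ← mul_sub, map_mul, End.mul_apply, map_sub π, LinearMap.sub_apply, e, sub_self, map_zero, LinearMap.zero_apply])
    rw [mul_sub, sub_eq_zero] at a1
    exact a1 ▸ mul_mem (cen h.c_cen) hz
  refine ⟨Y, hY, fun _ hy => hy.1, hle, hc ▸ (Nat.card_congr (Equiv.ofBijective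
    (fun l => (⟨(h1 l).choose, (h1 l).choose_spec.1, l, (h1 l).choose_spec.2⟩ : Y)) ⟨fun a b e => μ.injective ?_,
      fun ⟨a, a1, l, a2⟩ => ⟨l, Subtype.ext (sub_eq_zero.1 (h.sep_symm (a := (h1 l).choose - a) ?_ ?_))⟩⟩)).symm, fun x hx => ?_⟩
  · rw [← (h1 a).choose_spec.2, ← (h1 b).choose_spec.2]
    exact congrArg π (congrArg Subtype.val e)
  · rw [star_sub, (h1 l).choose_spec.1, a1]
  · rw [map_sub, (h1 l).choose_spec.2, a2, sub_self]
  · have a1 := hq.star_mem _ (key (star x) fun y hy => by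
      have a1 := congrArg star (hx y hy)
      rw [star_mul, star_mul, hy.1] at a1
      exact a1.symm)
    rw [star_mul, star_star, cen_comm (star_cen h.c_cen)] at a1
    have a2 := add_mem (key x hx) a1
    rwa [← add_mul, h.c_add, one_mul] at a2

/-- the linear case -/
theorem ext_L [Finite A] [Nontrivial A] [Finite V] [Nontrivial V] (h : LU π θ θ θ) (hW : IsF W) (h0 : C0 A ≤ W)
    (hs : ∀ w ∈ W, star w = w) : Nat.card (C0 A) = Nat.card K ∧ ∃ Y, Ext θ W Y (finrank K V) := by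
  have a0 : π (star θ) = 0 := by rw [eq_sub_of_add_eq' h.c_add, map_sub, map_one, h.η_one, sub_self]
  have a1 : ∀ a, π (θ * a + star (θ * a)) = π a := fun a => by
    rw [map_add, star_mul, map_mul, map_mul, a0, h.η_one, one_mul, mul_zero, add_zero]
  have a2 : ∀ a : A, star (a + star a) = a + star a := fun a => by rw [star_add, star_star, add_comm]
  have a3 : ∀ z ∈ Subring.center A, ∃ x ∈ C0 A, π x = π z := fun z hz =>
    ⟨_, ⟨add_mem (mul_mem h.θ_cen hz) (star_cen (mul_mem h.θ_cen hz)), a2 _⟩, a1 z⟩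
  have a4 := card_scal h (X := C0 A) (fun _ hx => hx.1) (fun x hx => h.sep_symm hx.2) a3
  refine ⟨a4, ?_⟩
  let := hW.isField.toField
  let : Module W V := Module.compHom V (π.comp W.subtype)
  obtain ⟨L, _, ι, e, he⟩ := exists_L W V
  obtain ⟨μ, hμ⟩ := exists_mu (K := K) (L := L) e fun k => by
    obtain ⟨d, hd, e1⟩ := h.exists_cen k
    obtain ⟨x, hx, e2⟩ := a3 d hd
    exact ⟨LinearMap.mulLeft L (ι ⟨x, h0 hx⟩), fun m => (he _ m).trans (LinearMap.congr_fun (e2.trans e1) (e m))⟩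
  refine ext_of h μ (fun l => ?_) h0 hs (fun w hw => ⟨ι ⟨w, hw⟩, LinearMap.ext fun x => ?_⟩) ?_ (v := e 1) fun x => ?_
  · obtain ⟨a, ha⟩ := h.surj (μ l)
    exact ⟨_, a2 _, (a1 a).trans ha⟩
  · obtain ⟨m, rfl⟩ := e.surjective x
    exact ((hμ _ m).trans (he ⟨w, hw⟩ m)).symm
  · rw [a4, Nat.card_congr e.toEquiv, Module.natCard_eq_pow_finrank (K := K)]
  · exact ⟨e.symm x, 0, by rw [map_zero, LinearMap.zero_apply, map_zero, add_zero, hμ, smul_eq_mul, mul_one,
      e.apply_symm_apply]⟩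

end FldLU

open FldLU

/-- **field extension subgroups of the linear groups** -/
theorem fldL : OnL 5 pFld := by
  intro K _ _ n F H p k hn c hF
  have h := luL (n := n) (K := K)
  have : Finite (LR (Fin n) K) := inferInstanceAs (Finite (_ × _))
  have := c.ss.nontrivial
  have : Nonempty (Fin n) := ⟨⟨0, by omega⟩⟩
  have h1 := (ext_L h (isF_C0 c.ss) le_rfl fun _ hx => hx.2).1
  have h2 := Fintype.one_lt_card (α := K)
  rw [Nat.card_eq_fintype_card (α := K)] at h1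
  refine crit (n := finrank K (Fin n → K)) (e := Fintype.card K - 1) c hF h.θ_cen h.θ_unit
    (fun W r hW => (ext_L h hW.isF hW.le hW.sym).2) (by simpa using hn) (by omega) (by omega) (by omega) fun u hu =>
      k.mem_comm (pow_mem (mem_Iso_max (F.L_eq h.c_cen h.c_add) hu) _) ?_
  rw [Units.val_pow_eq_pow_val, map_pow, map_pow]
  exact FiniteField.pow_card_sub_one_eq_one _ (LinearMap.isUnit_det _ (u.isUnit.map (prL n K))).ne_zero

end Cfsg.Agent.N2C
end

-- part: N2/Cl/FldLU/Norm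
section
/-!
# N2, involutions of the second kind: every symmetric unit is a norm (helper52)
-/

set_option autoImplicit false

namespace Cfsg.Agent.N2C.FldLU

open Cfsg.Agent.DS.Cl Cfsg.Agent.SB.Fld

theorem exists_sq_sub {E : Type*} [Field E] [Finite E] {d : E} (hd : d ≠ 0) (s : E) : ∃ a b : E, a ^ 2 - d * b ^ 2 = s := by
  have := Fintype.ofFinite E
  rcases Nat.mod_two_eq_zero_or_one (Fintype.card E) with h2 | h2
  · obtain ⟨a, ha⟩ := FiniteField.isSquare_of_char_two (FiniteField.even_card_iff_char_two.2 h2) s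
    exact ⟨a, 0, by rw [ha]; ring⟩
  · obtain ⟨a, b, hab⟩ := FiniteField.exists_root_sum_quadratic (R := E)
      (f := Polynomial.X ^ 2 - Polynomial.C s) (g := Polynomial.C (-d) * Polynomial.X ^ 2)
      (Polynomial.degree_X_pow_sub_C (by norm_num) _) (Polynomial.degree_C_mul_X_pow 2 (neg_ne_zero.2 hd)) h2
    simp only [Polynomial.eval_sub, Polynomial.eval_pow, Polynomial.eval_X, Polynomial.eval_C,
      Polynomial.eval_mul] at hab
    exact ⟨a, b, by linear_combination hab⟩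

section comm

variable {R : Type*} [CommRing R] [StarRing R]

/-- lifting along nilpotent elements -/
theorem norm_nil {c s : R} (hc : c + star c = 1) (hs : star s = s) (hu : IsUnit s) (k : ℕ) :
    ∀ g : R, (g * star g - s) ^ 2 ^ k = 0 → ∃ h : R, h * star h = s := by
  obtain ⟨t, ht⟩ := hu.exists_right_inv
  induction k with
  | zero => exact fun g hg => ⟨g, sub_eq_zero.1 (by simpa only [_root_.pow_zero, _root_.pow_one] using hg)⟩
  | succ k ih =>
    intro g hg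
    have h1 : star (g * star g - s) = g * star g - s := by rw [star_sub, star_mul', star_star, hs, mul_comm]
    have h2 : s * star t = 1 := by rw [← hs, ← star_mul', ht, star_one]
    have h3 : star t = t := by linear_combination t * h2 - star t * ht
    generalize hν : g * star g - s = ν at hg h1
    refine ih (g * (1 - c * ν * t)) ?_
    have h4 : g * (1 - c * ν * t) * star (g * (1 - c * ν * t)) - s = ν ^ 2 * (c * star c * t ^ 2 * (s + ν) - t) := by
      rw [star_mul', star_sub, star_one, star_mul', star_mul', h1, h3]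
      linear_combination (1 - c * ν * t) * (1 - star c * ν * t) * hν - (s + ν) * ν * t * hc - ν * ht
    rw [h4, mul_pow, ← pow_mul, ← pow_succ', hg, zero_mul]

theorem norm_comm [Finite R] {θ s : R} (hθ : IsUnit (θ - star θ)) (hs : star s = s) (hu : IsUnit s) :
    ∃ h : R, h * star h = s := by
  obtain ⟨y, hy⟩ := hθ.exists_right_inv
  have h1 : star (θ - star θ) = -(θ - star θ) := by rw [star_sub, star_star, neg_sub]
  have h2 : -(θ - star θ) * star y = 1 := by rw [← h1, ← star_mul', hy, star_one]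
  have h3 : star y = -y := by linear_combination -y * h2 - star y * hy
  have hc : θ * y + star (θ * y) = 1 := by rw [star_mul', h3]; linear_combination hy
  have h4 : (θ - star θ) ^ 2 ∈ sym R := by rw [mem_sym, star_pow, h1, neg_sq]
  have h5 : y ^ 2 ∈ sym R := by rw [mem_sym, star_pow, h3, neg_sq]
  have h6 : (⟨_, h4⟩ : sym R) * ⟨_, h5⟩ = 1 := Subtype.ext (show (θ - star θ) ^ 2 * y ^ 2 = 1 by rw [← mul_pow, hy, one_pow])
  have : Finite (Ideal (sym R)) := Finite.of_injective (fun I : Ideal (sym R) => (I : Set (sym R))) SetLike.coe_injective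
  have : Finite (MaximalSpectrum (sym R)) := Finite.of_injective _ fun _ _ => MaximalSpectrum.ext
  have key : ∀ M : MaximalSpectrum (sym R), ∃ a b : sym R ⧸ M.asIdeal,
      a ^ 2 - Ideal.Quotient.mk _ ⟨_, h4⟩ * b ^ 2 = Ideal.Quotient.mk _ ⟨s, hs⟩ := fun M => by
    have := M.isMaximal
    let _ := Ideal.Quotient.field M.asIdeal
    have : Finite (sym R ⧸ M.asIdeal) := Finite.of_surjective _ Ideal.Quotient.mk_surjective
    exact exists_sq_sub (left_ne_zero_of_mul_eq_one (by rw [← map_mul, h6, map_one])) _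
  choose a b hab using key
  have hco : Pairwise (Function.onFun IsCoprime fun M : MaximalSpectrum (sym R) => M.asIdeal) := fun M N h =>
    Ideal.isCoprime_iff_sup_eq.2 (M.isMaximal.coprime_of_ne N.isMaximal fun e => h (MaximalSpectrum.ext e))
  obtain ⟨a₀, ha⟩ := Ideal.pi_quotient_surjective hco a
  obtain ⟨b₀, hb⟩ := Ideal.pi_quotient_surjective hco b
  obtain ⟨k, hk⟩ : IsNilpotent (a₀ ^ 2 - ⟨_, h4⟩ * b₀ ^ 2 - ⟨s, hs⟩ : sym R) := nilpotent_iff_mem_prime.2 fun J hJ =>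
    Ideal.Quotient.eq.1 (by
      have h7 := hab ⟨J, IsArtinianRing.isMaximal_of_isPrime J⟩
      rwa [← ha, ← hb, ← map_pow, ← map_pow, ← map_mul, ← map_sub] at h7)
  have h7 : ((a₀ : R) ^ 2 - (θ - star θ) ^ 2 * (b₀ : R) ^ 2 - s) ^ k = 0 := congrArg Subtype.val hk
  refine norm_nil hc hs hu k (a₀ + (θ - star θ) * b₀) (pow_eq_zero_of_le Nat.lt_two_pow_self.le ?_)
  rw [← h7, star_add, star_mul', h1, mem_sym.1 a₀.2, mem_sym.1 b₀.2]
  congr 1
  ring

end comm

/-- **every symmetric unit is a norm** -/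
theorem norm_sym {A : Type} [Ring A] [StarRing A] [Finite A] {θ s : A} (h1 : θ ∈ Subring.center A)
    (h2 : IsUnit (θ - star θ)) (hs : star s = s) (hu : IsUnit s) :
    ∃ g : Aˣ, star (g : A) * g = s ∧ ∀ x, s * x = x * s → (g : A) * x = x * g := by
  let C := Subring.centralizer ({s} : Set A)
  let R := Subring.centralizer (C : Set A)
  have mC : ∀ {x}, x ∈ C ↔ s * x = x * s := fun {x} => ⟨fun h => h s rfl, by rintro h _ rfl; exact h⟩
  have sR : s ∈ R := fun x hx => (mC.1 hx).symm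
  have hc : ∀ x ∈ R, ∀ y ∈ R, x * y = y * x := fun x hx y hy => hy x (mC.2 (hx s (mC.2 rfl)))
  have st : ∀ x ∈ R, star x ∈ R := fun x hx y hy => by
    have h3 := congrArg star (mC.1 hy)
    rw [star_mul, star_mul, hs] at h3
    have h4 := congrArg star (hx _ (mC.2 h3.symm))
    rw [star_mul, star_mul, star_star] at h4
    exact h4.symm
  have cR : ∀ {x}, x ∈ Subring.center A → x ∈ R := fun hx y _ => cen_comm hx y
  let _ : CommRing R := { (inferInstance : Ring R) with mul_comm := fun x y => Subtype.ext (hc _ x.2 _ y.2) }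
  let _ : StarRing R :=
    { star := fun x => ⟨star x.1, st _ x.2⟩
      star_involutive := fun x => Subtype.ext (star_star x.1)
      star_mul := fun x y => Subtype.ext (star_mul x.1 y.1)
      star_add := fun x y => Subtype.ext (star_add x.1 y.1) }
  have un : ∀ x : R, IsUnit x.1 → IsUnit x := fun x hx => by
    obtain ⟨y, hy⟩ := Finite.surjective_of_injective (f := fun y => x * y)
      (fun y z e => Subtype.ext (hx.mul_left_cancel (congrArg Subtype.val e))) 1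
    exact IsUnit.of_mul_eq_one y hy
  obtain ⟨g, hg⟩ := norm_comm (R := R) (θ := ⟨θ, cR h1⟩) (s := ⟨s, sR⟩) (un _ h2) (Subtype.ext hs) (un _ hu)
  rw [mul_comm] at hg
  have h3 : star g.1 * g.1 = s := congrArg Subtype.val hg
  have h4 : IsUnit g.1 := (isUnit_of_mul_isUnit_right (hg ▸ un ⟨s, sR⟩ hu)).map R.subtype
  exact ⟨h4.unit, h3, fun x hx => (g.2 x (mC.2 hx)).symm⟩

end Cfsg.Agent.N2C.FldLU
end

-- part: N2/Cl/FldLU/ExU
section
/-!
# N2, field extension subgroups of the unitary groups (helper52)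

`V` is free over `W + W θ` (`free`), so `V = L ⊕ θ L` for an extension field `L` of `W`.  `L` is self-adjoint for a second
hermitian form `b (x, s y)`; write `s = g* g` and conjugate `L` by `g` (`exists_symm`).
-/

set_option autoImplicit false

namespace Cfsg.Agent.N2C

namespace FldLU

open Cfsg.Agent.DS.Cl Cfsg.Agent.DS.Cl.Fwd Cfsg.Agent.SB.C2 Cfsg.Agent.SB.Fld Cfsg.Agent.TH.Cl.Fld Module

variable {K V : Type} [Field K] [Finite K] [AddCommGroup V] [Module K V] [Finite V] {h : HF K V} {θ : K}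
  {W : Subring h.EB}

theorem sc_mem {k : K} (hk : h.τ k = k) : h.eb (k • 1) ∈ C0 h.EB := ⟨h.smul_mem_center k, by rw [star_smul_one, hk]⟩

/-- eigenspaces are totally isotropic -/
theorem b_eig {w : h.EB} (hw : star w = w) (hθ : h.τ θ ≠ θ) {x y : V} (hx : h.ap w x = θ • x) (hy : h.ap w y = θ • y) :
    h.b x y = 0 := by
  have h1 := h.b_star w x y
  rw [hw, hx, hy, h.smul_left, h.smul_right] at h1
  exact (mul_eq_mul_right_iff.1 h1).resolve_left hθ

theorem card_eig {w : h.EB} (hw : star w = w) (hθ : h.τ θ ≠ θ)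
    (hd : ∀ x, ∃ y z, h.ap w y = θ • y ∧ h.ap w z = h.τ θ • z ∧ x = y + z) :
    Nat.card {x // h.ap w x = h.τ θ • x} ≤ Nat.card {x // h.ap w x = θ • x} := by
  let U : Submodule K V :=
    { carrier := {x | h.ap w x = θ • x}
      add_mem' := fun {a b} (ha : _ = _) (hb : _ = _) => show _ = _ by rw [map_add, ha, hb, smul_add]
      zero_mem' := show _ = _ by rw [map_zero, smul_zero]
      smul_mem' := fun c a (ha : _ = _) => show _ = _ by rw [map_smul, ha, smul_comm] }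
  have : Module.Finite K U := Module.Finite.of_finite
  have : Finite (Dual K U) := Module.finite_of_finite K
  refine (Nat.card_le_card_of_injective (fun y => ((h.lin y.1).domRestrict U : Dual K U)) fun a b e =>
    Subtype.ext (h.ext_right fun x => ?_)).trans (le_of_eq ?_)
  · obtain ⟨y, z, hy, hz, rfl⟩ := hd x
    have h1 : h.τ (h.τ θ) ≠ h.τ θ := by rw [h.τ_τ]; exact hθ.symm
    rw [h.add_left, h.add_left, b_eig hw h1 hz a.2, b_eig hw h1 hz b.2]
    exact congrArg (· + 0) (LinearMap.congr_fun e ⟨y, hy⟩)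
  · rw [Module.natCard_eq_pow_finrank (K := K), Subspace.dual_finrank_eq, ← Module.natCard_eq_pow_finrank]
    rfl

/-- `V` is free over `W + W θ` -/
theorem free [Nontrivial V] (hθ : h.τ θ ≠ θ) (hW : IsF W) (h0 : C0 h.EB ≤ W) (hs : ∀ w ∈ W, star w = w) :
    ∃ (L : Type) (_ : Field L) (ι : W →+* L) (e : L →+ V), (∀ w a, e (ι w * a) = h.ap w (e a)) ∧
      Function.Bijective fun m : L × L => e m.1 + θ • e m.2 := by
  have := h.ss.nontrivial
  let := hW.isField.toField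
  let : Module W V := Module.compHom V ((prU h).comp W.subtype)
  have hsm : ∀ (w : W) (x : V), w • x = h.ap w x := fun _ _ => rfl
  suffices H : ∃ (M : Type) (_ : AddCommGroup M) (_ : Module W M) (e : M →ₗ[W] V),
      (∀ a b, e a + θ • e b = 0 → a = 0 ∧ b = 0) ∧ Nat.card V ≤ Nat.card M ^ 2 by
    obtain ⟨M, _, _, e, h1, h2⟩ := H
    have h3 : Function.Injective fun m : M × M => e m.1 + θ • e m.2 := fun m m' (k : _ + _ = _ + _) => by
      obtain ⟨k1, k2⟩ := h1 (m.1 - m'.1) (m.2 - m'.2) (by rw [map_sub, map_sub, smul_sub, sub_add_sub_comm, k, sub_self])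
      exact Prod.ext (sub_eq_zero.1 k1) (sub_eq_zero.1 k2)
    have : Finite (M × M) := Finite.of_injective _ h3
    have : Finite M := Finite.of_injective (fun m : M => (m, m)) fun _ _ k => congrArg Prod.fst k
    have h4 := h3.bijective_of_nat_card_le (by rwa [Nat.card_prod, ← pow_two])
    have : Nontrivial M := by
      by_contra k
      have := not_nontrivial_iff_subsingleton.1 k
      exact not_subsingleton V h4.2.subsingleton
    obtain ⟨L, _, ι, f, hf⟩ := exists_L W M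
    exact ⟨L, _, ι, e.toAddMonoidHom.comp f, fun w a => (congrArg e (hf w a)).trans (e.map_smul w _),
      h4.comp (f.prodCongr f).bijective⟩
  have hq := qd_of (luU h hθ).θ_cen (luU h hθ).θ_unit hW hs h0
  have d0 : θ - h.τ θ ≠ 0 := sub_ne_zero.2 hθ.symm
  by_cases hz : ∃ w ∈ W, star (h.eb (θ • 1) - w) * (h.eb (θ • 1) - w) = 0
  · obtain ⟨w, hw, e⟩ := hz
    rw [star_sub, star_smul_one, hs w hw] at e
    have a1 : ∀ x, h.τ θ • (θ • x - h.ap w x) - h.ap w (θ • x - h.ap w x) = 0 := fun x => LinearMap.congr_fun e x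
    have a2 : ∀ x, ∃ y z, h.ap w y = θ • y ∧ h.ap w z = h.τ θ • z ∧ x = y + z := fun x => by
      refine ⟨(θ - h.τ θ)⁻¹ • (h.ap w x - h.τ θ • x), (θ - h.τ θ)⁻¹ • (θ • x - h.ap w x), ?_, ?_, ?_⟩
      · have a2 := a1 x
        rw [map_sub, map_smul] at a2
        rw [map_smul, smul_comm θ, map_sub, map_smul]
        congr 1
        linear_combination (norm := module) a2
      · rw [map_smul, smul_comm (h.τ θ), sub_eq_zero.1 (a1 x)]
      · rw [← smul_add, sub_add_sub_cancel', ← sub_smul, smul_smul, inv_mul_cancel₀ d0, one_smul]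
    let S : K → Submodule W V := fun k =>
      { carrier := {x | h.ap w x = k • x}
        add_mem' := fun {a b} (ha : _ = _) (hb : _ = _) => show _ = _ by rw [map_add, ha, hb, smul_add]
        zero_mem' := show _ = _ by rw [map_zero, smul_zero]
        smul_mem' := fun c a (ha : _ = _) => show _ = _ by
          rw [hsm, ← h.ap_mul, hW.comm w hw _ c.2, h.ap_mul, ha, map_smul] }
    have a3 : Nat.card (S θ) = Nat.card (S (h.τ θ)) := le_antisymm (by
      have a3 := card_eig (θ := h.τ θ) (hs w hw) (by rw [h.τ_τ]; exact hθ.symm) fun x => by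
        obtain ⟨y, z, hy, hz, e⟩ := a2 x
        exact ⟨z, y, hz, by rwa [h.τ_τ], e.trans (add_comm y z)⟩
      rwa [h.τ_τ] at a3) (card_eig (hs w hw) hθ a2)
    have : Module.Finite W V := Module.Finite.of_finite
    let ψ := LinearEquiv.ofFinrankEq (R := W) (S θ) (S (h.τ θ)) ((Nat.pow_right_injective (two_le_card W)
      (Module.natCard_eq_pow_finrank.symm.trans (a3.trans Module.natCard_eq_pow_finrank)) :))
    refine ⟨S θ, _, _, (S θ).subtype + (S (h.τ θ)).subtype ∘ₗ ψ.toLinearMap, fun a b (k : (a.1 + (ψ a).1) +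
      θ • (b.1 + (ψ b).1) = 0) => ?_, ?_⟩
    · have b1 : h.ap w b.1 = θ • b.1 := b.2
      have b2 : h.ap w (ψ b).1 = h.τ θ • (ψ b).1 := (ψ b).2
      have b3 := congrArg (h.ap w) k
      rw [map_add, map_add, map_smul, map_add, map_zero, show h.ap w a.1 = _ from a.2, show h.ap w (ψ a).1 = _ from (ψ a).2,
        b1, b2] at b3
      have b4 : a.1 + θ • b.1 = 0 := (smul_eq_zero_iff_right d0).1 (by
        linear_combination (norm := module) b3 - h.τ θ • k)
      have b5 : a = -((⟨w, hw⟩ : W) • b) := Subtype.ext ((eq_neg_of_add_eq_zero_left b4).trans (congrArg Neg.neg b1.symm))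
      have b6 : (ψ a).1 = -(h.τ θ • (ψ b).1) := by rw [b5, map_neg, map_smul, ← b2]; rfl
      have b7 : ψ b = 0 := Subtype.ext ((smul_eq_zero_iff_right d0).1 (by
        linear_combination (norm := module) k - b4 - b6))
      rw [ψ.map_eq_zero_iff] at b7
      exact ⟨by rw [b5, b7, smul_zero, neg_zero], b7⟩
    · rw [pow_two]
      nth_rw 2 [a3]
      rw [← Nat.card_prod]
      refine Nat.card_le_card_of_surjective (fun m => m.1.1 + m.2.1) fun x => ?_
      obtain ⟨y, z, hy, hz, e⟩ := a2 x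
      exact ⟨(⟨y, hy⟩, ⟨z, hz⟩), e.symm⟩
  have a1 : IsF (Zt W (h.eb (θ • 1))) := ⟨hq.mul_comm, fun z hz' z0 => by
    obtain ⟨a, ha, b, hb, rfl⟩ := hq.mem_iff.1 hz'
    by_cases b0 : b = 0
    · rw [b0, zero_mul, add_zero] at z0 ⊢
      exact (hW.inv a ha z0).imp fun y hy => ⟨le_Zt hy.1, hy.2⟩
    obtain ⟨b', hb', e⟩ := hW.inv b hb b0
    have a1 := neg_mem (mul_mem hb' ha)
    obtain ⟨y, hy, -, e'⟩ := hq.exists_inv (sub_mem self_mem_Zt (le_Zt a1)) fun k => hz ⟨_, a1, k⟩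
    exact ⟨y * b', mul_mem hy (le_Zt hb'), by
      rw [show a + b * h.eb (θ • 1) = b * (h.eb (θ • 1) - -(b' * a)) by
        rw [sub_neg_eq_add, mul_add, ← mul_assoc, e, one_mul, add_comm], mul_assoc, ← mul_assoc _ y, e', one_mul, e]⟩⟩
  let := a1.isField.toField
  let : Module (Zt W (h.eb (θ • 1))) V := Module.compHom V ((prU h).comp (Subring.subtype _))
  have : Module.Finite (Zt W (h.eb (θ • 1))) V := Module.Finite.of_finite
  let v := (Module.finBasis (Zt W (h.eb (θ • 1))) V :)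
  refine ⟨_ → W, _, _, Fintype.linearCombination W v, fun a b k => ?_, ?_⟩
  · have b1 := Fintype.linearIndependent_iff.1 v.linearIndependent
      (fun i => ⟨a i + b i * h.eb (θ • 1), hq.mem_iff.2 ⟨_, (a i).2, _, (b i).2, rfl⟩⟩) (by
        rw [← k, Fintype.linearCombination_apply, Fintype.linearCombination_apply, Finset.smul_sum, ← Finset.sum_add_distrib]
        exact Finset.sum_congr rfl fun i _ => congrArg (h.ap (a i) (v i) + ·) ((h.ap (b i)).map_smul θ (v i)))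
    have b2 : ∀ i, (a i : h.EB) + b i * h.eb (θ • 1) = 0 := fun i => congrArg Subtype.val (b1 i)
    have b3 : ∀ i, (b i : h.EB) = 0 := fun i => hq.unit.mul_left_eq_zero.1 (by
      rw [← hq.sub_star (a i).2 (b i).2, b2, star_zero, sub_zero])
    exact ⟨funext fun i => Subtype.ext (show (a i : h.EB) = 0 by simpa only [b3, zero_mul, add_zero] using b2 i),
      funext fun i => Subtype.ext (b3 i)⟩
  · rw [Module.natCard_eq_pow_finrank (K := Zt W (h.eb (θ • 1))), hq.card_eq, Nat.card_fun, Nat.card_fin, ← pow_mul,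
      ← pow_mul, mul_comm]

/-- two forms -/
theorem exists_rel (h h' : HF K V) (hτ : h'.τ = h.τ) : ∃ s : h.EB, IsUnit s ∧ ∀ x y, h.b x (h.ap s y) = h'.b x y := by
  have a1 : ∀ y x, h.b x (h.exists_rep (h'.lin y)).choose = h'.b x y := fun y => (h.exists_rep (h'.lin y)).choose_spec
  let s : End K V :=
    { toFun := fun y => (h.exists_rep (h'.lin y)).choose
      map_add' := fun y z => h.ext_right fun x => by rw [h.add_right, a1, a1, a1, h'.add_right]
      map_smul' := fun c y => h.ext_right fun x => by rw [RingHom.id_apply, h.smul_right, a1, a1, h'.smul_right, hτ] }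
  refine ⟨h.eb s, (End.isUnit_iff s).2 (Finite.injective_iff_bijective.1 fun y z (e : s y = s z) =>
    h'.ext_right fun x => ?_), fun x y => a1 y x⟩
  exact (a1 y x).symm.trans ((congrArg (h.b x) e).trans (a1 z x))

/-- the self-adjoint field -/
theorem exists_symm (hε : h.ε = 1) (hθ : h.τ θ ≠ θ) (h0 : C0 h.EB ≤ W) (hs : ∀ w ∈ W, star w = w) {L : Type} [Field L]
    (ι : W →+* L) (e : L →+ V) (he : ∀ w a, e (ι w * a) = h.ap w (e a))
    (hb : Function.Bijective fun m : L × L => e m.1 + θ • e m.2) :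
    ∃ (μ : L →+* h.EB) (v : V), (∀ l, star (μ l) = μ l) ∧ (∀ w : W, μ (ι w) = w) ∧
      ∀ x, ∃ a b, h.ap (μ a) v + θ • h.ap (μ b) v = x := by
  have d0 : θ - h.τ θ ≠ 0 := sub_ne_zero.2 hθ.symm
  let Φ : L × L ≃+ V := AddEquiv.ofBijective (e.coprod ((DistribSMul.toAddMonoidHom V θ).comp e)) hb
  have hΦ : ∀ m, Φ m = e m.1 + θ • e m.2 := fun _ => rfl
  let K0 := RingHom.eqLocusField h.τ (RingHom.id K)
  let s : K0 →+* L := ι.comp (RingHom.codRestrict (R := K0) (S := h.EB) ((algebraMap K (End K V)).comp K0.subtype) W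
    fun k => h0 (sc_mem k.2))
  have a0 : ∀ (k : K0) a, e (s k * a) = (k : K) • e a := fun k a => he _ a
  let T : K0 := ⟨θ + h.τ θ, show h.τ _ = _ by rw [map_add, h.τ_τ, add_comm]; rfl⟩
  let N : K0 := ⟨θ * h.τ θ, show h.τ _ = _ by rw [map_mul, h.τ_τ, mul_comm]; rfl⟩
  let J : L × L →ₗ[L] L × L := LinearMap.prod (-(s N • LinearMap.snd L L L)) (LinearMap.fst L L L + s T • LinearMap.snd L L L)
  have hJ : ∀ m, J m = (-(s N * m.2), m.1 + s T * m.2) := fun _ => rfl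
  have a1 : ∀ (k : K0) m, Φ (s k • m) = (k : K) • Φ m := fun k m => by
    rw [hΦ, hΦ, Prod.smul_fst, Prod.smul_snd, smul_eq_mul, smul_eq_mul, a0, a0, smul_add, smul_comm θ]
  have a2 : ∀ m, Φ (J m) = θ • Φ m := fun m => by
    rw [hJ, hΦ, hΦ, map_neg, map_add, a0, a0]
    change -((θ * h.τ θ) • e m.2) + θ • (e m.1 + (θ + h.τ θ) • e m.2) = _
    module
  have a3 : ∀ k : K, ∃ k₁ k₂ : K0, k = k₁ + k₂ * θ := fun k => by
    have b1 : h.τ ((k - h.τ k) / (θ - h.τ θ)) = (k - h.τ k) / (θ - h.τ θ) := by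
      rw [map_div₀, map_sub, map_sub, h.τ_τ, h.τ_τ, ← neg_div_neg_eq, neg_sub, neg_sub]
    refine ⟨⟨k - (k - h.τ k) / (θ - h.τ θ) * θ, show h.τ _ = k - _ from ?_⟩, ⟨_, b1⟩, (sub_add_cancel _ _).symm⟩
    rw [map_sub, map_mul, b1]
    field_simp
    ring
  have a4 : ∀ (k₁ k₂ : K0) m, Φ (s k₁ • m + s k₂ • J m) = ((k₁ : K) + k₂ * θ) • Φ m := fun k₁ k₂ m => by
    rw [map_add, a1, a1, a2, add_smul, mul_smul]
  obtain ⟨μ, hμ⟩ := exists_mu (K := K) (L := L) Φ fun k => by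
    obtain ⟨k₁, k₂, rfl⟩ := a3 k
    exact ⟨s k₁ • (LinearMap.id : L × L →ₗ[L] L × L) + s k₂ • J, fun m => (a4 k₁ k₂ m :)⟩
  let := s.toAlgebra
  obtain ⟨φ, hφ⟩ : ∃ φ : Dual K0 L, φ 1 ≠ 0 := not_forall.1 fun k => one_ne_zero ((forall_dual_apply_eq_zero_iff K0 _).1 k)
  obtain ⟨ψ, hψ⟩ : ∃ ψ : L →+ K, ∀ a, ψ a = φ a := ⟨K0.subtype.toAddMonoidHom.comp φ.toAddMonoidHom, fun _ => rfl⟩
  have b1 : ∀ (k : K0) a, ψ (s k * a) = k * ψ a := fun k a => by
    rw [hψ, hψ]
    exact congrArg Subtype.val (φ.map_smul k a)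
  have b2 : ∀ a, h.τ (ψ a) = ψ a := fun a => by rw [hψ]; exact (φ a).2
  have b3 : ∀ c, (∀ a, ψ (a * c) = 0) → c = 0 := fun c k => by
    by_contra c0
    exact hφ (Subtype.ext ((hψ 1).symm.trans (inv_mul_cancel₀ c0 ▸ k c⁻¹)))
  let β : L × L → L × L → K := fun m n =>
    ψ (m.1 * n.1) + θ * ψ (m.2 * n.1) + h.τ θ * ψ (m.1 * n.2) + θ * h.τ θ * ψ (m.2 * n.2)
  have c1 : ∀ m m' n, β (m + m') n = β m n + β m' n := fun m m' n => by
    simp only [β, Prod.fst_add, Prod.snd_add, add_mul, map_add]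
    ring
  have c2 : ∀ (k : K0) m n, β (s k • m) n = k * β m n := fun k m n => by
    simp only [β, Prod.smul_fst, Prod.smul_snd, smul_eq_mul, mul_assoc, b1]
    ring
  have c3 : ∀ m n, β (J m) n = θ * β m n := fun m n => by
    simp only [β, hJ, add_mul, neg_mul, map_add, map_neg, mul_assoc, b1, T, N]
    ring
  have c4 : ∀ (l : L) m n, β (l • m) n = β m (l • n) := fun l m n => by
    simp only [β, Prod.smul_fst, Prod.smul_snd, smul_eq_mul, mul_assoc, mul_left_comm l]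
  let h' : HF K V :=
    { τ := h.τ
      ε := 1
      b := fun x y => β (Φ.symm x) (Φ.symm y)
      add_left := fun x x' y => by rw [map_add, c1]
      smul_left := fun k x y => by
        obtain ⟨k₁, k₂, rfl⟩ := a3 k
        obtain ⟨m, rfl⟩ := Φ.surjective x
        rw [← a4, Φ.symm_apply_apply, Φ.symm_apply_apply, c1, c2, c2, c3]
        ring
      swap := fun x y => by
        simp only [β, map_add, map_mul, b2, h.τ_τ, mul_comm (Φ.symm y).1, mul_comm (Φ.symm y).2]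
        ring
      τ_τ := h.τ_τ
      nondeg := fun y k => by
        have k1 : ∀ a, ψ (a * (Φ.symm y).1) + h.τ θ * ψ (a * (Φ.symm y).2) = 0 := fun a => by
          simpa only [β, Φ.symm_apply_apply, zero_mul, map_zero, mul_zero, add_zero] using k (Φ (a, 0))
        have k2 : (Φ.symm y).2 = 0 := b3 _ fun a => (mul_eq_zero_iff_left d0).1 (by
          have k2 := congrArg h.τ (k1 a)
          rw [map_add, map_mul h.τ, b2, b2, h.τ_τ, map_zero] at k2
          linear_combination k2 - k1 a)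
        have k3 : (Φ.symm y).1 = 0 := b3 _ fun a => by simpa only [k2, mul_zero, map_zero, add_zero] using k1 a
        exact Φ.symm.map_eq_zero_iff.1 (Prod.ext k3 k2) }
  obtain ⟨t, t1, t2⟩ := exists_rel h h' rfl
  have t3 : star t = t := h.ap_ext fun y => h.ext_right fun x => by
    rw [h.b_star, h.swap, t2, t2, h'.swap y x, hε]
  have t4 : ∀ l, star (h.eb (μ l)) * t = t * h.eb (μ l) := fun l => h.ap_ext fun y => h.ext_right fun x => by
    obtain ⟨m, rfl⟩ := Φ.surjective x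
    obtain ⟨n, rfl⟩ := Φ.surjective y
    rw [h.ap_mul, h.ap_mul, h.b_star, t2, t2, h.ap_eb, hμ, hμ]
    simp only [h', Φ.symm_apply_apply, c4]
  have t5 : ∀ w : W, h.eb (μ (ι w)) = w := fun w => h.ap_ext fun x => by
    obtain ⟨m, rfl⟩ := Φ.surjective x
    rw [h.ap_eb, hμ, hΦ, hΦ, Prod.smul_fst, Prod.smul_snd, smul_eq_mul, smul_eq_mul, he, he, map_add, map_smul]
  obtain ⟨g, g1, g2⟩ := norm_sym (luU h hθ).θ_cen (luU h hθ).θ_unit t3 t1
  have g3 : ∀ l, cj h.EB g (h.eb (μ l)) * g = g * h.eb (μ l) := fun l => cj_mul_eq g _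
  refine ⟨(cj h.EB g : h.EB →+* h.EB).comp μ, h.ap g (Φ (1, 0)), fun l => ?_, fun w => ?_, fun x => ?_⟩
  · refine g.isUnit.mul_right_cancel (g.isUnit.star.mul_left_cancel ?_)
    change star (g : h.EB) * (star (cj h.EB g (h.eb (μ l))) * g) = star (g : h.EB) * (cj h.EB g (h.eb (μ l)) * g)
    rw [← mul_assoc, ← star_mul, g3, star_mul, mul_assoc, ← mul_assoc (star (g : h.EB)), g1, t4]
  · refine cj_eq_of_mul (a := h.eb (μ (ι w))) ?_
    rw [t5]
    exact g2 _ (by rw [← t5, ← t4, t5, hs _ w.2])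
  · obtain ⟨m, hm⟩ := Φ.surjective (h.ap (g⁻¹ : h.EBˣ) x)
    refine ⟨m.1, m.2, ?_⟩
    change h.ap (cj h.EB g (h.eb (μ m.1))) _ + θ • h.ap (cj h.EB g (h.eb (μ m.2))) _ = x
    rw [← h.ap_mul, ← h.ap_mul, g3, g3, h.ap_mul, h.ap_mul, h.ap_eb, h.ap_eb, hμ, hμ, ← map_smul, ← map_add, ← a2, ← map_add,
      show m.1 • ((1 : L), (0 : L)) + J (m.2 • ((1 : L), (0 : L))) = m by simp [hJ], hm, ← h.ap_mul, Units.mul_inv,
      h.ap_one]

/-- the unitary case -/
theorem ext_U [Nontrivial V] (hε : h.ε = 1) (hθ : h.τ θ ≠ θ) (hK : Nat.card K = Nat.card (C0 h.EB) ^ 2) (hW : IsF W)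
    (h0 : C0 h.EB ≤ W) (hs : ∀ w ∈ W, star w = w) : ∃ Y, Ext (h.eb (θ • 1)) W Y (finrank K V) := by
  obtain ⟨L, _, ι, e, he, hb⟩ := free hθ hW h0 hs
  obtain ⟨μ, v, h1, h2, h3⟩ := exists_symm hε hθ h0 hs ι e he hb
  refine ext_of (luU h hθ) μ (fun l => ⟨μ l, h1 l, rfl⟩) h0 hs (fun w hw => ⟨_, (h2 ⟨w, hw⟩).symm⟩)
    (Nat.pow_left_injective two_ne_zero ?_) h3
  change _ ^ 2 = _ ^ 2
  rw [pow_two, ← Nat.card_prod, Nat.card_eq_of_bijective _ hb, Module.natCard_eq_pow_finrank (K := K), hK, ← pow_mul,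
    ← pow_mul, mul_comm]

theorem card_C0 [Nontrivial V] (hθ : h.τ θ ≠ θ) : Nat.card K = Nat.card (C0 h.EB) ^ 2 := by
  have u := luU h hθ
  have a1 := qd_of u.θ_cen u.θ_unit (isF_C0 h.ss) (fun _ hx => hx.2) le_rfl
  rw [← a1.card_eq, le_antisymm (Zt_le (W := C0 h.EB) (fun _ hx => hx.1) u.θ_cen) fun _ hx => a1.mem_iff.2 (cen_rep u hx),
    card_scal u le_rfl (fun _ _ e => e) fun z hz => ⟨z, hz, rfl⟩]

end FldLU

open FldLU Cfsg.Agent.DS.Cl Cfsg.Agent.DS.Cl.Fwd Cfsg.Agent.SB.Fld Module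

/-- **field extension subgroups of the unitary groups** -/
theorem fldU : OnU 5 pFld := by
  intro K V _ _ _ _ _ h F q H p k hn c hF
  obtain ⟨hε, θ, hθ⟩ := k.u
  have u := luU h hθ
  have : Nontrivial V := Module.nontrivial_of_finrank_pos (R := K) (by omega)
  have a1 := card_C0 hθ
  have a2 : Nat.card (C0 h.EB) = q := Nat.pow_left_injective two_ne_zero
    (a1.symm.trans (Nat.card_eq_fintype_card.trans k.card))
  refine crit (e := q + 1) c hF u.θ_cen u.θ_unit (fun W r hW => ext_U hε hθ a1 hW.isF hW.le hW.sym) hn q.succ_pos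
    (by omega) (fun h2 _ => ?_) fun g hg => k.mem_comm (pow_mem (mem_Iso_max k.L hg) _) ?_
  · have b0 : θ ≠ 0 := fun e => hθ (by rw [e, map_zero])
    have b1 : θ ^ 3 = 1 := by
      have b1 := FiniteField.pow_card_sub_one_eq_one θ b0
      rwa [k.card, ← a2, h2] at b1
    have b2 : h.τ θ = θ ^ 2 := by rw [Cyc.tau_pow k.u k.card, ← a2, h2]
    refine ⟨h.eb (θ • 1), u.θ_cen, ?_, fun e => hθ ?_, ?_⟩
    · rw [star_smul_one, b2]
      exact (smul_mul_smul_comm θ (1 : End K V) _ 1).trans (by rw [← pow_succ', b1, one_mul, one_smul]; rfl)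
    · rw [smul_left_injective K (one_ne_zero (α := End K V)) ((show θ • (1 : End K V) = 1 from e).trans (one_smul K _).symm),
        map_one]
    · exact (smul_pow θ (1 : End K V) 3).trans (by rw [b1, one_pow, one_smul]; rfl)
  · rw [Units.val_pow_eq_pow_val]
    exact (map_pow LinearMap.det (h.ap g) _).trans (Cyc.det_pow_U k (mem_Iso_max k.L hg))

end Cfsg.Agent.N2C
end

private theorem dce_32d63f28205e : _root_.True := by
  try have : _root_.True := by simp only [_root_.Cfsg.Agent.N2C.FrSp.Fm.ι.congr_simp]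
  try have : _root_.True := by simp only [_root_.Cfsg.Agent.N2C.FrSp.Fm.mon.eq_1]
  try have : _root_.True := by simp only [_root_.Cfsg.Agent.N2C.FrL.gN.eq_1]
  try have : _root_.True := by simp only [_root_.Cfsg.Agent.N2C.Cyc.Cn.mk.congr_simp]
  try have : _root_.True := by simp only [_root_.Cfsg.Agent.N2C.Cyc.Cn.sg.congr_simp]
  try have : _root_.True := by simp only [_root_.Cfsg.Agent.N2C.FrSp.Fm.cyc.eq_1]
  exact _root_.True.intro
end
end

-- part: N2/D4m/Defs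
section
prune_inst 0x14000000000000
set_option linter.all false
open scoped Cfsg.Agent.FastGrp

-- part: N2/Cl/Quad/Refl
section
/-!
# N2 (S3519), classical socles: products of reflections with small fixed space (helper60)
-/

set_option autoImplicit false
set_option linter.unusedSectionVars false

namespace Cfsg.Agent.N2C.Quad

open Cfsg Cfsg.Agent.DS.Cl Cfsg.Agent.DS.Cl.Fwd Cfsg.Agent.SB.Cl Cfsg.Agent.SB.Tor Module
open Cfsg.Agent.TH.Cl.Cases (refl_mul_mem)

variable {K V : Type} [Field K] [Finite K] [AddCommGroup V] [Module K V] [Finite V] {h : HF K V}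

/-- the fixed space -/
def fixS (u : h.EBˣ) : Submodule K V := LinearMap.ker (h.ap u - 1)

theorem mem_fixS {u : h.EBˣ} {x : V} : x ∈ fixS u ↔ h.ap u x = x := by
  rw [fixS, LinearMap.mem_ker, LinearMap.sub_apply, End.one_apply, sub_eq_zero]

theorem fixS_one : fixS (1 : h.EBˣ) = ⊤ := eq_top_iff.2 fun x _ => mem_fixS.2 (h.ap_one x)

theorem finrank_inf_ker {U : Submodule K V} {f : V →ₗ[K] K} {y : V} (hy : y ∈ U) (hf : f y ≠ 0) :
    finrank K ↥(U ⊓ LinearMap.ker f) + 1 = finrank K U := by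
  have : Module.Finite K V := Module.Finite.of_finite
  have h1 := Module.Dual.finrank_ker_add_one_of_ne_zero (f := f.domRestrict U)
    fun h0 => hf (LinearMap.congr_fun h0 ⟨y, hy⟩)
  rwa [LinearMap.ker_domRestrict, ← Submodule.finrank_map_subtype_eq, Submodule.map_comap_subtype] at h1

/-- a quasi-reflection whose centre is not orthogonal to the fixed space cuts the fixed space -/
theorem fixS_mul {u r : h.EBˣ} (hu : (u : h.EB) * star (u : h.EB) = 1) {κ : K} (hκ : κ ≠ 0) {w y : V}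
    (hr : (r : h.EB) = qr h κ w) (hy : y ∈ fixS u) (hwy : h.b w y ≠ 0) :
    fixS (r * u) = fixS u ⊓ LinearMap.ker (h.lin w) := by
  ext x
  rw [Submodule.mem_inf, mem_fixS, mem_fixS, Units.val_mul, h.ap_mul, hr, ap_qr, LinearMap.mem_ker]
  change _ ↔ _ ∧ h.b x w = 0
  constructor
  · intro h1
    have h2 : h.b (h.ap u x) y = h.b x y := by
      rw [← (h.unit_iff u).1 hu x y, mem_fixS.1 hy]
    have h3 := congrArg (fun z => h.b z y) h1
    simp only [h.sub_left, h.smul_left, h2, sub_eq_self] at h3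
    have h4 : h.b (h.ap u x) w = 0 :=
      (mul_eq_zero.1 ((mul_eq_zero.1 h3).resolve_right hwy)).resolve_left hκ
    rw [h4, mul_zero, zero_smul, sub_zero] at h1
    exact ⟨h1, by rwa [h1] at h4⟩
  · rintro ⟨h1, h2⟩
    rw [h1, h2, mul_zero, zero_smul, sub_zero]

variable {F : FR h.EB} {Q : QuadraticForm K V} (hO : IsO h F Q) {v : V} {U : Submodule K V}
  (hw : ∀ y ∈ U, (∀ c : K, y ≠ c • v) → ∃ w, Q w ≠ 0 ∧ h.b w v = 0 ∧ h.b w y ≠ 0)
include hO hw

theorem step {u : h.EBˣ} (hu : u ∈ F.Iso) (hU : fixS u ≤ U) (hv : v ∈ fixS u)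
    (hd : finrank K (Submodule.span K {v}) < finrank K (fixS u)) :
    ∃ w, Q w ≠ 0 ∧ ∃ r ∈ F.Iso, (r : h.EB) = qr h (Q w)⁻¹ w ∧ fixS (r * u) ≤ U ∧ v ∈ fixS (r * u) ∧
      finrank K (fixS (r * u)) + 1 = finrank K (fixS u) := by
  have : Module.Finite K V := Module.Finite.of_finite
  obtain ⟨y, hy, hy'⟩ : ∃ y ∈ fixS u, y ∉ Submodule.span K {v} := by
    by_contra hcon
    push Not at hcon
    exact absurd (Submodule.finrank_mono hcon) (not_le.2 hd)
  obtain ⟨w, h1, h2, h3⟩ := hw y (hU hy) fun c hc => hy' (Submodule.mem_span_singleton.2 ⟨c, hc.symm⟩)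
  obtain ⟨r, hr, hr'⟩ := exists_reflU hO h1
  have h4 := fixS_mul hu.1 (inv_ne_zero h1) hr' hy h3
  refine ⟨w, h1, r, hr, hr', h4.le.trans (inf_le_left.trans hU), ?_, ?_⟩
  · rw [h4]
    exact ⟨hv, (O_symm hO v w).trans h2⟩
  · rw [h4]
    exact finrank_inf_ker hy (h.ne_swap h3)

/-- **descent**: two reflections at a time -/
theorem descent (h2 : (2 : K) = 0) (d : ℕ) : ∀ u ∈ F.Iso, cj h.EB u ∈ F.S → fixS u ≤ U → v ∈ fixS u →
    finrank K (fixS u) = d → ∃ a ∈ F.Iso, cj h.EB a ∈ F.S ∧ fixS a ≤ U ∧ v ∈ fixS a ∧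
      finrank K (fixS a) ≤ finrank K (Submodule.span K {v}) + 1 ∧ finrank K (fixS a) % 2 = d % 2 := by
  induction d using Nat.strong_induction_on with
  | _ d ih =>
    intro u hu hS hU hv hd
    by_cases h1 : d ≤ finrank K (Submodule.span K {v}) + 1
    · exact ⟨u, hu, hS, hU, hv, hd ▸ h1, by rw [hd]⟩
    obtain ⟨w, hw1, r, hr, hr', a1, a2, a3⟩ := step hO hw hu hU hv (by omega)
    obtain ⟨w', hw2, s, hs, hs', b1, b2, b3⟩ := step hO hw (mul_mem hr hu) a1 a2 (by omega)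
    obtain ⟨a, c1, c2, c3, c4, c5, c6⟩ := ih (d - 2) (by omega) _ (mul_mem hs (mul_mem hr hu)) (by
      rw [← mul_assoc, map_mul]
      exact mul_mem (refl_mul_mem hO h2 hw2 hw1 hr hs' hr') hS) b1 b2 (by omega)
    exact ⟨a, c1, c2, c3, c4, c5, by omega⟩

end Cfsg.Agent.N2C.Quad
end

-- part: N2/Cl/Quad/Main
section
/-!
# N2 (S3519), classical socles: the class `pQuad` (helper60)

Orthogonal groups in symplectic groups of characteristic two.  An element of `Ω(Q)` without fixed vectors preserves only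
one quadratic form with the given polar form.
-/

set_option autoImplicit false
set_option linter.unusedSectionVars false

namespace Cfsg.Agent.N2C

open Cfsg Cfsg.Agent.DS.Cl Cfsg.Agent.DS.Cl.Fwd Cfsg.Agent.SB.Cl Cfsg.Agent.SB.Tor Module
open Cfsg.Agent.TH.Cl.Cases (L_eq_LR alt_Sp tv_Sp exists_perp_ns)

namespace Quad

variable {K V : Type} [Field K] [Finite K] [AddCommGroup V] [Module K V] [Finite V] {h : HF K V}

/-- a scalar of trace one -/
theorem Lmin_eq_of {c : K} (hc : c + h.τ c = 1) : Lmin h.EB = Lmax h.EB :=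
  Lmin_eq_Lmax (h.smul_mem_center c) (h.ap_ext fun v => h.ext_right fun u => by
    rw [h.ap_add, h.add_right, h.b_star, ap_sc, ap_sc, h.smul_left, h.smul_right, h.ap_one, ← add_mul, add_comm, hc,
      one_mul])

theorem Lmin_eq_U (hU : IsU h) : Lmin h.EB = Lmax h.EB := by
  obtain ⟨d, hd⟩ := hU.2
  have key : ∀ c : K, c + h.τ c ≠ 0 → Lmin h.EB = Lmax h.EB := fun c hc => Lmin_eq_of (c := c / (c + h.τ c)) (by
    rw [map_div₀, map_add, h.τ_τ, add_comm (h.τ c), ← add_div, div_self hc])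
  by_cases h1 : d + h.τ d = 0
  · refine key 1 fun h2 => hd ?_
    rw [map_one] at h2
    linear_combination h1 - d * h2
  · exact key d h1

theorem two_eq_zero (hτ : ∀ c, h.τ c = c) (hL : Lmin h.EB ≠ Lmax h.EB) : (2 : K) = 0 := by
  by_contra h2
  exact hL (Lmin_eq_of (c := 2⁻¹) (by rw [hτ, ← two_mul, mul_inv_cancel₀ h2]))

/-- the quadratic form of an element of trace one -/
theorem exists_Q {F : FR h.EB} (hS : IsSp h F) (h2 : (2 : K) = 0) {l : h.EB} (hl : l + star l = 1) :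
    ∃ Q : QuadraticForm K V, IsO h ⟨l, Lmin _, hl, Or.inl rfl⟩ Q := by
  let B : V →ₗ[K] V →ₗ[K] K := LinearMap.mk₂ K h.b h.add_left h.smul_left h.add_right fun c u v => by
    rw [h.smul_right, hS.1, smul_eq_mul]
  refine ⟨LinearMap.BilinMap.toQuadraticMap (B.compl₂ (h.ap l)), hS.1, fun u v => ?_, rfl, fun _ => rfl⟩
  rw [LinearMap.BilinMap.polar_toQuadraticMap]
  change _ = h.b u (h.ap l v) + h.b v (h.ap l u)
  rw [← h.star_b l v, alt_Sp hS.2.1 _ u, neg_eq_of_add_eq_zero_left (a := h.b u (h.ap (star l) v))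
    (by rw [← two_mul, h2, zero_mul]), ← h.add_right, ← h.ap_add, hl, h.ap_one]

variable {F F' : FR h.EB} {Q : QuadraticForm K V} (hO : IsO h F' Q)
include hO

theorem exists_ns (h3 : 3 ≤ finrank K V) (hb : ∀ v, h.b v v = 0) {y : V} (hy : y ≠ 0) : ∃ w, Q w ≠ 0 ∧ h.b w y ≠ 0 := by
  obtain ⟨x, hx⟩ := h.exists_ne hy
  by_cases h1 : Q x = 0
  · obtain ⟨z, h4, h5, h6⟩ := exists_perp_ns hO h3 hb hx
    exact ⟨z + x, by rwa [O_add hO, h1, h5, add_zero, add_zero], by rwa [h.add_left, h6, zero_add]⟩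
  · exact ⟨x, h1, hx⟩

/-- an element of `Ω(Q)` without fixed vectors -/
theorem exists_fpf (h2 : (2 : K) = 0) (h3 : 3 ≤ finrank K V) (he : finrank K V % 2 = 0) :
    ∃ a ∈ F'.Iso, cj h.EB a ∈ F'.S ∧ ∀ x, h.ap a x = x → x = 0 := by
  have : Module.Finite K V := Module.Finite.of_finite
  obtain ⟨a, h4, h5, -, -, h6, h7⟩ := descent hO (v := 0) (U := ⊤) (fun y _ hy => by
      obtain ⟨w, a1, a2⟩ := exists_ns hO h3 (TH.Cl.Cases.b_self_two hO h2) (y := y) (by simpa using hy 0)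
      exact ⟨w, a1, h.zero_right w, a2⟩) h2 (finrank K V) 1 (one_mem _) (by rw [map_one]; exact one_mem _) le_top
    (zero_mem _) (by rw [fixS_one, finrank_top])
  rw [Submodule.span_zero_singleton, finrank_bot] at h6
  have h8 : fixS a = ⊥ := Submodule.finrank_eq_zero.1 (by omega)
  exact ⟨a, h4, h5, fun x hx => (Submodule.eq_bot_iff _).1 h8 x (mem_fixS.2 hx)⟩

/-- the symplectic group does not preserve the quadratic form -/
theorem not_le (hS : IsSp h F) (h3 : 3 ≤ finrank K V) : ¬ F.S ≤ F'.Aut := fun hle => by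
  have : Nontrivial V := Module.nontrivial_of_finrank_pos (R := K) (by omega)
  obtain ⟨y, hy⟩ := exists_ne (0 : V)
  obtain ⟨c, hc, -⟩ := exists_ns hO h3 hS.2.1 hy
  obtain ⟨r, hr, hr'⟩ := exists_reflU hO hc
  have key : ∀ a, h.b c a ≠ 0 → Q a = 1 := fun a ha => by
    obtain ⟨g, hg, hg'⟩ := tv_Sp hS 1 a
    have h1 : cj h.EB (g * r * g⁻¹ * r⁻¹) ∈ F'.Aut :=
      hle ⟨_, Subgroup.commutator_mem_commutator hg (mem_Iso_max hS.2.2 hr.1), rfl⟩
    have h4 : g * r * g⁻¹ * r⁻¹ ∈ F.Iso :=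
      mul_mem (mul_mem (mul_mem hg (mem_Iso_max hS.2.2 hr.1)) (inv_mem hg)) (inv_mem (mem_Iso_max hS.2.2 hr.1))
    have h5 : g * r * g⁻¹ ∈ F'.Iso := (Subgroup.mul_mem_cancel_right _ (inv_mem hr)).1 (FR.mem_Iso_of_cj h4.1 h1)
    obtain ⟨d, hd⟩ : ∃ d, d = h.ap g c := ⟨_, rfl⟩
    obtain ⟨x, hx⟩ := h.exists_ne (v := d) fun h0 => hc (by rw [← ap_inv_ap h g c, ← hd, h0, map_zero, map_zero])
    have h6 := (mem_Iso_O hO _).1 h5 x
    rw [Units.val_mul, Units.val_mul, hr', qr_conj h hg.1, ← hd, ap_qr, sub_eq_add_neg, ← neg_smul, O_add hO,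
      QuadraticMap.map_smul, h.smul_right, hO.1, smul_eq_mul] at h6
    have h7 : Q d = Q c := by
      field_simp at h6
      have h8 : h.b x d ^ 2 * (Q d - Q c) = 0 := by linear_combination h6
      exact sub_eq_zero.1 ((mul_eq_zero.1 h8).resolve_left (pow_ne_zero 2 hx))
    rw [hd, hg', ap_qr, sub_eq_add_neg, ← neg_smul, O_add hO, QuadraticMap.map_smul, h.smul_right, hO.1,
      smul_eq_mul] at h7
    have h8 : h.b c a ^ 2 * (Q a - 1) = 0 := by linear_combination h7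
    exact sub_eq_zero.1 ((mul_eq_zero.1 h8).resolve_left (pow_ne_zero 2 ha))
  obtain ⟨a, ha⟩ := h.exists_ne (v := c) fun h0 => hc (by rw [h0, map_zero])
  obtain ⟨z, h4, h5, h6⟩ := exists_perp_ns hO h3 hS.2.1 ha
  have h7 := key (z + a) (by rw [h.add_right, O_symm hO c z, h6, zero_add]; exact h.ne_swap ha)
  rw [O_add hO, key a (h.ne_swap ha), h5, add_zero, add_eq_right] at h7
  exact h4 h7

/-- an element without fixed vectors preserves only one quadratic form -/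
theorem mem_of_fpf (h2 : (2 : K) = 0) {a g : h.EBˣ} (ha : a ∈ F'.Iso) (h0 : ∀ x, h.ap a x = x → x = 0)
    (hg : (g : h.EB) * star (g : h.EB) = 1) (h1 : g⁻¹ * a * g ∈ F'.Iso) : g ∈ F'.Iso := by
  have : Module.Finite K V := Module.Finite.of_finite
  have hs : Function.Surjective (h.ap a + 1 : End K V) := LinearMap.surjective_of_injective (by
    refine (injective_iff_map_eq_zero _).2 fun x hx => h0 x ?_
    rw [LinearMap.add_apply, End.one_apply] at hx
    linear_combination (norm := module) hx - h2 • x)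
  have h3 : ∀ x, Q (h.ap (g⁻¹ : h.EBˣ) (h.ap a x)) = Q (h.ap (g⁻¹ : h.EBˣ) x) := fun x => by
    have h4 := (mem_Iso_O hO _).1 h1 (h.ap (g⁻¹ : h.EBˣ) x)
    rwa [Units.val_mul, Units.val_mul, h.ap_mul, h.ap_mul, ap_ap_inv] at h4
  refine inv_mem_iff.1 ((mem_Iso_O hO _).2 fun y => ?_)
  obtain ⟨x, rfl⟩ := hs y
  rw [LinearMap.add_apply, End.one_apply, map_add, O_add hO, O_add hO, h3, (mem_Iso_O hO _).1 ha,
    ← (h.unit_iff g).1 hg, ap_ap_inv, ap_ap_inv, ← two_mul, ← two_mul, h2, zero_mul, zero_mul]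

omit hO in
/-- symplectic groups of dimension at least four -/
theorem quad_Sp (hS : IsSp h F) (h3 : 3 ≤ finrank K V) (he : finrank K V % 2 = 0) {H : Subgroup (RingAut h.EB)} {p : ℕ}
    (c : Ctx F H p) (hL : F.L ≠ Lmin h.EB) {l : h.EB} (hl : l + star l = 1) (hH : ∀ γ ∈ H, γ l - l ∈ Lmin h.EB) :
    Gd F H := by
  have h2 := two_eq_zero hS.1 fun h1 => hL (hS.2.2.trans h1.symm)
  obtain ⟨Q, hO⟩ := exists_Q hS h2 hl
  obtain ⟨F', hF'⟩ : ∃ F' : FR h.EB, F' = ⟨l, Lmin _, hl, Or.inl rfl⟩ := ⟨_, rfl⟩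
  have h1 : H ≤ F'.Aut := fun γ hγ => ⟨c.le_SAut hγ, by rw [hF']; exact hH γ hγ⟩
  rw [← hF'] at hO
  have h4 := fun s => c.max' h1 (not_le hO hS h3) (s := s)
  obtain ⟨a, ha, ha', h0⟩ := exists_fpf hO h2 h3 he
  have h5 : F'.Iso ≤ F.Iso := fun u hu => mem_Iso_max hS.2.2 hu.1
  have h6 : cj h.EB a ∈ F.S := Subgroup.map_mono (Subgroup.commutator_mono h5 h5) ha'
  have := SB.Cl.finiteRingAut (A := h.EB)
  refine N2.good_of_one (a := ⟨_, h6⟩) (h4 _ h6 (FR.cj_mem_Aut ha)) (N2.fx_le_one fun t ht => ?_)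
  obtain ⟨g, hg, hgt⟩ := F.S_le_PI t.2
  have h7 : cj h.EB (g⁻¹ * a * g) ∈ F'.Aut := by
    rw [map_mul, map_mul, map_inv, hgt]
    exact h1 ht
  exact h4 t.1 t.2 (hgt ▸ FR.cj_mem_Aut (mem_of_fpf hO h2 ha h0 hg.1
    (FR.mem_Iso_of_cj (mul_mem (mul_mem (inv_mem hg) (h5 ha)) hg).1 h7)))

end Quad

open Quad in
/-- **[Quad]** -/
theorem quad : On pQuad :=
  ⟨fun _ _ _ _ F _ _ _ _ _ h => (h.2.1 ((L_eq_LR F).trans (L_eq_LR ⟨F.l, Lmin _, F.l_add, Or.inl rfl⟩).symm)).elim,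
    fun _ _ _ _ _ _ _ _ _ _ _ _ k _ _ h => (h.2.1 (k.L.trans (Lmin_eq_U k.u).symm)).elim,
    fun _ _ _ _ _ _ _ _ _ _ _ _ k _ c h => by
      obtain ⟨-, h1, l, h2, h3⟩ := h
      exact quad_Sp k.sp (by have := k.dim; have := k.two; omega) (by have := k.dim; omega) c h1 h2 h3,
    fun _ _ _ _ _ _ _ _ _ _ _ _ k _ h => (h.2.1 k.o.2.2.1).elim⟩

end Cfsg.Agent.N2C
end

-- part: N2/D4m/Defs
section
/-!
# N2 (S3519): the rows `L₄(q)`, `U₄(q)`, `PSp₄(q)` (helper21)

The boxes are `AtL P`, `AtU P`, `AtS P`.  See `notes/N2/n4.md`.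
-/

set_option autoImplicit false

namespace Cfsg.Agent.N2C.N4

open Cfsg Cfsg.Agent.DS.Cl Cfsg.Agent.DS.Cl.Fwd Module
open Cfsg.Agent.FP3 (Good MI ASRow)
open Cfsg.Agent.N2 (Cf Fam Row fA)
open Cfsg.Agent.SB.Cl (rk rkL)
open Cfsg.Agent.TH.Cl.Cases (L_eq_LR)
open Cfsg.Agent.TH.Cl (ParD NSD Irr1 Irr2 FldD TenD ExD SimD KL KU KSp KO Pred)

/-- `L₄(q)`, `q ≥ 3` -/
def AtL (P : Pred) : Prop := ∀ (K : Type) [Field K] [Fintype K] (F : FR (LR (Fin 4) K))
  (H : Subgroup (RingAut (LR (Fin 4) K))) (p : ℕ), KL F → 3 ≤ Fintype.card K → Ctx F H p → P _ F H rkL → Gd F H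

/-- `U₄(q)`, `q ≥ 3`; for `q = 3` only the `{2,3}`-groups -/
def AtU (P : Pred) : Prop := ∀ (K V : Type) [Field K] [Fintype K] [AddCommGroup V] [Module K V] [Finite V]
  (h : HF K V) (F : FR h.EB) (q : ℕ) (H : Subgroup (RingAut h.EB)) (p : ℕ), KU h F q → finrank K V = 4 → 3 ≤ q →
  (q = 3 → ¬ 5 ∣ Nat.card ↥(H ⊓ F.S) ∧ ¬ 7 ∣ Nat.card ↥(H ⊓ F.S)) → Ctx F H p → P _ F H (rk h) → Gd F H

/-- `PSp₄(q)`, `q ≥ 4` -/
def AtS (P : Pred) : Prop := ∀ (K V : Type) [Field K] [Fintype K] [AddCommGroup V] [Module K V] [Finite V]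
  (h : HF K V) (F : FR h.EB) (H : Subgroup (RingAut h.EB)) (p : ℕ), KSp h F 2 → 4 ≤ Fintype.card K → Ctx F H p →
  P _ F H (rk h) → Gd F H

structure At (P : Pred) : Prop where
  l : AtL P
  u : AtU P
  s : AtS P

theorem AtL.of_on {P : Pred} (h : OnL 4 P) : AtL P := fun K _ _ F H p k _ c => h K 4 F H p k le_rfl c

theorem AtU.of_on {P : Pred} (h : OnU 4 P) : AtU P := fun K V _ _ _ _ _ f F q H p k hn _ _ c =>
  h K V f F q H p k hn.ge c

theorem AtS.of_on {P : Pred} (h : OnSp 2 P) : AtS P := fun K V _ _ _ _ _ f F H p k _ c => h K V f F 2 H p k le_rfl c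

/-- `H` centralises a field, graph or graph-field automorphism of prime order (`SubD` without the simple subgroup;
this includes `O₄⁺`, the tensor decompositions) -/
def CenD {A : Type} [Ring A] [StarRing A] (F : FR A) (H : Subgroup (RingAut A)) : Prop :=
  Irr2 H ∧ ∃ φ ∈ F.Aut, φ ∉ Lin A ∧ (orderOf φ).Prime ∧ ∀ γ ∈ H, γ * φ = φ * γ

def pCen : Pred := fun _ _ _ F H _ => CenD F H
/-- symplectic type, no automorphism centralised -/
def pExt4 : Pred := fun _ _ _ F H _ => ExD F H ∧ ¬ CenD F H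
/-- tensor decompositions, no automorphism centralised: impossible for `L`, `U`, and `Sp` in odd characteristic -/
def pTen4 : Pred := fun _ _ _ F H _ => TenD H ∧ ¬ CenD F H
/-- class S -/
def pRes4 : Pred := fun _ _ _ F H _ => Irr2 H ∧ ¬ TenD H ∧ ¬ CenD F H ∧ ∃ N, Res F H N

/-- [U43] `U₄(3)`, subgroups of order divisible by five or seven -/
def BoxU43 : Prop := ∀ (K : Type) [Field K] [Fintype K], Fintype.card K = 3 ^ 2 → ∀ B : Subgroup (PSU 4 K 3), B ≠ ⊤ →
  5 ∣ Nat.card B ∨ 7 ∣ Nat.card B → Good B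

/-- [S43] `PSp₄(3) = U₄(2)` -/
def BoxS43 : Prop := ∀ (K : Type) [Field K] [Fintype K], Fintype.card K = 3 → ASRow (PSp 2 K)

/-- [CenS] the subfield subgroups of `PSp₄(q)` -/
def BoxCenS : Prop := ∀ (K V : Type) [Field K] [Fintype K] [AddCommGroup V] [Module K V] [Finite V]
  (h : HF K V) (F : FR h.EB), KSp h F 2 → 4 ≤ Fintype.card K → F.Span → IsSimpleGroup F.S → ¬ IsMulCommutative F.S →
  ∀ φ ∈ F.Aut, φ ∉ Lin h.EB → (orderOf φ).Prime → Good ((Subgroup.centralizer {φ}).subgroupOf F.S)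

/-- [B2] `Sp₄(2^a)` with a graph automorphism -/
def BoxB2 : Prop := Cf → BoxCenS → ∀ (K : Type) [Field K] [Fintype K], (2 : K) = 0 → 4 ≤ Fintype.card K →
  ∀ (B : Subgroup (PSp 2 K)) (Γ : Subgroup (MulAut (PSp 2 K))), MI B Γ →
    ¬ Γ ≤ (Cfsg.Agent.ClassicalGeometry.SympAutSemi.Psi 2 K).range → Good B

structure Geo : Prop where
  ns : At pNS
  fix : At pFix
  fr : At pFr
  fld : At pFld
  ten : At pTen4
  ext : At pExt4
  cen : At pCen
  res : At pRes4
  cenS : BoxCenS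

theorem at_par : At pPar :=
  ⟨fun _ _ _ _ _ _ k _ c h => (c.not_parL k.dim h).elim,
    fun _ _ _ _ _ _ _ _ _ _ _ _ k _ _ _ c h => (c.not_parU k.u k.L k.dim h).elim,
    fun _ _ _ _ _ _ _ _ _ _ _ k _ c h => (c.not_parSp k.sp (by have := k.dim; omega) h).elim⟩

theorem at_quad : At pQuad :=
  ⟨fun _ _ _ F _ _ _ _ _ h => (h.2.1 ((L_eq_LR F).trans (L_eq_LR ⟨F.l, Lmin _, F.l_add, Or.inl rfl⟩).symm)).elim,
    fun _ _ _ _ _ _ _ _ _ _ _ _ k _ _ _ _ h => (h.2.1 (k.L.trans (Quad.Lmin_eq_U k.u).symm)).elim,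
    fun _ _ _ _ _ _ _ _ _ _ _ k _ c h => by
      obtain ⟨-, h1, l, h2, h3⟩ := h
      exact Quad.quad_Sp k.sp (by have := k.dim; omega) (by have := k.dim; omega) c h1 h2 h3⟩

theorem cases {A : Type} [Ring A] [StarRing A] [Finite A] {F : FR A} {H : Subgroup (RingAut A)} {p : ℕ}
    (c : Ctx F H p) (r : A → ℕ) : pPar A F H r ∨ pNS A F H r ∨ pFix A F H r ∨ pFr A F H r ∨ pFld A F H r ∨ pQuad A F H r ∨
      pCen A F H r ∨ pTen4 A F H r ∨ pExt4 A F H r ∨ pRes4 A F H r := by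
  by_cases hc : CenD F H
  · simp only [show pCen A F H r from hc, true_or, or_true]
  have key : ∀ Q, ResD Q F H → pRes4 A F H r := fun Q ⟨h1, h2, N, h3, _⟩ => ⟨h1, h2, hc, N, h3⟩
  rcases boxCases A F H p c with h | h | h | h | h | h | h | h | h | h | h | h | h
  · exact .inl h
  · exact .inr (.inl h)
  · exact .inr (.inr (.inl h))
  · exact .inr (.inr (.inr (.inl h)))
  · exact .inr (.inr (.inr (.inr (.inl h))))
  · simp only [show pTen4 A F H r from ⟨h, hc⟩, true_or, or_true]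
  · simp only [show pExt4 A F H r from ⟨h, hc⟩, true_or, or_true]
  · exact (hc ⟨h.1.1, h.2⟩).elim
  · simp only [show pQuad A F H r from h, true_or, or_true]
  all_goals simp only [key _ h, or_true]

theorem all_of (g : Geo) : At pAll := by
  refine ⟨fun K _ _ F H p k hq c _ => ?_, fun K V _ _ _ _ _ f F q H p k hn hq h3 c _ => ?_,
    fun K V _ _ _ _ _ f F H p k hq c _ => ?_⟩
  · rcases cases c rkL with h | h | h | h | h | h | h | h | h | h
    exacts [at_par.l K F H p k hq c h, g.ns.l K F H p k hq c h, g.fix.l K F H p k hq c h, g.fr.l K F H p k hq c h,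
      g.fld.l K F H p k hq c h, at_quad.l K F H p k hq c h, g.cen.l K F H p k hq c h, g.ten.l K F H p k hq c h,
      g.ext.l K F H p k hq c h, g.res.l K F H p k hq c h]
  · rcases cases c (rk f) with h | h | h | h | h | h | h | h | h | h
    exacts [at_par.u K V f F q H p k hn hq h3 c h, g.ns.u K V f F q H p k hn hq h3 c h,
      g.fix.u K V f F q H p k hn hq h3 c h, g.fr.u K V f F q H p k hn hq h3 c h, g.fld.u K V f F q H p k hn hq h3 c h,
      at_quad.u K V f F q H p k hn hq h3 c h, g.cen.u K V f F q H p k hn hq h3 c h,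
      g.ten.u K V f F q H p k hn hq h3 c h, g.ext.u K V f F q H p k hn hq h3 c h, g.res.u K V f F q H p k hn hq h3 c h]
  · rcases cases c (rk f) with h | h | h | h | h | h | h | h | h | h
    exacts [at_par.s K V f F H p k hq c h, g.ns.s K V f F H p k hq c h, g.fix.s K V f F H p k hq c h,
      g.fr.s K V f F H p k hq c h, g.fld.s K V f F H p k hq c h, at_quad.s K V f F H p k hq c h,
      g.cen.s K V f F H p k hq c h, g.ten.s K V f F H p k hq c h, g.ext.s K V f F H p k hq c h,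
      g.res.s K V f F H p k hq c h]

/-- **`L₄(q)`** -/
theorem l4_of (cf : Cf) (bL : BrL) (hA : Row fA) (g : Geo) : Row (fLn 4) :=
  bL cf 4 (by omega) fun K _ _ F H p k c => by
    by_cases h2 : Fintype.card K = 2
    · obtain ⟨e⟩ := k.iso
      obtain ⟨e'⟩ := S0256.result h2
      have := c.simple
      have : Finite F.S := Finite.of_equiv _ e.symm.toEquiv
      exact hA F.S c.noncomm ⟨8, by omega, ⟨e.trans e'⟩⟩ _ _ c.mi
    · exact (all_of g).l K F H p k (by have := Fintype.one_lt_card (α := K); omega) c trivial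

/-- **`U₄(q)`** -/
theorem u4_of (cf : Cf) (bU : BrU) (h43 : BoxU43) (s43 : BoxS43) (g : Geo) : Row (fUn 4) :=
  bU cf 4 (by omega) fun K V _ _ _ _ _ f F q H p k hn c => by
    obtain ⟨e⟩ := k.iso
    rw [hn] at e
    have h1 : 1 < q ^ 2 := k.card ▸ Fintype.one_lt_card
    by_cases h2 : q = 2
    · subst h2
      have : Fact (Nat.Prime 3) := ⟨Nat.prime_three⟩
      obtain ⟨e'⟩ := S0822.result (K := ZMod 3) k.card (ZMod.card 3)
      exact N2.asRow_congr (e.trans e').symm (s43 _ (ZMod.card 3)) _ _ c.mi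
    by_cases h3 : q = 3 ∧ (5 ∣ Nat.card ↥(H ⊓ F.S) ∨ 7 ∣ Nat.card ↥(H ⊓ F.S))
    · obtain ⟨rfl, h3⟩ := h3
      have h4 : Nat.card ((H.subgroupOf F.S).comap e.symm.toMonoidHom) = Nat.card ↥(H ⊓ F.S) := by
        rw [← Nat.card_congr (Subgroup.subgroupOfEquivOfLe (inf_le_right : H ⊓ F.S ≤ F.S)).toEquiv,
          Subgroup.inf_subgroupOf_right]
        exact Nat.card_congr (e.symm.toEquiv.subtypeEquiv fun _ => Iff.rfl)
      refine (N2.good_comap e.symm.toMonoidHom e.symm.surjective _).1 (h43 K k.card _ (fun h5 => c.mi.ne_top ?_) (h4 ▸ h3))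
      exact Subgroup.comap_injective e.symm.surjective (h5.trans (Subgroup.comap_top _).symm)
    · refine (all_of g).u K V f F q H p k hn ?_ (fun h4 => not_or.1 fun h5 => h3 ⟨h4, h5⟩) c trivial
      rcases q with _ | _ | q <;> omega

/-- **`PSp₄(q)`** -/
theorem s2_of (cf : Cf) (bS : BrSp) (s43 : BoxS43) (b2 : BoxB2) (g : Geo) : Row (fSk 2) := by
  rintro T _ _ _ - ⟨K, _, _, h3, ⟨e⟩⟩
  refine N2.asRow_congr e.symm fun B Γ hB => ?_
  by_cases h4 : Fintype.card K = 3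
  · exact s43 K h4 B Γ hB
  have h5 : 4 ≤ Fintype.card K := by have := h3 rfl; omega
  by_cases h6 : (2 : K) ≠ 0 ∨ Γ ≤ (Cfsg.Agent.ClassicalGeometry.SympAutSemi.Psi 2 K).range
  · refine bS cf 2 le_rfl (fun K' V _ _ _ _ _ f F H p k c => ?_) K h3 B Γ hB (Or.inr h6)
    by_cases h7 : Fintype.card K' = 3
    · obtain ⟨e'⟩ := k.iso
      exact N2.asRow_congr e'.symm (s43 _ h7) _ _ c.mi
    · exact (all_of g).s K' V f F H p k (by have := k.ne rfl; omega) c trivial
  · rw [not_or, not_not] at h6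
    exact b2 cf g.cenS K h6.1 h5 B Γ hB h6.2

end Cfsg.Agent.N2C.N4
end

private theorem dce_a960afb0cd60 : _root_.True := by
  try have : _root_.True := by simp only [_root_.Cfsg.Agent.N2C.Quad.fixS.eq_1]
  exact _root_.True.intro
end

section
prune_inst 0xfdacf9b9b8eddfffff7e75a6d8cdfc39969fffa4df294bbfe029ff8b9f130209c523ad09e040fc0e87421410a87843f97ecfffe26bdc7ffffd5ff41ffbee0ff5f7b508119488340f342ff683f0678e7f000000000000000000000000000014000200000000

-- part: N2/D4m/FldC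
section
set_option linter.all false
open scoped Cfsg.Agent.FastGrp

/-!
# N2 (S3519), `L₄(q)`, `U₄(q)`, `q ≥ 3`: the criterion for the class `pFld` (helper47, after `FldLU/Crit`)
-/

set_option autoImplicit false

namespace Cfsg.Agent.N2C.N4.FldC

open Cfsg.Agent.DS.Cl Cfsg.Agent.DS.Cl.Fwd Cfsg.Agent.SB.C2 Cfsg.Agent.SB.Fld Cfsg.Agent.TH.Cl.Fld
open Cfsg.Agent.N2C.FldLU
open scoped commutatorElement

theorem num4 {q r d e m o : ℕ} (hq : 3 ≤ q) (hr : r.Prime) (h1 : r ∣ 4) (h2 : d ∣ 4) (h3 : d < 4) (e0 : 0 < e)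
    (he : e ≤ q + 1) (m0 : 0 < m) (hm : m ≤ q ^ d + 1) (ho : q ^ 4 ≤ o + 1) (hd : o ∣ e * r * m) :
    q = 3 ∧ e = 4 ∧ r = 2 ∧ d = 2 ∧ o = 80 ∧ m = 10 := by
  obtain rfl : r = 2 := (Nat.prime_dvd_prime_iff_eq hr Nat.prime_two).1 (hr.dvd_of_dvd_pow (show r ∣ 2 ^ 2 from h1))
  have a1 := Nat.le_of_dvd (Nat.mul_pos (Nat.mul_pos e0 two_pos) m0) hd
  have a2 : d ≤ 2 := by
    by_contra a2
    obtain rfl : d = 3 := by omega
    omega
  have a3 : q ^ d ≤ q ^ 2 := Nat.pow_le_pow_right (by omega) a2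
  have a4 : e * 2 * m ≤ (q + 1) * 2 * (q ^ 2 + 1) := Nat.mul_le_mul (Nat.mul_le_mul_right 2 he) (by omega)
  obtain rfl : q = 3 := by
    by_contra a5
    obtain ⟨k, rfl⟩ : ∃ k, q = k + 4 := ⟨q - 4, by omega⟩
    have a6 : (k + 4) ^ 4 = (k + 4 + 1) * 2 * ((k + 4) ^ 2 + 1) + 1 + (k + 1) * (k + 4 + 1) * ((k + 4) ^ 2 + 1) := by ring
    have a7 : 0 < (k + 1) * (k + 4 + 1) * ((k + 4) ^ 2 + 1) := by positivity
    omega
  have a5 : e * m ≤ 4 * m := Nat.mul_le_mul_right m he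
  have a6 : e * m ≤ e * 10 := Nat.mul_le_mul_left e (by omega)
  rw [mul_right_comm] at a1
  obtain rfl : m = 10 := by omega
  obtain rfl : e = 4 := by omega
  refine ⟨rfl, rfl, rfl, ?_, by omega, rfl⟩
  interval_cases d <;> omega

variable {A : Type} [Ring A] [StarRing A] [Finite A] [Nontrivial A] {W Y : Subring A} {θ : A} {r e : ℕ}

/-- the generator -/
theorem gen4 (hθ : θ ∈ Subring.center A) (hu : IsUnit (θ - star θ)) (hW : SymF W r) (h : Ext θ W Y 4)
    (h2 : 3 ≤ Nat.card (C0 A)) (e0 : 0 < e) (he : e ≤ Nat.card (C0 A) + 1)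
    (hω : Nat.card (C0 A) = 3 → e = 4 → ∃ ω ∈ Subring.center A, ω * star ω = 1 ∧ ω ^ 2 ≠ 1 ∧ ω ^ 4 = 1) :
    ∃ t ∈ Zt Y θ, t * star t = 1 ∧ ∀ x, star x = x → t ^ (e * r) * x = x * t ^ (e * r) → x ∈ Y := by
  have hq := qd_of hθ hu h.isF h.sym (hW.le.trans h.le)
  obtain ⟨⟨t, t1, t2, t3⟩, hp⟩ := tor hq
  refine ⟨t, t1, t2, fun x x1 x2 => ?_⟩
  have inj : ∀ {a b : ℕ}, Nat.card (C0 A) ^ a = Nat.card (C0 A) ^ b → a = b := fun e =>
    Nat.pow_right_injective (two_le_card (C0 A)) e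
  let X : Subring A := Y ⊓ Subring.centralizer {x}
  have mX : ∀ {y}, y ∈ Y → y * x = x * y → y ∈ X := fun hy e => ⟨hy, by rintro _ rfl; exact e.symm⟩
  have X0 : C0 A ≤ X := fun y hy => mX (h.le (hW.le hy)) (cen_comm hy.1 x).symm
  by_cases hX : X = Y
  · exact hq.mem_of_sym (h.cent x fun y hy => ((hX.ge hy).2 x rfl).symm) x1
  exfalso
  obtain ⟨i, hi⟩ := exists_card_pow h.isF (inf_le_left : X ≤ Y)
  obtain ⟨d, hd⟩ := exists_card_pow (isF_of_le h.isF inf_le_left) X0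
  obtain ⟨j, hj⟩ := exists_card_pow h.isF h.le
  have a1 : 4 = d * i := inj (by rw [← h.card, hi, hd, pow_mul])
  have a2 : 4 = r * j := inj (by rw [← h.card, hj, hW.card, pow_mul])
  have a3 : d < 4 := lt_of_le_of_ne (Nat.le_of_dvd (by omega) ⟨i, a1⟩) fun e =>
    hX (eq_of_le_of_card inf_le_left (by rw [h.card, hd, e]))
  have uni : ∀ {u : A}, u * star u = 1 → ∀ k, u ^ k * star (u ^ k) = 1 := fun {u} e k => by
    rw [star_pow, ← Commute.mul_pow (e.trans (mul_eq_one_comm.1 e).symm), e, one_pow]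
  have key : ∀ v ∈ Zt Y θ, v * star v = 1 → v * x = x * v → ∃ m, 0 < m ∧ m ≤ Nat.card (C0 A) ^ d + 1 ∧ v ^ m = 1 :=
    fun v v1 v2 v3 => hd ▸ hp X inf_le_left v v1 v2 (mX (hq.trace_mem v1) (by
      have v4 := congrArg star v3
      rw [star_mul, star_mul, x1] at v4
      rw [add_mul, mul_add, v3, v4]))
  obtain ⟨m, m0, m1, m2⟩ := key _ (pow_mem t1 _) (uni t2 _) x2
  obtain ⟨k, k0, -, k2⟩ := hp Y le_rfl t t1 t2 (hq.trace_mem t1)
  have o0 : 0 < orderOf t := (isOfFinOrder_iff_pow_eq_one.2 ⟨k, k0, k2⟩).orderOf_pos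
  obtain ⟨b1, rfl, rfl, rfl, b5, rfl⟩ := num4 h2 hW.prime ⟨j, a2⟩ ⟨i, a1⟩ a3 e0 he m0 m1
    (h.card ▸ t3 _ o0 (pow_orderOf_eq_one t)) (orderOf_dvd_of_pow_eq_one (by rw [pow_mul, m2]))
  obtain ⟨ω, w1, w2, w3, w4⟩ := hω b1 rfl
  have w5 := h.cent ω fun y _ => cen_comm w1 y
  have w6 : Commute ω (t ^ (4 * 2)) := (cen_comm w1 _).symm
  obtain ⟨l, l0, l1, l2⟩ := key _ (mul_mem w5 (pow_mem t1 (4 * 2)))
    (by rw [star_mul, mul_assoc, ← mul_assoc (t ^ _), uni t2, one_mul, w2])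
    (by rw [mul_assoc, x2, ← mul_assoc, ← cen_comm w1, mul_assoc])
  have l3 : (ω * t ^ (4 * 2)) ^ (4 * l) = 1 := by rw [mul_comm 4 l, pow_mul, l2, one_pow]
  rw [w6.mul_pow, pow_mul, w4, one_pow, one_mul, ← pow_mul] at l3
  have l4 := orderOf_dvd_of_pow_eq_one l3
  rw [b1] at l1
  have l5 : (ω * t ^ (4 * 2)) ^ 10 = 1 := by
    obtain rfl | rfl : l = 5 ∨ l = 10 := by rw [b5] at l4; omega
    · rw [show 10 = 5 * 2 from rfl, pow_mul, l2, one_pow]
    · exact l2
  rw [w6.mul_pow, m2, mul_one, show 10 = 4 * 2 + 2 from rfl, pow_add, pow_mul, w4, one_pow, one_mul] at l5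
  exact w3 l5

omit [Nontrivial A] in
/-- **the criterion** -/
theorem crit4 {F : FR A} {H : Subgroup (RingAut A)} {p : ℕ} (c : Ctx F H p) (hF : TH.Cl.FldD H) (hθ : θ ∈ Subring.center A)
    (hu : IsUnit (θ - star θ)) (h : ∀ W r, SymF W r → ∃ Y, Ext θ W Y 4) (h2 : 3 ≤ Nat.card (C0 A)) (e0 : 0 < e)
    (he : e ≤ Nat.card (C0 A) + 1)
    (hω : Nat.card (C0 A) = 3 → e = 4 → ∃ ω ∈ Subring.center A, ω * star ω = 1 ∧ ω ^ 2 ≠ 1 ∧ ω ^ 4 = 1)
    (hI : ∀ u : Aˣ, (u : A) * star (u : A) = 1 → u ^ e ∈ (⁅F.Iso, F.Iso⁆ : Subgroup Aˣ)) : Gd F H := by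
  have := c.ss.nontrivial
  obtain ⟨W, r, hW, hH, hS, hr⟩ := Fld.red_LU c hθ hu hF
  obtain ⟨Y, h⟩ := h W r hW
  obtain ⟨t, t1, t2, t3⟩ := gen4 hθ hu hW h h2 e0 he hω
  have hq := qd_of hθ hu h.isF h.sym (hW.le.trans h.le)
  refine Fld.gd_one c hH hS (hI (mkU t t2) t2) (fun x hx => ?_) hr fun s hs h1 w hw =>
    mem_of_pow h.isF h.le (t3 _ (by rw [← F.Aut_le_SAut (F.S_le_Aut hs), hW.sym w hw]) ?_)
      (by rw [← map_pow, pow_card hW.isF hw])
  · rw [Units.val_pow_eq_pow_val]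
    exact hq.mul_comm _ (pow_mem t1 e) _ (le_Zt (h.le hx))
  · have a1 := h1 w hw
    rwa [Units.val_pow_eq_pow_val, ← pow_mul] at a1

end Cfsg.Agent.N2C.N4.FldC
end

-- part: N2/D4m/FldL
section
set_option linter.all false
open scoped Cfsg.Agent.FastGrp

/-!
# N2 (S3519), `L₄(q)`, `q ≥ 3`: the class `pFld` (helper47)
-/

set_option autoImplicit false

namespace Cfsg.Agent.N2C.N4

open Cfsg.Agent.DS.Cl Cfsg.Agent.DS.Cl.Fwd Cfsg.Agent.SB.C2 Cfsg.Agent.SB.Fld Cfsg.Agent.TH.Cl.Fld Module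
open Cfsg.Agent.N2C.FldLU

/-- **[N4-Fld]**, linear groups -/
theorem fldL : AtL pFld := by
  intro K _ _ F H p k hq c hF
  have h := luL (n := 4) (K := K)
  have : Finite (LR (Fin 4) K) := inferInstanceAs (Finite (_ × _))
  have := c.ss.nontrivial
  have h1 := (ext_L h (isF_C0 c.ss) le_rfl fun _ hx => hx.2).1
  rw [Nat.card_eq_fintype_card (α := K)] at h1
  refine FldC.crit4 (e := Fintype.card K - 1) c hF h.θ_cen h.θ_unit
    (fun W r hW => by simpa using (ext_L h hW.isF hW.le hW.sym).2) (by omega) (by omega) (by omega) (by omega) fun u hu =>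
      k.mem_comm (pow_mem (mem_Iso_max (F.L_eq h.c_cen h.c_add) hu) _) ?_
  rw [Units.val_pow_eq_pow_val, map_pow, map_pow]
  exact FiniteField.pow_card_sub_one_eq_one _ (LinearMap.isUnit_det _ (u.isUnit.map (prL 4 K))).ne_zero

end Cfsg.Agent.N2C.N4
end

-- part: N2/D4m/Ten
section
prune_inst 0x1306464512200000018a09063200004100005b00d0000002800070402088240a0c1084108802506021a08010801002002000080400000000a00040000050020808844048208010c840007000184000000000000000000000000000000000004000000000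
set_option linter.all false
open scoped Cfsg.Agent.FastGrp

/-!
# N2, dimension four: tensor decompositions (helper47)

Two factors `M₂(C)`.  The automorphism `φ` with `φ c = c*` on the centre and `φ x + x*` central for `x` in a factor is
canonical, so it is centralised by `H`.
-/

set_option autoImplicit false
set_option linter.unusedSectionVars false

namespace Cfsg.Agent.N2C.N4

open Cfsg.Agent.DS.Cl Cfsg.Agent.DS.Cl.Fwd Cfsg.Agent.SB.Cl Module
open Cfsg.Agent.TH.Cl (Irr2 TenD KL KU KSp)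
open Cfsg.Agent.TH.Cl.Ten (TD Cz)
open Cfsg.Agent.N2C.Cases (coef_mul' coef_add' coef_cen')
open Cfsg.Agent.N2C.TenSO (TC exists_tc)
open scoped Pointwise

namespace TenT

section mu

variable {A : Type} [Ring A] {n m : ℕ}

theorem mu_prod {E : Fin n → Fin n → A} {E' : Fin m → Fin m → A} (h : MU0 E) (h' : MU0 E')
    (hc : ∀ i j k l, E' k l * E i j = E i j * E' k l) :
    MU0 fun a b : Fin (n * m) => E a.divNat b.divNat * E' a.modNat b.modNat where
  mul a b c d := by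
    rw [mul_assoc, ← mul_assoc (E' _ _), hc, mul_assoc, ← mul_assoc, h.mul, h'.mul]
    by_cases e : b = c
    · rw [if_pos e, if_pos (by rw [e]), if_pos (by rw [e])]
    · rw [if_neg e]
      by_cases e1 : b.divNat = c.divNat
      · rw [if_neg (fun e2 : b.modNat = c.modNat => e (finProdFinEquiv.symm.injective (Prod.ext e1 e2))), mul_zero]
      · rw [if_neg e1, zero_mul]
  sum := (Fintype.sum_equiv finProdFinEquiv.symm _ (fun x : Fin n × Fin m => E x.1 x.1 * E' x.2 x.2) fun _ => rfl).trans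
    (by simp only [Fintype.sum_prod_type, ← Finset.mul_sum, h.sum, h'.sum, mul_one])

theorem coef_E {E : Fin n → Fin n → A} (h : MU0 E) (p q i j : Fin n) :
    coef E (E p q) i j = if i = p ∧ j = q then 1 else 0 := by
  unfold coef
  by_cases e : i = p ∧ j = q
  · obtain ⟨rfl, rfl⟩ := e
    simp only [h.mul_eq, h.sum, and_self, if_true]
  · rw [if_neg e]
    refine Finset.sum_eq_zero fun k _ => ?_
    by_cases e1 : i = p
    · rw [e1, h.mul_eq, h.mul, if_neg fun e2 => e ⟨e1, e2.symm⟩]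
    · rw [h.mul, if_neg e1, zero_mul]

theorem card_le [Finite A] {E : Fin n → Fin n → A} (h : MU0 E) :
    Nat.card (Subring.center A) ^ (n * n) ≤ Nat.card A := by
  have h1 : Nat.card (Fin n → Fin n → Subring.center A) = Nat.card (Subring.center A) ^ (n * n) := by
    rw [Nat.card_fun, Nat.card_fun, Nat.card_eq_fintype_card (α := Fin n), Fintype.card_fin, pow_mul]
  rw [← h1]
  have k : ∀ (c : Fin n → Fin n → Subring.center A) i j,
      E i i * (∑ p, ∑ q, (c p q : A) * E p q) * E j j = c i j * E i j := fun c i j => by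
    have k1 : ∀ p q, E i i * ((c p q : A) * E p q) * E j j = if p = i ∧ q = j then c i j * E i j else 0 := fun p q => by
      rw [← mul_assoc, cen_comm (c p q).2, mul_assoc, mul_assoc, ← mul_assoc (E i i)]
      by_cases e : p = i ∧ q = j
      · obtain ⟨rfl, rfl⟩ := e
        rw [h.mul_eq, h.mul_eq, if_pos ⟨rfl, rfl⟩]
      · rw [if_neg e]
        by_cases e1 : i = p
        · rw [← e1, h.mul_eq, h.mul, if_neg fun e2 => e ⟨e1.symm, e2⟩, mul_zero]
        · rw [h.mul, if_neg e1, zero_mul, mul_zero]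
    simp only [Finset.mul_sum, Finset.sum_mul, k1, ite_and, Finset.sum_ite_irrel, Finset.sum_ite_eq', Finset.mem_univ,
      if_true, Finset.sum_const_zero]
  refine Nat.card_le_card_of_injective (fun c => ∑ p, ∑ q, (c p q : A) * E p q) fun c d e => funext fun i => funext fun j =>
    Subtype.ext (sub_eq_zero.1 (h.eq_zero (i := i) (j := j) (fun p q => (cen_comm (sub_mem (c i j).2 (d i j).2) _).symm) ?_))
  rw [sub_mul, ← k, ← k, show ∑ p, ∑ q, (c p q : A) * E p q = ∑ p, ∑ q, (d p q : A) * E p q from e, sub_self]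

variable [StarRing A]

/-- the semilinear endomorphism which maps one system of matrix units to another -/
theorem exists_hom {E G : Fin n → Fin n → A} (hE : MU E) (hG : MU0 G) :
    ∃ φ : A →+* A, (∀ c ∈ Subring.center A, φ c = star c) ∧ ∀ i j, φ (E i j) = G i j := by
  let g : A → A := fun a => ∑ i, ∑ j, star (coef E a i j) * G i j
  have gC : ∀ c ∈ Subring.center A, g c = star c := fun c hc => by
    have h1 : ∀ i j, star (coef E c i j) * G i j = if i = j then star c * G i i else 0 := fun i j => by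
      rw [coef_cen' hE.toMU0 hc]
      split_ifs with e
      · rw [e]
      · rw [star_zero, zero_mul]
    simp only [g, h1, Finset.sum_ite_eq, Finset.mem_univ, if_true]
    rw [← Finset.mul_sum, hG.sum, mul_one]
  refine ⟨{ toFun := g
            map_one' := (gC 1 (one_mem _)).trans (star_one A)
            map_zero' := (gC 0 (zero_mem _)).trans (star_zero A)
            map_add' := fun a b => by simp only [g, coef_add', star_add, add_mul, Finset.sum_add_distrib]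
            map_mul' := fun a b => ?_ }, gC, fun p q => ?_⟩
  · have h1 : ∀ i j k l, star (coef E a i j) * G i j * (star (coef E b k l) * G k l) =
        if j = k then star (coef E a i j) * star (coef E b j l) * G i l else 0 := fun i j k l => by
      rw [mul_assoc, ← mul_assoc (G i j), cen_comm (star_cen (hE.coef_cen b k l)), mul_assoc, hG.mul]
      split_ifs with e
      · rw [e, mul_assoc]
      · rw [mul_zero, mul_zero]
    have h2 : ∀ i l, star (coef E (a * b) i l) = ∑ j, star (coef E a i j) * star (coef E b j l) := fun i l => by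
      rw [coef_mul' hE.toMU0, star_sum]
      exact Finset.sum_congr rfl fun m _ => by rw [star_mul, cen_comm (star_cen (hE.coef_cen a i m))]
    have h3 : ∀ i j, star (coef E a i j) * G i j * g b = ∑ l, star (coef E a i j) * star (coef E b j l) * G i l :=
      fun i j => by
        simp only [g, Finset.mul_sum, h1]
        rw [Finset.sum_comm]
        simp only [Finset.sum_ite_eq, Finset.mem_univ, if_true]
    change g (a * b) = g a * g b
    rw [show g a = ∑ i, ∑ j, star (coef E a i j) * G i j from rfl]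
    simp only [Finset.sum_mul, h3]
    simp only [g, h2, Finset.sum_mul]
    exact Finset.sum_congr rfl fun i _ => Finset.sum_comm
  · change ∑ i, ∑ j, star (coef E (E p q) i j) * G i j = _
    simp only [coef_E hE.toMU0, ite_and, apply_ite star, star_one, star_zero, ite_mul, one_mul, zero_mul,
      Finset.sum_ite_irrel, Finset.sum_ite_eq', Finset.mem_univ, if_true, Finset.sum_const_zero]

/-- the adjugate followed by `star` -/
def ad (E : Fin 2 → Fin 2 → A) : Fin 2 → Fin 2 → A := ![![star (E 1 1), -star (E 0 1)], ![-star (E 1 0), star (E 0 0)]]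

theorem mu_ad {E : Fin 2 → Fin 2 → A} (h : MU0 E) : MU0 (ad E) where
  mul i j k l := by
    (revert i j k l; simp only [ad, ← star_mul, h.mul, _root_.Fin.forall_fin_succ, Fin.isValue, _root_.Matrix.cons_val', _root_.Matrix.cons_val_fin_one, _root_.Matrix.cons_val_zero, _root_.Matrix.cons_val_succ, _root_.forall_const, _root_.mul_neg, _root_.Fin.succ_zero_eq_one, _root_.IsEmpty.forall_iff, _root_.and_true, ↓reduceIte, _root_.zero_ne_one, _root_.neg_eq_zero, _root_.Fin.succ_ne_zero, _root_.and_self, _root_.star_zero, _root_.neg_mul, _root_.one_ne_zero, _root_.neg_zero, _root_.neg_neg, _root_.implies_true])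
  sum := by
    have h1 := congrArg star h.sum
    rw [Fin.sum_univ_two, star_add, star_one, add_comm] at h1
    rw [Fin.sum_univ_two]
    exact h1

theorem ad_mem {E : Fin 2 → Fin 2 → A} {B : Subring A} (hs : ∀ x ∈ B, star x ∈ B) (h : ∀ i j, E i j ∈ B) (i j : Fin 2) :
    ad E i j ∈ B := by
  fin_cases i <;> fin_cases j
  exacts [hs _ (h _ _), neg_mem (hs _ (h _ _)), neg_mem (hs _ (h _ _)), hs _ (h _ _)]

theorem ad_cen {E : Fin 2 → Fin 2 → A} (h : MU0 E) {φ : A →+* A} (h1 : ∀ c ∈ Subring.center A, φ c = star c)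
    (h2 : ∀ i j, φ (E i j) = ad E i j) {x : A} (hx : ∀ i j, coef E x i j ∈ Subring.center A) :
    φ x + star x ∈ Subring.center A := by
  have h3 : ∀ i j, ad E i j + star (E i j) ∈ Subring.center A := fun i j => by
    have h4 := congrArg star h.sum
    rw [Fin.sum_univ_two, star_add, star_one] at h4
    fin_cases i <;> fin_cases j
    · exact (add_comm _ _).trans h4 ▸ one_mem _
    · exact (neg_add_cancel (star (E 0 1))).symm ▸ zero_mem _
    · exact (neg_add_cancel (star (E 1 0))).symm ▸ zero_mem _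
    · exact h4 ▸ one_mem _
  rw [h.expand x]
  simp only [map_sum, map_mul, star_sum, star_mul, h2, h1 _ (hx _ _), ← Finset.sum_add_distrib,
    cen_comm (star_cen (hx _ _)), ← mul_add]
  exact Subring.sum_mem _ fun i _ => Subring.sum_mem _ fun j _ => mul_mem (star_cen (hx i j)) (h3 i j)

end mu

variable {A : Type} [Ring A] [StarRing A] [Finite A] {𝓑 : Set (Subring A)}

omit [StarRing A] [Finite A] in
theorem two_le {n : ℕ} {E : Fin n → Fin n → A} (h : MU0 E) {B : Subring A} (hB : ¬ B ≤ Subring.center A)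
    (hc : ∀ x ∈ B, ∀ i j, coef E x i j ∈ Subring.center A) : 2 ≤ n := by
  by_contra hn
  have : Subsingleton (Fin n) := Fin.subsingleton_iff_le_one.2 (by omega)
  refine hB fun x hx => ?_
  rw [h.expand x]
  refine Subring.sum_mem _ fun i _ => Subring.sum_mem _ fun j _ => mul_mem (hc x hx i j) ?_
  have h1 := h.sum
  rw [Fintype.sum_subsingleton _ i] at h1
  rw [Subsingleton.elim j i, h1]
  exact one_mem _

theorem mu_B (t : Tens 𝓑) (ss : SS A) {B : Subring A} (hB : B ∈ 𝓑) : ∃ (n : ℕ) (E : Fin n → Fin n → A), MU0 E ∧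
    (∀ i j, E i j ∈ B) ∧ (∀ x ∈ B, ∀ i j, coef E x i j ∈ Subring.center A) ∧ 2 ≤ n := by
  obtain ⟨n, E, hE, hEm, hEc⟩ := exists_mu_sub (t.ss ss hB)
  have h : ∀ x ∈ B, ∀ i j, coef E x i j ∈ Subring.center A := fun b hb i j =>
    t.cen_blk hB (coef_mem hEm hb i j) (hEc _ (coef_mem hEm hb i j) (hE.coef_comm b i j))
  exact ⟨n, E, hE, hEm, h, two_le hE (t.not_le B hB) h⟩

/-- uniqueness -/
theorem uniq (t : Tens 𝓑) (ss : SS A) {f g : A →+* A} (hc : ∀ c ∈ Subring.center A, f c = g c)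
    (h : ∀ B ∈ 𝓑, ∀ x ∈ B, f x - g x ∈ Subring.center A) : f = g := by
  refine RingHom.ext fun a => t.ind (T := f.eqLocus g) (fun B hB x hx => ?_) a
  obtain ⟨n, E, hE, hEm, hEc, hn⟩ := mu_B t ss hB
  have : Nontrivial (Fin n) := Fin.nontrivial_iff_two_le.2 hn
  have h1 : ∀ x ∈ B, ∀ y ∈ B, f (x * y - y * x) = g (x * y - y * x) := fun x hx y hy => by
    have a1 := cen_comm (h B hB x hx)
    have a2 := cen_comm (h B hB y hy)
    rw [map_sub, map_sub, map_mul, map_mul, map_mul, map_mul, ← sub_eq_zero]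
    have e : f x * f y - f y * f x - (g x * g y - g y * g x) = (f x * (f y - g y) - (f y - g y) * f x) +
      ((f x - g x) * g y - g y * (f x - g x)) := by noncomm_ring
    rw [e, a1, a2, sub_self, sub_self, add_zero]
  have h2 : ∀ i j, i ≠ j → f (E i j) = g (E i j) := fun i j hij => by
    have h3 := h1 _ (hEm i i) _ (hEm i j)
    rwa [hE.mul_eq, hE.mul, if_neg hij.symm, sub_zero] at h3
  have h3 : ∀ i j, f (E i j) = g (E i j) := fun i j => by
    obtain ⟨k, hk⟩ := exists_ne i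
    by_cases e : i = j
    · rw [← hE.mul_eq i k j, map_mul, map_mul, h2 _ _ hk.symm, h2 _ _ (e ▸ hk)]
    · exact h2 i j e
  change f x = g x
  rw [hE.expand x]
  simp only [map_sum, map_mul, h3, hc _ (hEc x hx _ _)]

variable {F : FR A} {H : Subgroup (RingAut A)} {p : ℕ}

/-- existence -/
theorem exists_phi0 (T : TC F H p 𝓑) (hc : Nat.card A ≤ Nat.card (Subring.center A) ^ 16) :
    ∃ φ : A →+* A, (∀ c ∈ Subring.center A, φ c = star c) ∧ (∀ B ∈ 𝓑, ∀ x ∈ B, φ x + star x ∈ Subring.center A) ∧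
      ((∀ x, φ x = x) → ∃ s : A, Rk1 s) := by
  have := T.c.ss.nontrivial
  obtain ⟨B, hB⟩ := T.d.t.two.nonempty
  obtain ⟨B', hB', hne⟩ := T.d.t.exists_ne hB
  obtain ⟨n, E, hE, hEm, hEc, hn⟩ := mu_B T.d.t T.c.ss hB
  obtain ⟨m, E', hE', hEm', hEc''⟩ := exists_mu_sub (T.d.ss_Cz hB)
  have hEc' : ∀ x ∈ Cz B, ∀ i j, coef E' x i j ∈ Subring.center A := fun b hb i j =>
    T.cen_Cz hB (coef_mem hEm' hb i j) (hEc'' _ (coef_mem hEm' hb i j) (hE'.coef_comm b i j))
  have hm := two_le hE' (fun h => T.d.t.not_le B' hB' ((T.d.le_Cz hB hB' hne).trans h)) hEc'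
  have hcm : ∀ x ∈ B, ∀ y ∈ Cz B, y * x = x * y := fun x hx y hy => (hy x hx).symm
  have hP := mu_prod hE hE' fun i j k l => hcm _ (hEm i j) _ (hEm' k l)
  have h4 : n * m * (n * m) ≤ 16 := (Nat.pow_le_pow_iff_right (Finite.one_lt_card_iff_nontrivial.2 inferInstance)).1
    ((card_le hP).trans hc)
  have h5 : n * m ≤ 4 := by nlinarith only [h4]
  obtain rfl : n = 2 := by nlinarith only [hn, hm, h5]
  obtain rfl : m = 2 := by omega
  have l1 : ∀ {X X' : Fin 2 → Fin 2 → A}, MU0 X' → ∀ i j, X i j = ∑ k : Fin 2,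
      X (finProdFinEquiv (i, k)).divNat (finProdFinEquiv (j, k)).divNat *
        X' (finProdFinEquiv (i, k)).modNat (finProdFinEquiv (j, k)).modNat := fun {X X'} h i j => by
    have e1 : ∀ a b : Fin 2, (finProdFinEquiv (a, b)).divNat = a := fun a b =>
      congrArg Prod.fst (finProdFinEquiv.symm_apply_apply (a, b))
    have e2 : ∀ a b : Fin 2, (finProdFinEquiv (a, b)).modNat = b := fun a b =>
      congrArg Prod.snd (finProdFinEquiv.symm_apply_apply (a, b))
    simp only [e1, e2]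
    rw [← Finset.mul_sum, h.sum, mul_one]
  have l2 : ∀ {X X' : Fin 2 → Fin 2 → A}, MU0 X → ∀ i j, X' i j = ∑ k : Fin 2,
      X (finProdFinEquiv (k, i)).divNat (finProdFinEquiv (k, j)).divNat *
        X' (finProdFinEquiv (k, i)).modNat (finProdFinEquiv (k, j)).modNat := fun {X X'} h i j => by
    have e1 : ∀ a b : Fin 2, (finProdFinEquiv (a, b)).divNat = a := fun a b =>
      congrArg Prod.fst (finProdFinEquiv.symm_apply_apply (a, b))
    have e2 : ∀ a b : Fin 2, (finProdFinEquiv (a, b)).modNat = b := fun a b =>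
      congrArg Prod.snd (finProdFinEquiv.symm_apply_apply (a, b))
    simp only [e1, e2]
    rw [← Finset.sum_mul, h.sum, one_mul]
  have hM : MU fun a b : Fin (2 * 2) => E a.divNat b.divNat * E' a.modNat b.modNat := ⟨hP, fun a ha => by
    have a0 : ∀ i j, a * E i j = E i j * a := fun i j => by
      rw [l1 (X := E) hE' i j, Finset.sum_mul, Finset.mul_sum]
      simp only [ha]
    have a1 : a ∈ Cz B := fun y hy => by
      rw [hE.expand y, Finset.sum_mul, Finset.mul_sum]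
      refine Finset.sum_congr rfl fun i _ => ?_
      rw [Finset.sum_mul, Finset.mul_sum]
      refine Finset.sum_congr rfl fun j _ => ?_
      rw [← mul_assoc, cen_comm (hEc y hy i j), mul_assoc, mul_assoc, a0]
    refine T.cen_Cz hB a1 (hEc'' a a1 fun i j => ?_)
    rw [l2 (X' := E') hE i j, Finset.sum_mul, Finset.mul_sum]
    simp only [ha]⟩
  obtain ⟨φ, p1, p2⟩ := exists_hom hM (mu_prod (mu_ad hE) (mu_ad hE') fun i j k l =>
    hcm _ (ad_mem (T.d.t.star_mem B hB) hEm i j) _ (ad_mem (T.d.star_Cz hB) hEm' k l))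
  have p3 : ∀ i j, φ (E i j) = ad E i j := fun i j => by
    rw [l1 (X := E) hE' i j, l1 (X := ad E) (mu_ad hE') i j, map_sum]
    simp only [p2]
  have p4 : ∀ i j, φ (E' i j) = ad E' i j := fun i j => by
    rw [l2 (X' := E') hE i j, l2 (X' := ad E') (mu_ad hE) i j, map_sum]
    simp only [p2]
  refine ⟨φ, p1, fun B'' hB'' x hx => ?_, fun h1 => ⟨_, hP.ne_zero 0 3, ?_, fun a => ⟨_, hM.coef_cen a 3 0,
    (hP.coef_mul a 3 0 0 3).symm⟩⟩⟩
  · by_cases e : B'' = B
    · exact ad_cen hE p1 p3 (hEc x (e ▸ hx))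
    · exact ad_cen hE' p1 p4 (hEc' x (T.d.le_Cz hB hB'' e hx))
  · change star (E 0 1 * E' 0 1) = E 0 1 * E' 0 1
    have a1 : E 0 1 = -star (E 0 1) := (h1 _).symm.trans (p3 0 1)
    have a2 : E' 0 1 = -star (E' 0 1) := (h1 _).symm.trans (p4 0 1)
    rw [star_mul, ← neg_mul_neg, ← a1, ← a2, hcm _ (hEm 0 1) _ (hEm' 0 1)]

/-- **the canonical automorphism** -/
theorem exists_phi (T : TC F H p 𝓑) (hc : Nat.card A ≤ Nat.card (Subring.center A) ^ 16) :
    ∃ φ ∈ SAut A, φ * φ = 1 ∧ (∀ γ ∈ H, γ * φ = φ * γ) ∧ (∀ c ∈ Subring.center A, φ c = star c) ∧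
      (φ = 1 → ∃ s : A, Rk1 s) := by
  obtain ⟨f, h1, h2, h3⟩ := exists_phi0 T hc
  have u := fun f g => uniq T.d.t T.c.ss (f := f) (g := g)
  have st := T.d.t.star_mem
  have a1 : f.comp f = RingHom.id A := u _ _ (fun c hc => by
    rw [RingHom.comp_apply, h1 c hc, h1 _ (star_cen hc), star_star, RingHom.id_apply]) fun B hB x hx => by
      have b1 := h1 _ (h2 B hB x hx)
      have b2 := sub_mem (star_cen (h2 B hB x hx)) (h2 B hB _ (st B hB x hx))
      rw [← b1, map_add, star_star, add_comm (f (f x)), add_sub_add_left_eq_sub] at b2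
      exact b2
  let g : A →+* A :=
    { toFun := fun a => star (f (star a))
      map_one' := by simp
      map_zero' := by simp
      map_add' := by simp only [_root_.StarAddMonoid.star_add, _root_.map_add, _root_.implies_true]
      map_mul' := by simp only [_root_.StarMul.star_mul, _root_.map_mul, _root_.implies_true] }
  have a2 : f = g := u _ _ (fun c hc => by
    change f c = star (f (star c))
    rw [h1 c hc, h1 _ (star_cen hc), star_star]) fun B hB x hx => by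
      have b2 := sub_mem (h2 B hB x hx) (star_cen (h2 B hB _ (st B hB x hx)))
      rwa [star_add, star_star, add_sub_add_right_eq_sub] at b2
  refine ⟨RingEquiv.ofRingHom f f a1 a1, fun a => ?_, RingEquiv.ext fun a => DFunLike.congr_fun a1 a, fun γ hγ => ?_, h1,
    fun e => h3 fun x => DFunLike.congr_fun e x⟩
  · exact (DFunLike.congr_fun a2 (star a)).trans (congrArg (fun x => star (f x)) (star_star a))
  · have hs := T.c.le_SAut hγ
    have a3 : (γ : A →+* A).comp f = f.comp (γ : A →+* A) := u _ _ (fun c hc => by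
      change γ (f c) = f (γ c)
      rw [h1 c hc, h1 _ (map_cen γ hc), hs]) fun B hB x hx => by
        have b2 := sub_mem (map_cen γ (h2 B hB x hx)) (h2 _ (T.st γ hγ B hB) _ (apply_mem_smul.2 hx))
        rwa [map_add, hs, add_sub_add_right_eq_sub] at b2
    exact RingEquiv.ext fun a => DFunLike.congr_fun a3 a

/-- a linear automorphism centralised by `H` is trivial -/
theorem eq_one (ss : SS A) (hI : Irr2 H) {φ : RingAut A} (h1 : φ ∈ SAut A) (h2 : φ ∈ Lin A)
    (h3 : ∀ γ ∈ H, γ * φ = φ * γ) : φ = 1 := by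
  obtain ⟨u, rfl⟩ := ss.sn h2
  let X : Subring A := (cj A u : A →+* A).eqLocus (RingHom.id A)
  have h4 : ∀ x, x ∈ X ↔ (u : A) * x = x * u := fun x => by
    change (u : A) * x * (u⁻¹ : Aˣ) = x ↔ _
    rw [Units.mul_inv_eq_iff_eq_mul]
  have h5 : Cz X ≤ X := fun x hx => (h4 x).2 (hx _ ((h4 u).2 rfl))
  refine cj_eq_one_iff.2 (hI.2 (Cz X) ⟨fun z hz y _ => cen_comm hz y, star_centralizer fun x hx => ?_,
    fun x hx y hy => hy x (h5 hx)⟩ (fun γ hγ x hx y hy => ?_) fun x hx => ((h4 x).1 hx).symm)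
  · exact (h1 x).trans (congrArg star hx)
  · have h6 : γ⁻¹ y ∈ X := (DFunLike.congr_fun (h3 _ (inv_mem hγ)) y).symm.trans (congrArg (γ⁻¹ : RingAut A) hy)
    have h7 := congrArg γ (hx _ h6)
    rwa [map_mul, map_mul, ra_apply_inv] at h7

theorem cenD (c : Ctx F H p) (h : TenD H) (hc : Nat.card A ≤ Nat.card (Subring.center A) ^ 16) (hL : F.L = Lmax A)
    {z : A} (hz : z ∈ Subring.center A) (hz' : star z ≠ z) : CenD F H := by
  obtain ⟨𝓑, T⟩ := exists_tc c h
  obtain ⟨φ, h1, h2, h3, h4, -⟩ := exists_phi T hc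
  have h5 : φ ∉ Lin A := fun e => hz' ((h4 z hz).symm.trans (e z hz))
  have : Fact (Nat.Prime 2) := ⟨Nat.prime_two⟩
  refine ⟨h.1, φ, ⟨h1, ?_⟩, h5, ?_, h3⟩
  · rw [hL]
    change star (φ F.l - F.l) = -(φ F.l - F.l)
    rw [star_sub, ← h1, eq_sub_of_add_eq' F.l_add, map_sub, map_one]
    abel
  · rw [orderOf_eq_prime (p := 2) ((sq φ).trans h2) fun e => h5 (e ▸ one_mem _)]
    exact Nat.prime_two

theorem card_EB_le {K V : Type} [Field K] [Fintype K] [AddCommGroup V] [Module K V] [Finite V] (h : HF K V)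
    (hn : finrank K V = 4) : Nat.card h.EB ≤ Nat.card (Subring.center h.EB) ^ 16 := by
  have : Nontrivial V := Module.nontrivial_of_finrank_pos (R := K) (by omega)
  obtain ⟨v, hv⟩ := exists_ne (0 : V)
  rw [Size.card_EB, hn, ← Nat.card_eq_fintype_card]
  exact Nat.pow_le_pow_left (Nat.card_le_card_of_injective
    (fun c : K => (⟨h.eb (c • 1), h.smul_mem_center c⟩ : Subring.center h.EB)) fun c d e =>
    smul_left_injective K hv (congrArg (fun x : Subring.center h.EB => h.ap x.1 v) e)) 16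

end TenT

open TenT

theorem tenL : AtL pTen4 := fun K _ _ F H p _ _ c h => by
  have k : ∀ a b : K, LR.mk (Matrix.scalar (Fin 4) a) (Matrix.scalar (Fin 4) b) ∈ Subring.center (LR (Fin 4) K) :=
    fun a b => Subring.mem_center_iff.2 fun g => by
      obtain ⟨x, y, rfl⟩ := LR.exists_mk g
      rw [LR.mk_mul, LR.mk_mul, (Matrix.scalar_commute a (fun _ => Commute.all _ _) x).eq,
        (Matrix.scalar_commute b (fun _ => Commute.all _ _) y).eq]
  refine (h.2 (cenD c h.1 ?_ (Size.L_LR F) (k 1 0) fun e => ?_)).elim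
  · rw [Size.card_LR, ← Nat.card_eq_fintype_card, pow_mul, sq, ← Nat.card_prod]
    exact Nat.pow_le_pow_left (Nat.card_le_card_of_injective (fun c => ⟨_, k c.1 c.2⟩) fun c d e => Prod.ext
      (Matrix.scalar_inj.1 (congrArg (fun x : Subring.center (LR (Fin 4) K) => x.1.1) e))
      (Matrix.scalar_inj.1 (congrArg (fun x : Subring.center (LR (Fin 4) K) => x.1.2) e))) 16
  · have e1 : (Matrix.scalar (Fin 4) (0 : K)).transpose = Matrix.scalar (Fin 4) 1 := congrArg Prod.fst e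
    simpa using congrFun (congrFun e1 0) 0

theorem tenU : AtU pTen4 := fun K V _ _ _ _ _ f F q H p k hn _ _ c h => by
  obtain ⟨a, ha⟩ := k.u.2
  have : Nontrivial V := Module.nontrivial_of_finrank_pos (R := K) (by omega)
  obtain ⟨v, hv⟩ := exists_ne (0 : V)
  refine (h.2 (cenD c h.1 (card_EB_le f hn) k.L (f.smul_mem_center a) fun e => ha ?_)).elim
  rw [Size.star_scal] at e
  exact smul_left_injective K hv (congrArg (fun x => f.ap x v) e)

theorem tenS : AtS pTen4 := fun K V _ _ _ _ _ f F H p k _ c h => by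
  obtain ⟨𝓑, T⟩ := exists_tc c h.1
  have hn := k.dim
  by_cases hL : F.L = Lmin f.EB
  swap
  · obtain ⟨B, hB⟩ := T.d.t.two.nonempty
    obtain ⟨l, hl, hl'⟩ := T.d.l B hB
    exact Quad.quad_Sp k.sp (by omega) (by omega) c hL hl' fun γ hγ =>
      T.d.t.l_sub_l ⟨l, Lmin _, hl', Or.inl rfl⟩ T.d.l (T.st γ hγ B hB) hB (apply_mem_smul.2 hl) hl
        (by rw [← c.le_SAut hγ, ← map_add, hl', map_one]) hl'
  exfalso
  have : Nontrivial V := Module.nontrivial_of_finrank_pos (R := K) (by omega)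
  obtain ⟨φ, h1, -, h3, h4, h5⟩ := exists_phi T (card_EB_le f hn)
  have sc := fun z => P5.exists_smul (A := f.EB) (RingEquiv.refl (End K V)) (z := z)
  obtain ⟨s, s0, s1, s2⟩ := h5 (eq_one c.ss T.irr h1 (fun z hz => by
    obtain ⟨a, rfl⟩ := sc z hz
    rw [h4 _ hz]
    exact (Size.star_scal f a).trans (by rw [k.sp.1]; rfl)) h3)
  have sw := Size.alt_swap k.sp.2.1
  have a1 : ∀ x, f.b x (f.ap s x) = 0 := fun x => by
    by_cases h2 : (2 : K) = 0
    · have b1 : s ∈ Lmax f.EB := s1.trans (f.ap_ext fun y => by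
        change f.ap s y = -f.ap s y
        rw [eq_neg_iff_add_eq_zero, ← two_smul K, h2, zero_smul])
      rw [← k.sp.2.2, hL] at b1
      obtain ⟨a, rfl⟩ := b1
      rw [f.ap_sub, f.sub_right, f.b_star, sw (f.ap a x)]
      linear_combination f.b x (f.ap a x) * h2
    · have b1 := f.b_star s x x
      rw [s1, sw (f.ap s x)] at b1
      exact (mul_eq_zero.1 (by linear_combination b1 : 2 * f.b x (f.ap s x) = 0)).resolve_left h2
  obtain ⟨v, hv⟩ : ∃ v, f.ap s v ≠ 0 := by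
    by_contra hc
    push Not at hc
    exact s0 (f.ap_ext hc)
  obtain ⟨w, hw⟩ := f.exists_ne hv
  obtain ⟨z, hz, e⟩ := s2 (f.eb (f.ro w w))
  obtain ⟨a, rfl⟩ := sc z hz
  have a2 : f.b (f.ap s v) w • f.ap s w = a • f.ap s v := (map_smul (f.ap s) _ _).symm.trans (congrArg (fun x => f.ap x v) e)
  have a3 := congrArg (f.b v) a2
  rw [f.smul_right, f.smul_right, a1, mul_zero, k.sp.1, ← s1, f.b_star, s1] at a3
  exact f.ne_swap hw (mul_self_eq_zero.1 a3)

theorem ten : At pTen4 := ⟨tenL, tenU, tenS⟩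

end Cfsg.Agent.N2C.N4

private theorem dce_a6765a8e8d7e : _root_.True := by
  try have : _root_.True := by simp only [_root_.Cfsg.Agent.N2C.N4.TenT.ad.eq_1]
  exact _root_.True.intro
end

-- part: N2/Cl/Sub/Jd_mg
section
prune_inst 0x40000001000000000000000000000001000000000400000000000000000000000400000000000020002000000000000000000000000000000000000000000000000100000000000000000000000000000000000000000000000000000000000000000000
set_option linter.all false
open scoped Cfsg.Agent.FastGrp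

-- part: N2/Cl/FldSp/Gen
section
/-!
# N2 (S3519), field extension subgroups of symplectic groups: generators of `L × L` and of `L` (helper47)
-/

set_option autoImplicit false

namespace Cfsg.Agent.N2C.FldSp

open Module Polynomial

theorem num_big {q k i : ℕ} (hq : 2 ≤ q) (hk : 5 ≤ k) (hi : 2 * i ≤ k) : k * (q ^ i + 1) + 1 < q ^ k := by
  have h0 : ∀ m, m + 3 + 1 ≤ 2 ^ (m + 2) := fun m => by
    induction m with
    | zero => norm_num
    | succ m ih => rw [show m + 1 + 2 = m + 2 + 1 by ring, pow_succ]; omega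
  have h1 : q ^ i ≤ q ^ (k / 2) := Nat.pow_le_pow_right (by omega) (by omega)
  refine lt_of_le_of_lt (Nat.add_le_add_right (Nat.mul_le_mul_left k (Nat.add_le_add_right h1 1)) 1) ?_
  obtain ⟨m, rfl | rfl⟩ := Nat.even_or_odd' k
  · obtain ⟨n, rfl⟩ : ∃ n, m = n + 3 := ⟨m - 3, by omega⟩
    have h2 : 2 * 2 ^ (n + 2) ≤ q ^ (n + 3) := by
      rw [← pow_succ']
      exact Nat.pow_le_pow_left hq _
    have h3 := h0 n
    rw [show 2 * (n + 3) / 2 = n + 3 by omega, two_mul, pow_add q (n + 3)]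
    generalize q ^ (n + 3) = c at h2
    nlinarith only [h3, h2]
  · obtain ⟨n, rfl⟩ : ∃ n, m = n + 2 := ⟨m - 2, by omega⟩
    have h2 : 2 ^ (n + 2) ≤ q ^ (n + 2) := Nat.pow_le_pow_left hq _
    have h3 := h0 n
    rw [show (2 * (n + 2) + 1) / 2 = n + 2 by omega, pow_succ q (2 * (n + 2)), two_mul, pow_add q (n + 2)]
    generalize q ^ (n + 2) = c at h2
    have h4 : c * c * 2 ≤ c * c * q := Nat.mul_le_mul_left _ hq
    nlinarith only [h3, h2, h4]

theorem num {q k i r c : ℕ} (hq : 2 ≤ q) (hk : 3 ≤ k) (hi : 2 * i ≤ k) (hr : r = 2 ∨ (r.Prime ∧ r ∣ k)) (c0 : 0 < c)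
    (hc : c ≤ q ^ i + 1) : ¬ q ^ k - 1 ∣ r * c := fun h => by
  have r0 : 0 < r := hr.elim (fun e => by omega) fun e => e.1.pos
  have r1 : r ≤ k := hr.elim (fun e => by omega) fun e => Nat.le_of_dvd (by omega) e.2
  have h1 := Nat.le_of_dvd (Nat.mul_pos r0 c0) h
  by_cases h5 : 5 ≤ k
  · have h2 := num_big hq h5 hi
    have h3 := Nat.mul_le_mul r1 hc
    omega
  obtain rfl | rfl : k = 3 ∨ k = 4 := by omega
  · have h2 : q ^ i ≤ q ^ 1 := Nat.pow_le_pow_right (by omega) (by omega)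
    rw [pow_one] at h2
    by_cases h3 : q = 2
    · subst h3
      have h4 : c ≤ 3 := by omega
      interval_cases r <;> interval_cases c <;> simp at h
    have h3 := Nat.mul_le_mul r1 (hc.trans (Nat.add_le_add_right h2 1))
    have h4 : 3 * 3 * q ≤ q * q * q := Nat.mul_le_mul_right _ (Nat.mul_le_mul (by omega) (by omega))
    rw [show q ^ 3 = q * q * q by ring] at h1
    omega
  · obtain rfl : r = 2 := hr.elim id fun e =>
      (Nat.prime_dvd_prime_iff_eq e.1 Nat.prime_two).1 (e.1.dvd_of_dvd_pow (show r ∣ 2 ^ 2 from e.2))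
    have h2 : q ^ i ≤ q ^ 2 := Nat.pow_le_pow_right (by omega) (by omega)
    have h3 : 2 ^ 2 ≤ q ^ 2 := Nat.pow_le_pow_left hq 2
    rw [show q ^ 4 = q ^ 2 * q ^ 2 by ring] at h1
    have h4 : 4 * q ^ 2 ≤ q ^ 2 * q ^ 2 := Nat.mul_le_mul_right _ h3
    omega

variable {K L : Type} [Field K] [Fintype K] [Field L] [Finite L] [Algebra K L]

theorem frob_pow (n : ℕ) (x : L) : (FiniteField.frobeniusAlgEquivOfAlgebraic K L ^ n) x = x ^ Fintype.card K ^ n := by
  rw [AlgEquiv.coe_pow, FiniteField.coe_frobeniusAlgEquivOfAlgebraic_iterate]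

theorem gal_half (θ : L ≃ₐ[K] L) : ∃ i, 2 * i ≤ finrank K L ∧
    ((∀ x, θ x = x ^ Fintype.card K ^ i) ∨ ∀ x, θ⁻¹ x = x ^ Fintype.card K ^ i) := by
  obtain ⟨⟨n, hn⟩, rfl⟩ := (FiniteField.bijective_frobeniusAlgEquivOfAlgebraic_pow K L).2 θ
  by_cases h : 2 * n ≤ finrank K L
  · exact ⟨n, h, Or.inl (frob_pow n)⟩
  refine ⟨finrank K L - n, by omega, Or.inr fun x => ?_⟩
  rw [← frob_pow]
  congr 1
  rw [inv_eq_iff_mul_eq_one, ← pow_add, Nat.add_sub_cancel' hn.le, ← FiniteField.orderOf_frobeniusAlgEquivOfAlgebraic,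
    pow_orderOf_eq_one]

omit [Fintype K] in
theorem adjoin_top {s : L} (h : ∀ θ : L ≃ₐ[K] L, θ s = s → θ = 1) : Algebra.adjoin K {s} = ⊤ := by
  have := Finite.of_injective _ (algebraMap K L).injective
  have h1 : (IntermediateField.adjoin K {s}).fixingSubgroup = ⊥ :=
    eq_bot_iff.2 fun θ hθ => h θ (hθ ⟨s, IntermediateField.mem_adjoin_simple_self K s⟩)
  have h2 := IsGalois.fixedField_fixingSubgroup (IntermediateField.adjoin K {s})
  rw [h1, IntermediateField.fixedField_bot] at h2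
  rw [← IntermediateField.adjoin_simple_toSubalgebra_of_isAlgebraic (Algebra.IsAlgebraic.isAlgebraic s), ← h2]
  rfl

omit [Fintype K] in
theorem adjoin_pair {s : L} (h1 : ∀ θ : L ≃ₐ[K] L, θ s = s → θ = 1) (h2 : ∀ θ : L ≃ₐ[K] L, θ s ≠ s⁻¹) :
    Algebra.adjoin K {(s, s⁻¹)} = ⊤ := by
  have := Finite.of_injective _ (algebraMap K L).injective
  have := Fintype.ofFinite L
  have a1 : ∀ f : K[X], (aeval s f, aeval s⁻¹ f) ∈ Algebra.adjoin K {(s, s⁻¹)} := fun f => by
    rw [Algebra.adjoin_singleton_eq_range_aeval]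
    exact ⟨f, aeval_prod_apply (s, s⁻¹) f⟩
  have a2 : aeval s (minpoly K s⁻¹) ≠ 0 := fun e => by
    obtain ⟨θ, hθ⟩ := minpoly.exists_algEquiv_of_root (Algebra.IsAlgebraic.isAlgebraic _) e
    exact h2 θ hθ
  have a3 : ((1, 0) : L × L) ∈ Algebra.adjoin K {(s, s⁻¹)} := by
    have a3 := pow_mem (a1 (minpoly K s⁻¹)) (Fintype.card L - 1)
    rwa [minpoly.aeval, Prod.pow_mk, FiniteField.pow_card_sub_one_eq_one _ a2,
      zero_pow (Nat.sub_ne_zero_of_lt Fintype.one_lt_card)] at a3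
  refine eq_top_iff.2 fun ⟨x, y⟩ _ => ?_
  obtain ⟨f, rfl⟩ := ((adjoin_top h1).symm.trans (Algebra.adjoin_singleton_eq_range_aeval K s)).le (Algebra.mem_top (x := x))
  obtain ⟨g, rfl⟩ := ((adjoin_top (s := s⁻¹) fun θ e => h1 θ (by rwa [map_inv₀, inv_inj] at e)).symm.trans
    (Algebra.adjoin_singleton_eq_range_aeval K s⁻¹)).le (Algebra.mem_top (x := y))
  convert add_mem (mul_mem a3 (a1 f)) (mul_mem (sub_mem (one_mem _) a3) (a1 g)) using 1
  ext <;> simp

theorem exists_gen : ∃ g : L, g ≠ 0 ∧ ∀ n, g ^ n = 1 ↔ Fintype.card K ^ finrank K L - 1 ∣ n := by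
  classical
  have := Fintype.ofFinite L
  obtain ⟨g, hg⟩ := IsCyclic.exists_ofOrder_eq_natCard (α := Lˣ)
  refine ⟨g, g.ne_zero, fun n => ?_⟩
  rw [← Module.card_eq_pow_finrank, ← Fintype.card_units, ← Nat.card_eq_fintype_card, ← hg, orderOf_dvd_iff_pow_eq_one,
    Units.ext_iff, Units.val_pow_eq_pow_val, Units.val_one]

theorem eq_one_of {s : L} (s0 : s ≠ 0) (h : ∀ i, 0 < i → 2 * i ≤ finrank K L → s ^ (Fintype.card K ^ i - 1) ≠ 1)
    (θ : L ≃ₐ[K] L) (e : θ s = s) : θ = 1 := by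
  have h1 : ∀ θ : L ≃ₐ[K] L, θ s = s → ∀ i, 2 * i ≤ finrank K L → (∀ x, θ x = x ^ Fintype.card K ^ i) → θ = 1 :=
    fun θ e i hi h1 => by
    rcases i.eq_zero_or_pos with rfl | i0
    · exact AlgEquiv.ext fun x => by simpa using h1 x
    refine absurd (mul_right_cancel₀ s0 ?_) (h i i0 hi)
    rw [← pow_succ, Nat.sub_add_cancel (Nat.one_le_pow _ _ Fintype.card_pos), ← h1, e, one_mul]
  obtain ⟨i, hi, h2 | h2⟩ := gal_half θ
  · exact h1 θ e i hi h2
  · exact inv_eq_one.1 (h1 θ⁻¹ (θ.symm_apply_eq.2 e.symm) i hi h2)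

/-- the torus of order `q ^ k - 1` -/
theorem split_gen {r : ℕ} (hk : 3 ≤ finrank K L) (hr : r = 2 ∨ (r.Prime ∧ r ∣ finrank K L)) :
    ∃ g : L, g ≠ 0 ∧ Algebra.adjoin K {((g, g⁻¹) : L × L) ^ r} = ⊤ := by
  obtain ⟨g, g0, hg⟩ := exists_gen (K := K) (L := L)
  have hq : 2 ≤ Fintype.card K := Fintype.one_lt_card
  refine ⟨g, g0, ?_⟩
  rw [Prod.pow_mk, inv_pow]
  refine adjoin_pair (eq_one_of (pow_ne_zero r g0) fun i i0 hi e => ?_) fun θ e => ?_
  · rw [← pow_mul, hg] at e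
    exact num hq hk hi hr (Nat.sub_pos_of_lt (Nat.one_lt_pow i0.ne' hq)) (by omega) e
  have h1 : ∀ θ : L ≃ₐ[K] L, θ (g ^ r) = (g ^ r)⁻¹ → ∀ i, 2 * i ≤ finrank K L →
      (∀ x, θ x = x ^ Fintype.card K ^ i) → False := fun θ e i hi h1 =>
    num hq hk hi hr (Nat.succ_pos _) le_rfl ((hg _).1 (by
      rw [pow_mul, pow_succ, ← h1, e, inv_mul_cancel₀ (pow_ne_zero r g0)]))
  obtain ⟨i, hi, h2 | h2⟩ := gal_half θ
  · exact h1 θ e i hi h2
  · exact h1 θ⁻¹ (θ.symm_apply_eq.2 (by rw [map_inv₀, e, inv_inv])) i hi h2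

/-- the torus of order `q ^ k + 1` -/
theorem sing_gen {k : ℕ} (hk : 2 ≤ k) (hL : finrank K L = 2 * k) :
    ∃ g : L, g * g ^ Fintype.card K ^ k = 1 ∧ Algebra.adjoin K {g ^ 2} = ⊤ := by
  obtain ⟨g, g0, hg⟩ := exists_gen (K := K) (L := L)
  have hq : 2 ≤ Fintype.card K := Fintype.one_lt_card
  have h1 : 2 ^ 2 ≤ Fintype.card K ^ k := (Nat.pow_le_pow_right two_pos hk).trans (Nat.pow_le_pow_left hq k)
  have h2 : Fintype.card K ^ finrank K L - 1 = (Fintype.card K ^ k - 1) * (Fintype.card K ^ k + 1) := by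
    rw [hL, mul_comm 2, pow_mul, mul_comm, ← Nat.sq_sub_sq, one_pow]
  refine ⟨g ^ (Fintype.card K ^ k - 1), by rw [← pow_succ', ← pow_mul, hg, h2], adjoin_top (eq_one_of
    (pow_ne_zero _ (pow_ne_zero _ g0)) fun i i0 hi e => ?_)⟩
  rw [← pow_mul, ← pow_mul, hg, h2] at e
  obtain ⟨c, hc⟩ := Nat.dvd_of_mul_dvd_mul_left (by omega) e
  have h3 := Nat.one_lt_pow i0.ne' hq
  have h4 : Fintype.card K ^ i = Fintype.card K ^ k ∨ Fintype.card K ^ i * 2 ≤ Fintype.card K ^ k := by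
    rcases (show i ≤ k by omega).eq_or_lt with e | e
    · exact Or.inl (by rw [e])
    · exact Or.inr ((Nat.mul_le_mul_left _ hq).trans (Nat.pow_le_pow_right (by omega) e))
  generalize Fintype.card K ^ i = a at *
  generalize Fintype.card K ^ k = b at *
  rcases c with _ | _ | c
  · omega
  · omega
  · rw [mul_add, mul_add] at hc
    omega

end Cfsg.Agent.N2C.FldSp
end

-- part: N2/Cl/FldSp/MC
section
/-!
# N2 (S3519), field extension subgroups: self-centralising commutative subrings (helper47)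

`gd_of` : the criterion `fix = 1`.  `MC h R` : a self-centralising copy of `R` in `h.EB`, closed under the involution.
`exists_split` : `R = L × L` from a pair of totally isotropic subspaces; `exists_sing` : `R` a field of degree `dim V`.
-/

set_option autoImplicit false
set_option linter.unusedSectionVars false

namespace Cfsg.Agent.N2C.FldSp

open Cfsg.Agent.DS.Cl Cfsg.Agent.DS.Cl.Fwd Cfsg.Agent.SB.Cl Module
open Cfsg.Agent.TH.Cl (cj_mem_S)
open Cfsg.Agent.TH.Cl.FSO (FE SO)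

section ring

variable {A : Type} [Ring A] [StarRing A] [Finite A] {F : FR A} {H : Subgroup (RingAut A)} {p : ℕ}

end ring

variable {K V : Type} [Field K] [Fintype K] [AddCommGroup V] [Module K V] [Finite V]

/-- a self-centralising commutative subring -/
structure MC (h : HF K V) (R : Type) [CommRing R] [Algebra K R] where
  /-- the embedding -/
  j : R →+* h.EB
  /-- the involution -/
  ρ : R →+* R
  star_j : ∀ x, star (j x) = j (ρ x)
  alg : ∀ c v, h.ap (j (algebraMap K R c)) v = c • v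
  inj : Function.Injective j
  cent : ∀ a, (∀ y, j y * a = a * j y) → a ∈ j.range

variable {h : HF K V}

theorem MC.mem {R : Type} [CommRing R] [Algebra K R] (m : MC h R) {s : R} (hs : Algebra.adjoin K {s} = ⊤) {a : h.EB}
    (ha : m.j s * a = a * m.j s) : a ∈ m.j.range := by
  refine m.cent a fun y => ?_
  have h1 : y ∈ Algebra.adjoin K {s} := hs.ge Algebra.mem_top
  induction h1 using Algebra.adjoin_induction with
  | mem x hx => rwa [hx]
  | algebraMap c => exact h.ap_ext fun v => by rw [h.ap_mul, h.ap_mul, m.alg, m.alg, map_smul]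
  | add x y _ _ hx hy => rw [map_add, add_mul, mul_add, hx, hy]
  | mul x y _ _ hx hy => rw [map_mul, mul_assoc, hy, ← mul_assoc, hx, mul_assoc]

theorem MC.uni {R : Type} [CommRing R] [Algebra K R] (m : MC h R) {g : R} (hg : g * m.ρ g = 1) :
    m.j g * star (m.j g) = 1 := by rw [m.star_j, ← map_mul, hg, map_one]

theorem exists_ext (E : Type) [Field E] [Finite E] {n : ℕ} (hn : 0 < n) :
    ∃ (L : Type) (_ : Field L) (_ : Finite L) (_ : Algebra E L), finrank E L = n := by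
  obtain ⟨p, hp⟩ := CharP.exists E
  have : Fact p.Prime := ⟨CharP.char_is_prime E p⟩
  have : NeZero n := ⟨hn.ne'⟩
  exact ⟨FiniteField.Extension E p n, inferInstance, inferInstance, inferInstance, FiniteField.finrank_extension E p n⟩

theorem rank_half {ε : h.EB} (h1 : ε * ε = ε) (h2 : ε + star ε = 1) :
    2 * finrank K (LinearMap.range (h.ap ε)) = finrank K V := by
  have : Module.Finite K V := Module.Finite.of_finite
  have a1 := TH.Cl.Cases.dim_le (h := h) (e := ε) (by rw [sub_sub, h2, sub_self])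
  have a2 := TH.Cl.Cases.dim_le (h := h) (e := star ε) (by rw [star_star, sub_sub, add_comm, h2, sub_self])
  rw [star_star] at a2
  have a3 := (h.ap ε).finrank_range_add_finrank_ker
  have a4 : LinearMap.range (h.ap (star ε)) ≤ LinearMap.ker (h.ap ε) := by
    rintro _ ⟨x, rfl⟩
    rw [LinearMap.mem_ker, ← h.ap_mul, eq_sub_of_add_eq' h2, mul_sub, h1, mul_one, sub_self]
    rfl
  have a5 := Submodule.finrank_mono a4
  omega

variable {E : Type} [Field E] [Finite E] [Algebra K E] [Module E V] [IsScalarTower K E V]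

/-- **the split torus** -/
theorem exists_split [Nontrivial V] (hτ : ∀ c, h.τ c = c) {ε : h.EB} (h1 : ε * ε = ε) (h2 : ε + star ε = 1)
    (h3 : ∀ (z : E) v, h.ap ε (z • v) = z • h.ap ε v) :
    ∃ (L : Type) (_ : Field L) (_ : Finite L) (_ : Algebra E L) (_ : Algebra K L) (_ : IsScalarTower K E L)
      (m : MC h (L × L)), 2 * finrank K L = finrank K V ∧ (∀ x y, m.ρ (x, y) = (y, x)) ∧
      ∀ (z : E) v, h.ap (m.j (algebraMap E L z, 0)) v = z • h.ap ε v := by
  have : Module.Finite K V := Module.Finite.of_finite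
  have : Module.Finite E V := Module.Finite.of_finite
  let e : V →ₗ[E] V := { toFun := h.ap ε, map_add' := map_add _, map_smul' := h3 }
  have a0 : finrank K E * finrank E (LinearMap.range e) = finrank K (LinearMap.range (h.ap ε)) :=
    finrank_mul_finrank K E (LinearMap.range e)
  have a1 := rank_half h1 h2
  have a2 : 0 < finrank K V := finrank_pos
  obtain ⟨L, _, _, _, hL⟩ := exists_ext E (n := finrank E (LinearMap.range e)) (Nat.pos_of_ne_zero fun e => by
    rw [e] at a0; omega)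
  let : Algebra K L := ((algebraMap E L).comp (algebraMap K E)).toAlgebra
  have : IsScalarTower K E L := IsScalarTower.of_algebraMap_eq fun _ => rfl
  have : Module.Finite E L := Module.Finite.of_finite
  let φ := LinearEquiv.ofFinrankEq (R := E) L (LinearMap.range e) hL
  obtain ⟨P, I, b1, b2⟩ : ∃ (P : V →ₗ[E] L) (I : L →ₗ[E] V), (∀ x, P (I x) = x) ∧ ∀ v, I (P v) = h.ap ε v :=
    ⟨φ.symm.toLinearMap ∘ₗ e.rangeRestrict, (LinearMap.range e).subtype ∘ₗ φ.toLinearMap, fun x => by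
      obtain ⟨v, hv⟩ := (φ x).2
      refine φ.symm_apply_eq.2 (Subtype.ext ?_)
      change h.ap ε (φ x) = φ x
      rw [← hv]
      exact congrArg (h.ap · v) h1, fun v => congrArg Subtype.val (φ.apply_symm_apply (e.rangeRestrict v))⟩
  obtain ⟨ι, hι⟩ : ∃ ι : L → h.EB, ∀ x v, h.ap (ι x) v = I (x * P v) :=
    ⟨fun x => h.eb ((I ∘ₗ LinearMap.mulLeft E x ∘ₗ P).restrictScalars K), fun _ _ => rfl⟩
  have c1 : ∀ x y, ι x * ι y = ι (x * y) := fun x y => h.ap_ext fun v => by rw [h.ap_mul, hι, hι, hι, b1, mul_assoc]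
  have c2 : ι 1 = ε := h.ap_ext fun v => by rw [hι, one_mul, b2]
  have c3 : ∀ x y, ι (x + y) = ι x + ι y := fun x y => h.ap_ext fun v => by rw [h.ap_add, hι, hι, hι, add_mul, map_add]
  have c4 : ι 0 = 0 := h.ap_ext fun v => by rw [hι, zero_mul, map_zero]; rfl
  have c5 : ∀ x y, ι x * star (ι y) = 0 := fun x y => by
    rw [← mul_one x, ← mul_one y, ← c1, ← c1, c2, star_mul, eq_sub_of_add_eq' h2, mul_assoc, ← mul_assoc ε, mul_sub, h1]
    simp
  have c6 : ∀ x y, star (ι x) * ι y = 0 := fun x y => by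
    rw [← one_mul x, ← one_mul y, ← c1, ← c1, c2, star_mul, eq_sub_of_add_eq' h2, mul_assoc, ← mul_assoc _ ε, sub_mul, h1]
    simp
  have c7 : ∀ (z : E) v, h.ap (ι (algebraMap E L z)) v = z • h.ap ε v := fun z v => by
    rw [hι, ← Algebra.smul_def, map_smul, b2]
  have c8 : ∀ x y, ι x = ι y → x = y := fun x y e => by
    have := congrArg (fun a => P (h.ap a (I 1))) e
    simpa only [hι, b1, mul_one] using this
  let j : L × L →+* h.EB :=
    { toFun := fun x => ι x.1 + star (ι x.2)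
      map_one' := by rw [Prod.fst_one, Prod.snd_one, c2, h2]
      map_mul' := fun x y => by
        rw [add_mul, mul_add, mul_add, c1, c5, c6, ← star_mul, c1, mul_comm y.2, add_zero, zero_add]
        rfl
      map_zero' := by rw [Prod.fst_zero, Prod.snd_zero, c4, star_zero, add_zero]
      map_add' := fun x y => by rw [Prod.fst_add, Prod.snd_add, c3, c3, star_add, add_add_add_comm] }
  have d0 : ∀ x y, j (x, y) = ι x + star (ι y) := fun _ _ => rfl
  have d1 : ∀ x, j (x, 0) = ι x := fun x => by rw [d0, c4, star_zero, add_zero]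
  have d2 : ∀ x, star (j x) = j (RingEquiv.prodComm x) := fun x => by
    rw [d0, star_add, star_star, add_comm]
    rfl
  have d3 : ∀ x y, j x = j y → x.1 = y.1 := fun x y e => c8 _ _ (by
    rw [← d1, ← d1, show (x.1, 0) = (1, 0) * x from Prod.ext (one_mul _).symm (zero_mul _).symm,
      show (y.1, 0) = (1, 0) * y from Prod.ext (one_mul _).symm (zero_mul _).symm, map_mul, map_mul, e])
  have d4 : ∀ a, (∀ y, j y * a = a * j y) → ε * a = ι (P (h.ap a (I 1))) := fun a ha => h.ap_ext fun v => by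
    have k1 : ∀ x w, I (x * P (h.ap a w)) = h.ap a (I (x * P w)) := fun x w => by
      rw [← hι, ← hι, ← d1, ← h.ap_mul, ha, h.ap_mul]
    rw [hι, mul_comm, k1, b1, mul_one, h.ap_mul, ← b2, ← one_mul (P _), k1, one_mul]
  refine ⟨L, inferInstance, inferInstance, inferInstance, inferInstance, inferInstance,
    ⟨j, (RingEquiv.prodComm : L × L ≃+* L × L), d2, fun c v => ?_, fun x y e => Prod.ext (d3 x y e)
      (d3 (RingEquiv.prodComm x) (RingEquiv.prodComm y) (by rw [← d2, ← d2, e])), fun a ha => ?_⟩, ?_, fun _ _ => rfl,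
    fun z v => (congrArg (h.ap · v) (d1 _)).trans (c7 z v)⟩
  · have k1 : ∀ v, h.ap (ι (algebraMap K L c)) v = c • h.ap ε v := fun v =>
      (c7 (algebraMap K E c) v).trans (algebraMap_smul E c _)
    change h.ap (ι (algebraMap K L c) + star (ι (algebraMap K L c))) v = _
    refine h.ext_right fun u => ?_
    rw [h.ap_add, h.add_right, h.b_star, k1, k1, h.smul_left, h.smul_right, h.smul_right, hτ, ← mul_add, ← h.b_star,
      ← h.add_right, ← h.ap_add, h2, h.ap_one]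
  · have k1 := d4 a ha
    have k2 := congrArg star (d4 (star a) fun y => by
      rw [← star_star (j y), ← star_mul, ← star_mul, d2, ha])
    have k3 := ha (1, 0)
    rw [d1, c2] at k3
    exact ⟨(_, _), (d0 _ _).trans ((congrArg₂ (· + ·) k1 k2).symm.trans (by
      rw [star_mul, star_star, k3, ← mul_add, h2, mul_one]))⟩
  · rw [← finrank_mul_finrank K E L, hL, a0, a1]

/-- orthonormal coordinates -/
theorem herm_coord {W : Type} [AddCommGroup W] [Module E W] [Module.Finite E W] (g : HF E W) (h1 : g.ε = 1)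
    (h2 : g.τ ≠ RingHom.id E) {I : Type} [Fintype I] (hI : Fintype.card I = finrank E W) :
    ∃ e : (I → E) ≃ₗ[E] W, ∀ x y, g.b (e x) (e y) = ∑ i, x i * g.τ (y i) := by
  classical
  let B : W →ₛₗ[g.τ] W →ₗ[E] E := LinearMap.mk₂'ₛₗ g.τ (RingHom.id E) (fun v w => g.b w v)
    (fun _ _ _ => g.add_right _ _ _) (fun _ _ _ => g.smul_right _ _ _) (fun _ _ _ => g.add_left _ _ _)
    fun _ _ _ => g.smul_left _ _ _
  obtain ⟨c, hc⟩ := ClassicalGeometry.HermOrthonormal.exists_orthonormal_basis h2 g.τ_τ B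
    ⟨fun v w => by
      change g.τ (g.b w v) = g.b v w
      rw [g.swap w v, h1, one_mul]⟩ fun v hv => g.nondeg v hv
  let c' := c.reindex (Fintype.equivFinOfCardEq hI).symm
  have h3 : ∀ i j, B (c' i) (c' j) = if i = j then 1 else 0 := fun i j => by
    simp only [c', Basis.reindex_apply, hc, EmbeddingLike.apply_eq_iff_eq]
  refine ⟨c'.equivFun.symm, fun x y => ?_⟩
  change B _ _ = _
  simp only [Basis.equivFun_symm_apply, map_sum, LinearMap.sum_apply, LinearMap.map_smulₛₗ, map_smul,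
    LinearMap.smul_apply, h3, smul_eq_mul, mul_ite, mul_one, mul_zero, Finset.sum_ite_eq', Finset.mem_univ, if_true]

section fe

variable {E : Type} [Field E] [Fintype E] [DecidableEq E] [Algebra K E] [Module E V] [IsScalarTower K E V] [Nontrivial V]
  (f : FE h E) {F : FR h.EB} {s κ : K}

theorem eps_of (P : V →ₗ[E] V) (h1 : ∀ x, P (P x) = P x) (h2 : ∀ x y, f.β (P x) y + f.β x (P y) = f.β x y) :
    ∃ ε : h.EB, ε * ε = ε ∧ ε + star ε = 1 ∧ ∀ (z : E) v, h.ap ε (z • v) = z • h.ap ε v := by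
  refine ⟨h.eb (P.restrictScalars K), h.ap_ext h1, h.ap_ext fun y => h.ext_right fun x => ?_, P.map_smul⟩
  rw [h.ap_add, h.add_right, h.b_star, f.b_eq, f.b_eq, f.b_eq, ← map_add, add_comm]
  exact congrArg _ (h2 x y)

/-- alternating forms over `E` -/
theorem eps_alt (hσ : ∀ z, f.σ z = z) (h0 : ∀ x, f.β x x = 0) :
    ∃ ε : h.EB, ε * ε = ε ∧ ε + star ε = 1 ∧ ∀ (z : E) v, h.ap ε (z • v) = z • h.ap ε v := by
  have : Module.Finite E V := Module.Finite.of_finite
  let B : LinearMap.BilinForm E V := LinearMap.mk₂ E f.β f.β_add_left f.β_smul_left f.β_add_right fun c u v => by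
    rw [f.β_smul_right, hσ, smul_eq_mul]
  have hB : B.IsAlt := h0
  obtain ⟨m, l, c, c1, c2, c3, c4⟩ := Cfsg.Agent.S0752.result B hB
  let P : V →ₗ[E] V := c.constr E (Sum.elim (Sum.elim (fun i => c (.inl (.inl i))) 0) 0)
  have a1 : P ∘ₗ P = P := c.ext (by rintro ((i | i) | i) <;> simp only [P, _root_.LinearMap.coe_comp, _root_.Function.comp_apply, _root_.Module.Basis.constr_apply_fintype, _root_.Module.Basis.equivFun_self, _root_.ite_smul, _root_.one_smul, _root_.zero_smul, _root_.Finset.sum_ite_eq, _root_.Finset.mem_univ, ↓ _root_.reduceIte, _root_.Sum.elim_inl, _root_.Sum.elim_inr, _root_.Pi.zero_apply, _root_.Module.Basis.equivFun_apply, _root_.map_zero, _root_.Finsupp.coe_zero, _root_.Finset.sum_const_zero])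
  have a2 : B.compLeft P + B.compRight P = B := LinearMap.ext_basis c c (by
    have c5 : ∀ j v, B v (c (.inr j)) = 0 := fun j v => by rw [← hB.neg_eq, c4, neg_zero]
    rintro ((i | i) | i) ((j | j) | j) <;> simp only [P, c2, c3, c4, c5, _root_.LinearMap.add_apply, _root_.LinearMap.BilinForm.compLeft_apply, _root_.Module.Basis.constr_apply_fintype, _root_.Module.Basis.equivFun_self, _root_.ite_smul, _root_.one_smul, _root_.zero_smul, _root_.Finset.sum_ite_eq, _root_.Finset.mem_univ, ↓ _root_.reduceIte, _root_.Sum.elim_inl, _root_.LinearMap.BilinForm.compRight_apply, _root_.add_zero, _root_.Sum.elim_inr, _root_.Pi.zero_apply, _root_.map_zero, _root_.LinearMap.zero_apply, _root_.zero_add])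
  exact eps_of f P (LinearMap.congr_fun a1) (LinearMap.congr_fun₂ a2)

variable (o : SO h F s κ) (hσ : f.σ ≠ RingHom.id E)
include o hσ

theorem exists_herm : ∃ (g : HF E V) (δ : E), δ ≠ 0 ∧ g.ε = 1 ∧ g.τ = f.σ ∧ ∀ x y, g.b x y = δ * f.β x y := by
  obtain ⟨θ, hθ⟩ := ClassicalGeometry.InvolutiveNorm.exists_sigma_ne hσ
  obtain ⟨u, u0, hu⟩ : ∃ u : E, u ≠ 0 ∧ f.σ u = algebraMap K E s * u := by
    rcases o.alt with e | e <;> rw [e.1]
    · exact ⟨_, sub_ne_zero.2 hθ, by rw [map_sub, f.σ_σ, map_neg, map_one]; ring⟩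
    · exact ⟨1, one_ne_zero, by simp⟩
  exact ⟨⟨f.σ, 1, fun x y => u * f.β x y, fun _ _ _ => by rw [f.β_add_left, mul_add],
    fun _ _ _ => by rw [f.β_smul_left, mul_left_comm], fun x y => by rw [f.β_swap o, map_mul, hu]; ring, f.σ_σ,
    fun v hv => f.β_ext fun y => by rw [(mul_eq_zero.1 (hv y)).resolve_left u0, f.β_zero_right]⟩, u, u0, rfl, rfl,
    fun _ _ => rfl⟩

/-- hermitian forms of even dimension -/
theorem eps_herm {m : ℕ} (hm : finrank E V = m + m) :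
    ∃ ε : h.EB, ε * ε = ε ∧ ε + star ε = 1 ∧ ∀ (z : E) v, h.ap ε (z • v) = z • h.ap ε v := by
  have : Module.Finite E V := Module.Finite.of_finite
  obtain ⟨g, δ, δ0, g1, g2, g3⟩ := exists_herm f o hσ
  obtain ⟨e, he⟩ := herm_coord g g1 (g2 ▸ hσ) (I := Fin m ⊕ Fin m) (by simp only [hm, _root_.Fintype.card_sum, _root_.Fintype.card_fin, _root_.Nat.add_left_cancel_iff])
  obtain ⟨a, ha⟩ := ClassicalGeometry.InvolutiveNorm.exists_add_sigma_eq hσ f.σ_σ (map_one f.σ)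
  obtain ⟨b, hb⟩ := ClassicalGeometry.InvolutiveNorm.exists_mul_sigma_eq hσ f.σ_σ (a := -(a * f.σ a)) (by
    rw [map_neg, map_mul, f.σ_σ, mul_comm])
  let P : (Fin m ⊕ Fin m → E) →ₗ[E] (Fin m ⊕ Fin m → E) :=
    { toFun := fun x => Sum.elim (fun i => a * x (.inl i) + b * x (.inr i)) fun i => f.σ a * x (.inr i) - f.σ b * x (.inl i)
      map_add' := fun x y => funext (by rintro (i | i) <;> simp only [_root_.Pi.add_apply, _root_.Sum.elim_inl, _root_.Sum.elim_inr] <;> ring)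
      map_smul' := fun c x => funext (by rintro (i | i) <;> simp only [_root_.Pi.smul_apply, _root_.smul_eq_mul, _root_.Sum.elim_inl, _root_.RingHom.id_apply, _root_.Sum.elim_inr] <;> ring) }
  have p1 : ∀ x i, P x (.inl i) = a * x (.inl i) + b * x (.inr i) := fun _ _ => rfl
  have p2 : ∀ x i, P x (.inr i) = f.σ a * x (.inr i) - f.σ b * x (.inl i) := fun _ _ => rfl
  refine eps_of f (e.toLinearMap ∘ₗ P ∘ₗ e.symm.toLinearMap) (fun x => ?_) fun x y => mul_left_cancel₀ δ0 ?_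
  · change e (P (e.symm (e (P (e.symm x))))) = e (P (e.symm x))
    rw [e.symm_apply_apply]
    refine congrArg e (funext ?_)
    rintro (i | i)
    · rw [p1, p1, p2]
      linear_combination (a * e.symm x (.inl i) + b * e.symm x (.inr i)) * ha - e.symm x (.inl i) * hb
    · rw [p2, p1, p2]
      linear_combination (f.σ a * e.symm x (.inr i) - f.σ b * e.symm x (.inl i)) * ha - e.symm x (.inr i) * hb
  obtain ⟨x, rfl⟩ := e.surjective x
  obtain ⟨y, rfl⟩ := e.surjective y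
  change δ * (f.β (e (P (e.symm (e x)))) (e y) + f.β (e x) (e (P (e.symm (e y))))) = _
  rw [e.symm_apply_apply, e.symm_apply_apply, mul_add, ← g3, ← g3, ← g3, he, he, he, g2, Fintype.sum_sum_type,
    Fintype.sum_sum_type, Fintype.sum_sum_type, ← Finset.sum_add_distrib, ← Finset.sum_add_distrib,
    ← Finset.sum_add_distrib, ← Finset.sum_add_distrib]
  refine Finset.sum_congr rfl fun i _ => ?_
  simp only [p1, p2, map_add, map_sub, map_mul, f.σ_σ]
  linear_combination (x (.inl i) * f.σ (y (.inl i)) + x (.inr i) * f.σ (y (.inr i))) * ha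

/-- **the Singer cycle of a unitary group of odd dimension** -/
theorem exists_sing (hE : finrank K E = 2) (hk : Odd (finrank E V)) :
    ∃ (L : Type) (_ : Field L) (_ : Finite L) (_ : Algebra E L) (_ : Algebra K L) (_ : IsScalarTower K E L)
      (m : MC h L), finrank K L = finrank K V ∧ (∀ x, m.ρ x = x ^ Fintype.card K ^ finrank E V) ∧
      ∀ z : E, m.j (algebraMap E L z) = f.ι z := by
  have : Module.Finite E V := Module.Finite.of_finite
  obtain ⟨L, _, _, _, hL⟩ := exists_ext E hk.pos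
  let : Algebra K L := ((algebraMap E L).comp (algebraMap K E)).toAlgebra
  have : IsScalarTower K E L := IsScalarTower.of_algebraMap_eq fun _ => rfl
  have : Module.Finite E L := Module.Finite.of_finite
  have a1 : finrank K L = 2 * finrank E V := by rw [← finrank_mul_finrank K E L, hL, hE]
  let ρ := FiniteField.frobeniusAlgEquivOfAlgebraic K L ^ finrank E V
  have a2 : ∀ x, ρ (ρ x) = x := fun x => by
    rw [← AlgEquiv.mul_apply, ← pow_add, ← two_mul, ← a1, ← FiniteField.orderOf_frobeniusAlgEquivOfAlgebraic,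
      pow_orderOf_eq_one, AlgEquiv.one_apply]
  let σ : E ≃ₐ[K] E := { RingEquiv.ofRingHom f.σ f.σ (RingHom.ext f.σ_σ) (RingHom.ext f.σ_σ) with commutes' := f.σ_alg o }
  have a3 : σ = FiniteField.frobeniusAlgEquivOfAlgebraic K E ^ finrank E V := by
    obtain ⟨⟨n, hn⟩, e⟩ := (FiniteField.bijective_frobeniusAlgEquivOfAlgebraic_pow K E).2 σ
    obtain ⟨i, hi⟩ := hk
    rw [hi, pow_succ, pow_mul, ← hE, ← FiniteField.orderOf_frobeniusAlgEquivOfAlgebraic, pow_orderOf_eq_one, one_pow,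
      one_mul, ← e]
    obtain rfl | rfl : n = 0 ∨ n = 1 := by omega
    · exact absurd (RingHom.ext fun z => (AlgEquiv.congr_fun e z).symm) hσ
    · exact pow_one _
  have a4 : ∀ z, ρ (algebraMap E L z) = algebraMap E L (f.σ z) := fun z => by
    rw [show f.σ z = σ z from rfl, a3, frob_pow, frob_pow, map_pow]
  have a5 : ∀ x, Algebra.trace E L (ρ x) = f.σ (Algebra.trace E L x) := fun x => by
    rw [Algebra.trace_eq_of_equiv_equiv σ.toRingEquiv ρ.toRingEquiv (RingHom.ext fun z => (a4 z).symm) x]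
    exact (σ.apply_symm_apply _).symm
  let g' : HF E L := ⟨f.σ, 1, fun x y => Algebra.trace E L (x * ρ y), fun _ _ _ => by rw [add_mul, map_add],
    fun _ _ _ => by rw [smul_mul_assoc, map_smul, smul_eq_mul], fun x y => by
      rw [one_mul, ← a5, map_mul ρ, a2, mul_comm], f.σ_σ, fun v hv => by
      rw [← a2 v, (traceForm_nondegenerate E L).2 (ρ v) hv, map_zero]⟩
  obtain ⟨g, δ, δ0, g1, g2, g3⟩ := exists_herm f o hσ
  obtain ⟨e, he⟩ := herm_coord g g1 (g2 ▸ hσ) (Fintype.card_fin _)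
  obtain ⟨e', he'⟩ := herm_coord g' rfl hσ ((Fintype.card_fin _).trans hL.symm)
  obtain ⟨φ, hφ⟩ : ∃ φ : L ≃ₗ[E] V, ∀ x y, δ * f.β (φ x) (φ y) = Algebra.trace E L (x * ρ y) :=
    ⟨e'.symm.trans e, fun x y => by
      obtain ⟨x, rfl⟩ := e'.surjective x
      obtain ⟨y, rfl⟩ := e'.surjective y
      rw [LinearEquiv.trans_apply, LinearEquiv.trans_apply, e'.symm_apply_apply, e'.symm_apply_apply, ← g3, he, g2]
      exact (he' x y).symm⟩
  let j : L →+* h.EB :=
    { toFun := fun x => h.eb ((φ.toLinearMap ∘ₗ LinearMap.mulLeft E x ∘ₗ φ.symm.toLinearMap).restrictScalars K)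
      map_one' := h.ap_ext fun v => by simp [h.ap_eb, h.ap_one]
      map_mul' := fun x y => h.ap_ext fun v => by simp only [h.ap_eb, h.ap_mul, mul_assoc, _root_.LinearMap.mulLeft_mul, _root_.LinearMap.restrictScalars_comp, _root_.LinearMap.coe_comp, _root_.LinearMap.coe_restrictScalars, _root_.LinearEquiv.coe_coe, _root_.Function.comp_apply, _root_.LinearMap.mulLeft_apply, _root_.LinearEquiv.symm_apply_apply]
      map_zero' := h.ap_ext fun v => by simp [h.ap_eb, SB.Tor.ap_zero]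
      map_add' := fun x y => h.ap_ext fun v => by simp only [h.ap_eb, h.ap_add, add_mul, _root_.LinearMap.restrictScalars_comp, _root_.LinearMap.coe_comp, _root_.LinearMap.coe_restrictScalars, _root_.LinearEquiv.coe_coe, _root_.Function.comp_apply, _root_.LinearMap.mulLeft_apply, _root_.add_mul, _root_.map_add] }
  have b1 : ∀ x y, h.ap (j x) (φ y) = φ (x * y) := fun x y => congrArg (fun w => φ (x * w)) (φ.symm_apply_apply y)
  have b2 : ∀ z : E, j (algebraMap E L z) = f.ι z := fun z => h.ap_ext fun v => by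
    obtain ⟨y, rfl⟩ := φ.surjective v
    rw [b1, ← Algebra.smul_def, map_smul, f.ap_ι]
  have : Nontrivial h.EB := h.ss.nontrivial
  refine ⟨L, inferInstance, inferInstance, inferInstance, inferInstance, inferInstance,
    ⟨j, ρ, fun x => h.ap_ext fun v => h.ext_right fun u => ?_, fun c v => ?_, j.injective, fun a ha => ?_⟩,
    by rw [a1, ← hE, finrank_mul_finrank], frob_pow _, b2⟩
  · obtain ⟨y, rfl⟩ := φ.surjective v
    obtain ⟨w, rfl⟩ := φ.surjective u
    rw [h.b_star, b1, b1, f.b_eq, f.b_eq]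
    refine congrArg _ (mul_left_cancel₀ δ0 ?_)
    rw [hφ, hφ, RingHom.coe_coe, map_mul ρ, a2, mul_comm x, mul_assoc]
  · exact ((congrArg (h.ap · v) (b2 (algebraMap K E c))).trans (f.ap_ι _ _)).trans (algebraMap_smul E c v)
  · refine ⟨φ.symm (h.ap a (φ 1)), h.ap_ext fun v => ?_⟩
    obtain ⟨y, rfl⟩ := φ.surjective v
    rw [b1, mul_comm, ← b1, φ.apply_symm_apply, ← h.ap_mul, ha, h.ap_mul, b1, mul_one]

end fe

end Cfsg.Agent.N2C.FldSp
end

-- part: N2/Cl/Fld/Tor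
section
/-!
# N2 (S3519), class C3 of the orthogonal groups: the tori `q ^ k - 1` and `q ^ k + 1` (helper95)

`hE`, `up`, `fE` : the form ring over the extension field; `split`, `sing` : the two tori.
-/

set_option autoImplicit false
set_option linter.unusedSectionVars false

namespace Cfsg.Agent.N2C.Fld

open Cfsg.Agent.DS.Cl Cfsg.Agent.DS.Cl.Fwd Cfsg.Agent.SB.Cl Cfsg.Agent.N2C.Cyc Module
open Cfsg.Agent.TH.Cl (KO)
open Cfsg.Agent.TH.Cl.FSO (SO FE l_add)
open Cfsg.Agent.H689 (Ppd)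

theorem num2 {q k i r c : ℕ} (hq : 2 ≤ q) (hk : 4 ≤ k) (hi : 2 * i ≤ k) (hr : r = 2 ∨ (r.Prime ∧ r ∣ k)) (c0 : 0 < c)
    (hc : c ≤ q ^ i + 1) : ¬ q ^ k - 1 ∣ 2 * r * c := fun h => by
  by_cases h2 : q = 2
  · subst h2
    refine FldSp.num hq (by omega) hi hr c0 hc (Nat.Coprime.dvd_of_dvd_mul_left ?_ (mul_assoc 2 r c ▸ h))
    exact Nat.coprime_two_right.2 (Nat.Even.sub_odd (Nat.one_le_pow _ _ two_pos) (even_two.pow_of_ne_zero (by omega)) odd_one)
  have r0 : 0 < r := hr.elim (fun e => by omega) fun e => e.1.pos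
  have r1 : r ≤ k := hr.elim (fun e => by omega) fun e => Nat.le_of_dvd (by omega) e.2
  have h1 := (Nat.le_of_dvd (by positivity) h).trans (Nat.mul_le_mul_left _ hc)
  obtain ⟨j, rfl⟩ := Nat.exists_eq_add_of_le (show i ≤ k by omega)
  have h3 : 3 ^ j ≤ q ^ j := Nat.pow_le_pow_left (by omega) j
  have h4 : 3 ^ i ≤ q ^ i := Nat.pow_le_pow_left (by omega) i
  rw [pow_add] at h1
  by_cases h5 : j = 2
  · obtain rfl : i = 2 := by omega
    obtain rfl : r = 2 := hr.elim id fun e =>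
      (Nat.prime_dvd_prime_iff_eq e.1 Nat.prime_two).1 (e.1.dvd_of_dvd_pow (show r ∣ 2 ^ 2 by simpa [h5] using e.2))
    have := Nat.mul_le_mul_left (q ^ 2) h3
    rw [h5] at this h1
    omega
  have h6 : ∀ j, 3 ≤ j → 8 * j + 2 ≤ 3 ^ j := fun j hj => by
    induction j, hj using Nat.le_induction with
    | base => norm_num
    | succ j _ ih => rw [pow_succ]; omega
  have h7 := Nat.mul_le_mul_left (q ^ i) (show 4 * r + 2 ≤ q ^ j from le_trans (by omega) ((h6 j (by omega)).trans h3))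
  have h8 : 1 ≤ q ^ i := Nat.one_le_pow _ _ (by omega)
  have h9 := Nat.mul_le_mul_left r h8
  generalize q ^ i = a at *
  have : a * (4 * r + 2) = 4 * (r * a) + 2 * a := by ring
  have : 2 * r * (a + 1) = 2 * (r * a) + 2 * r := by ring
  omega

theorem split_gen2 {K L : Type} [Field K] [Fintype K] [Field L] [Finite L] [Algebra K L] {r : ℕ} (hk : 4 ≤ finrank K L)
    (hr : r = 2 ∨ (r.Prime ∧ r ∣ finrank K L)) :
    ∃ g : L, g ≠ 0 ∧ Algebra.adjoin K {((g, g⁻¹) : L × L) ^ (2 * r)} = ⊤ := by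
  obtain ⟨g, g0, hg⟩ := FldSp.exists_gen (K := K) (L := L)
  have hq : 2 ≤ Fintype.card K := Fintype.one_lt_card
  refine ⟨g, g0, ?_⟩
  rw [Prod.pow_mk, inv_pow]
  refine FldSp.adjoin_pair (FldSp.eq_one_of (pow_ne_zero _ g0) fun i i0 hi e => ?_) fun θ e => ?_
  · rw [← pow_mul, hg] at e
    exact num2 hq hk hi hr (Nat.sub_pos_of_lt (Nat.one_lt_pow i0.ne' hq)) (by omega) e
  have h1 : ∀ θ : L ≃ₐ[K] L, θ (g ^ (2 * r)) = (g ^ (2 * r))⁻¹ → ∀ i, 2 * i ≤ finrank K L →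
      (∀ x, θ x = x ^ Fintype.card K ^ i) → False := fun θ e i hi h1 =>
    num2 hq hk hi hr (Nat.succ_pos _) le_rfl ((hg _).1 (by
      rw [pow_mul, pow_succ, ← h1, e, inv_mul_cancel₀ (pow_ne_zero _ g0)]))
  obtain ⟨i, hi, h2 | h2⟩ := FldSp.gal_half θ
  · exact h1 θ e i hi h2
  · exact h1 θ⁻¹ (θ.symm_apply_eq.2 (by rw [map_inv₀, e, inv_inv])) i hi h2

theorem mem_Iso_of {A : Type} [Ring A] [StarRing A] {F : FR A} {l : A} (hl : F.l - l ∈ F.L) {v : Aˣ}
    (h1 : (v : A) * star (v : A) = 1) (h2 : (v : A) * l * star (v : A) - l ∈ F.L) : v ∈ F.Iso := by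
  refine ⟨h1, ?_⟩
  convert F.L.add_mem (F.L.sub_mem (F.conj_mem hl v) hl) h2 using 1
  noncomm_ring

variable {K V : Type} [Field K] [Fintype K] [AddCommGroup V] [Module K V] [Finite V] {h : HF K V} {F : FR h.EB}
  {Q : QuadraticForm K V} {H : Subgroup (RingAut h.EB)} {p : ℕ}

theorem sq_mem (k : KO h F Q) {v : h.EBˣ} (hv : v ∈ F.Iso) : v * v ∈ I0 F := by
  rw [mem_I0_O k, map_mul]
  exact H875.KB.sq_mem_E k.good ((map_Iso_O k.o).le ⟨v, hv, rfl⟩)

theorem mem_I0_of_odd (k : KO h F Q) {u : h.EBˣ} (hu : u ∈ F.Iso) {s : ℕ} (hs : Odd s) (h1 : u ^ s = 1) : u ∈ I0 F := by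
  obtain ⟨t, rfl⟩ := hs
  have h2 := sq_mem k (pow_mem hu (t + 1))
  rwa [← pow_add, show t + 1 + (t + 1) = 2 * t + 1 + 1 by ring, pow_succ, h1, one_mul] at h2

/-- a pair of totally singular subspaces in a space of plus type -/
theorem eps_plus (o : IsO h F Q) (hP : H955.IsPlus Q) : ∃ ε : h.EB, ε * ε = ε ∧ ε + star ε = 1 ∧ F.l - ε ∈ F.L := by
  have : Module.Finite K V := Module.Finite.of_finite
  obtain ⟨U, hU, hd⟩ := hP
  obtain ⟨U', hc⟩ := U.exists_isCompl
  obtain ⟨e, e1, e2⟩ : ∃ e : h.EB, (∀ v, h.ap e v ∈ U) ∧ ∀ v ∈ U, h.ap e v = v :=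
    ⟨h.eb (U.subtype ∘ₗ U.projectionOnto U' hc), fun v => (U.projectionOnto U' hc v).2, fun v hv =>
      congrArg Subtype.val (Submodule.projectionOnto_apply_left hc ⟨v, hv⟩)⟩
  have a1 : ∀ u ∈ U, ∀ v ∈ U, h.b u v = 0 := fun u hu v hv => by
    have := SB.Tor.O_add o u v
    rwa [hU _ (add_mem hu hv), hU u hu, hU v hv, add_zero, zero_add, eq_comm] at this
  have a2 : U = LinearMap.BilinForm.orthogonal (QuadraticMap.polarBilin Q) U := by
    refine Submodule.eq_of_le_of_finrank_le (fun v hv u hu => (o.2.1 u v).symm.trans (a1 u hu v hv)) ?_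
    have a2 := LinearMap.BilinForm.finrank_add_finrank_orthogonal' (B := QuadraticMap.polarBilin Q) U
    rw [show LinearMap.ker (QuadraticMap.polarBilin Q) = ⊥ from eq_bot_iff.2 fun x hx =>
      nondeg_of_O o x (LinearMap.congr_fun hx), inf_bot_eq, finrank_bot] at a2
    omega
  have a3 : e * star (1 - e) = star (1 - e) := h.ap_ext fun v => e2 _ (a2.ge fun u hu => (o.2.1 _ _).symm.trans
    ((h.b_star _ u v).trans (by rw [h.ap_sub, e2 u hu, h.ap_one, sub_self, h.zero_left])))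
  have a4 : e * e = e := h.ap_ext fun v => e2 _ (e1 v)
  have a5 : star e * e = 0 := h.ap_ext fun v => h.ext_right fun u => by
    rw [h.ap_mul, h.b_star, a1 _ (e1 _) _ (e1 _)]; exact (h.zero_right u).symm
  have a6 : (1 - e) * e = 0 := by rw [sub_mul, a4, one_mul, sub_self]
  have a7 : (1 - e) * star (1 - e) = 0 := by rw [sub_mul, a3, one_mul, sub_self]
  refine ⟨e + star (1 - e) * F.l * (1 - e), ?_, ?_, (SB.Tor.mem_L_O o _).2 fun v => ?_⟩
  · rw [add_mul, mul_add, mul_add, a4, mul_assoc _ _ e, a6, mul_assoc _ (1 - e), ← mul_assoc (1 - e), ← mul_assoc (1 - e), a7,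
      ← mul_assoc e, ← mul_assoc e, a3]
    simp only [_root_.star_sub, _root_.star_one, _root_.MulZeroClass.mul_zero, _root_.MulZeroClass.zero_mul, _root_.add_zero]
  · rw [star_add, star_mul, star_mul, star_star, add_add_add_comm, ← mul_assoc, ← add_mul, ← mul_add, F.l_add, mul_one,
      star_sub, star_one, sub_mul, mul_sub (star e), a5]
    noncomm_ring
  · have b1 := SB.Tor.O_add o (h.ap e v) (h.ap (1 - e) v)
    rw [← h.ap_add, add_sub_cancel, h.ap_one, hU _ (e1 v)] at b1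
    rw [h.ap_sub, h.ap_add, h.sub_right, h.add_right, h.ap_mul, h.ap_mul, h.b_star, o.2.2.2, o.2.2.2, b1, h.ap_sub 1,
      h.sub_right, a1 _ (e1 v) _ (e1 v), h.ap_one, SB.Tor.O_symm o v]
    ring

variable [Nontrivial V]

/-- **the split torus** -/
theorem split (k : KO h F Q) {E : Type} [Field E] [Finite E] [Algebra K E] [Module E V] [IsScalarTower K E V] {ε : h.EB}
    (h1 : ε * ε = ε) (h2 : ε + star ε = 1) (hL : F.l - ε ∈ F.L) (h3 : ∀ (z : E) v, h.ap ε (z • v) = z • h.ap ε v) {r : ℕ}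
    (hr : r = 2 ∨ (r.Prime ∧ r = finrank K E)) : ∃ u ∈ I0 F, ∃ R : Subring h.EB, TR R ∧
      (∀ x, (u : h.EB) ^ r * x = x * (u : h.EB) ^ r → x ∈ R) ∧ (u : h.EB) ∈ R ∧
        ∀ z : E, ∃ y ∈ R, ∀ v, h.ap y v = z • h.ap ε v := by
  obtain ⟨L, _, _, _, _, _, m, a1, a2, a3⟩ := FldSp.exists_split (E := E) k.o.1 h1 h2 h3
  obtain ⟨g, g0, hg⟩ := split_gen2 (K := K) (L := L) (r := r) (by have := k.dim; omega)
    (hr.imp_right fun e => ⟨e.1, e.2 ▸ Dvd.intro _ (finrank_mul_finrank K E L)⟩)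
  have b1 := m.uni (g := (g, g⁻¹)) (by rw [a2, Prod.mk_mul_mk, mul_inv_cancel₀ g0, inv_mul_cancel₀ g0]; rfl)
  have b2 : ε = m.j (1, 0) := h.ap_ext fun v => by rw [← map_one (algebraMap E L), a3, one_smul]
  have b3 : ∀ x y : L, x ≠ 0 → y ≠ 0 → IsUnit (m.j (x, y)) := fun x y hx hy =>
    (Prod.isUnit_iff.2 ⟨IsUnit.mk0 x hx, IsUnit.mk0 y hy⟩).map m.j
  refine ⟨_, sq_mem k (mem_Iso_of hL (v := mkU _ b1) b1 ?_), m.j.range, ⟨?_, ?_, ?_, ?_⟩, fun x hx => m.mem hg ?_,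
    ⟨_, map_mul _ _ _⟩, fun z => ⟨_, ⟨_, rfl⟩, a3 z⟩⟩
  · rw [mkU_val, b2, ← map_mul, mul_comm, map_mul, mul_assoc, b1, mul_one, sub_self]
    exact zero_mem _
  · rintro _ ⟨x, rfl⟩ _ ⟨y, rfl⟩
    rw [← map_mul, ← map_mul, mul_comm]
  · rintro _ ⟨x, rfl⟩
    exact ⟨_, (m.star_j x).symm⟩
  · rintro _ ⟨⟨x, y⟩, rfl⟩ e e0
    rw [m.star_j, a2] at e
    obtain rfl : y = x := congrArg Prod.fst (m.inj e)
    have : y ≠ 0 := by rintro rfl; exact e0 (map_zero _)
    exact b3 _ _ this this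
  · rintro _ ⟨⟨x, y⟩, rfl⟩ e e0
    rw [m.star_j, a2, ← map_neg] at e
    obtain rfl : y = -x := congrArg Prod.fst (m.inj e)
    have : x ≠ 0 := by rintro rfl; exact e0 (by rw [neg_zero]; exact map_zero _)
    exact b3 _ _ this (neg_ne_zero.2 this)
  · rwa [map_pow, pow_mul, pow_two]

theorem gd_pair (k : KO h F Q) (c : Ctx F H p) {ε : h.EB} (P : Pair F H ε) : Gd F H := by
  obtain ⟨u, hu, R, a1, a2, a3, a4⟩ := split k (E := K) P.idem P.add P.L (fun z v => map_smul _ z v) (Or.inl rfl)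
  obtain ⟨y, hy, e⟩ := a4 1
  obtain rfl : y = ε := h.ap_ext fun v => by rw [e, one_smul]
  exact P.gd c hu (a1.comm _ a3 _ hy) a1 a2

/-- irreducible isometries -/
theorem tr_of_irr {w : h.EB} (hw : w * star w = 1) (hi : IrrV (h.ap w)) : TR (Subring.centralizer {w}) := by
  have h1 : ∀ x, x ∈ Subring.centralizer {w} ↔ x * w = w * x := fun x =>
    ⟨fun hx => (hx w rfl).symm, by rintro hx _ rfl; exact hx.symm⟩
  have : Module.Finite K V := Module.Finite.of_finite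
  exact ⟨fun x hx y hy => (cycV_of_irr hi).comm ((h1 x).1 hx) ((h1 y).1 hy),
    fun x hx => (h1 _).2 (star_comm hw (mul_eq_one_comm.1 hw) ((h1 x).1 hx)),
    fun x hx _ h0 => hi.isUnit ((h1 x).1 hx) h0, fun x hx _ h0 => hi.isUnit ((h1 x).1 hx) h0⟩

variable {E : Type} [Field E] [Fintype E] [DecidableEq E] [Algebra K E] [Module E V] [IsScalarTower K E V] {f : FE h E}
  {l : h.EB}

theorem gd_split (k : KO h F Q) (c : Ctx F H p) (d : Dat f F H l) {ε : h.EB} (h1 : ε * ε = ε) (h2 : ε + star ε = 1)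
    (hL : F.l - ε ∈ F.L) (h3 : ε ∈ f.C) : Gd F H := by
  obtain ⟨u, hu, R, a1, a2, a3, a4⟩ := split k (E := E) h1 h2 hL (f.lin h3) (Or.inr ⟨d.prime, rfl⟩)
  refine d.gd (TH.Cl.FSO.KO.so k) c hu (f.mem_C.2 fun z => a1.comm _ ?_ _ a3) a1 a2
  have a5 : ∀ z, f.ι z * ε ∈ R := fun z => by
    obtain ⟨y, hy, e⟩ := a4 z
    rwa [show y = f.ι z * ε from h.ap_ext fun v => by rw [e, h.ap_mul, f.ap_ι]] at hy
  have a6 := add_mem (a5 z) (a1.star_mem _ (a5 (f.σ z)))
  rwa [star_mul, f.star_ι, f.σ_σ, ← f.mem_C.1 (f.star_mem h3), ← mul_add, h2, mul_one] at a6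

/-- **the Singer cycle** -/
theorem gd_sing (k : KO h F Q) (c : Ctx F H p) (d : Dat f F H l) {u : h.EBˣ} (hu : u ∈ F.Iso) (hC : (u : h.EB) ∈ f.C)
    {s : ℕ} (hs : Ppd (Nat.card K) (finrank K V) s) (h1 : orderOf u = s) : Gd F H := by
  have h7 := k.dim
  have a1 : u ^ s = 1 := h1 ▸ pow_orderOf_eq_one u
  have a2 : u ^ finrank K E ≠ 1 := fun e => by
    have a2 := Nat.le_of_dvd d.prime.pos (h1 ▸ orderOf_dvd_of_pow_eq_one e)
    have a3 := Nat.le_of_dvd (by omega) (Dvd.intro _ (finrank_mul_finrank K E V))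
    have a4 := hs.le (by omega)
    omega
  refine d.gd (TH.Cl.FSO.KO.so k) c (mem_I0_of_odd k hu (hs.prime.odd_of_ne_two (hs.two_lt (by omega)).ne') a1) hC
    (tr_of_irr (pow_mem hu (finrank K E)).1 fun W hW => H62.PCGeo.irr (g := unE h (u ^ finrank K E)) hs
      (by rw [← map_pow, pow_right_comm, a1, one_pow, map_one]) (fun e => a2 ((unE h).map_eq_one_iff.1 e)) hW) ?_
  rintro x hx _ rfl
  exact hx

/-! ### the form ring over the extension field -/

variable (f) (o : SO h F 1 1)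

/-- the form with values in `E` -/
def hE : HF E V := ⟨f.σ, 1, f.β, f.β_add_left, f.β_smul_left, fun u v => by rw [f.β_swap o, map_one], f.σ_σ,
  fun _ hv => f.β_ext fun y => by rw [hv, f.β_zero_right]⟩

/-- restriction of scalars -/
def up : (hE f o).EB →+* h.EB where
  toFun a := h.eb (((hE f o).ap a).restrictScalars K)
  map_one' := rfl
  map_mul' _ _ := rfl
  map_zero' := rfl
  map_add' _ _ := rfl

variable {f o}

theorem ap_up (a : (hE f o).EB) (v : V) : h.ap (up f o a) v = (hE f o).ap a v := rfl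

theorem up_inj : Function.Injective (up f o) := fun _ _ e => (hE f o).ap_ext fun v => congrArg (h.ap · v) e

theorem up_star (a : (hE f o).EB) : up f o (star a) = star (up f o a) := h.ap_ext fun y => h.ext_right fun u => by
  rw [h.b_star, f.b_eq, f.b_eq]
  exact congrArg _ ((hE f o).b_star a u y)

theorem up_mem (a : (hE f o).EB) : up f o a ∈ f.C := f.mem_C.2 fun z => h.ap_ext fun v => by
  rw [h.ap_mul, h.ap_mul, f.ap_ι, f.ap_ι, ap_up, ap_up, map_smul]

theorem exists_up {c : h.EB} (hc : c ∈ f.C) : ∃ a, up f o a = c :=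
  ⟨(hE f o).eb { toFun := h.ap c, map_add' := map_add _, map_smul' := f.lin hc }, rfl⟩

theorem up_Lmin {a : (hE f o).EB} (ha : a ∈ Lmin (hE f o).EB) : up f o a ∈ F.L := by
  obtain ⟨b, rfl⟩ := ha
  rw [map_sub, up_star]
  exact F.sub_star_mem _

variable (o) in
/-- the form structure over `E` -/
noncomputable def fE (d : Dat f F H l) : FR (hE f o).EB where
  l := (exists_up (o := o) d.mem).choose
  L := Lmin _
  l_add := up_inj (by rw [map_add, up_star, (exists_up (o := o) d.mem).choose_spec, l_add d.L, map_one])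
  par := Or.inl rfl

theorem up_l (d : Dat f F H l) : up f o (fE o d).l = l := (exists_up (o := o) d.mem).choose_spec

theorem up_Iso (d : Dat f F H l) {u : (hE f o).EBˣ} (hu : u ∈ (fE o d).Iso) : Units.map (up f o : _ →* _) u ∈ F.Iso := by
  refine mem_Iso_of d.L ?_ ?_
  · change up f o u * star (up f o u) = 1
    rw [← up_star, ← map_mul, hu.1, map_one]
  · have h1 := up_Lmin hu.2
    rwa [map_sub, map_mul, map_mul, up_star, up_l] at h1

theorem exists_ord (d : Dat f F H l) {s : ℕ} (hs : s.Prime) (h1 : s ∣ Nat.card (fE o d).Iso) :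
    ∃ u ∈ F.Iso, (u : h.EB) ∈ f.C ∧ orderOf u = s := by
  have : Fact s.Prime := ⟨hs⟩
  obtain ⟨u, hu⟩ := exists_prime_orderOf_dvd_card' s h1
  exact ⟨_, up_Iso d u.2, up_mem _, (orderOf_injective (Units.map (up f o : (hE f o).EB →* h.EB))
    (Units.map_injective up_inj) _).trans ((Subgroup.orderOf_coe u).trans hu)⟩

theorem exists_QE (d : Dat f F H l) (hσ : ∀ θ, f.σ θ = θ) : ∃ Q' : QuadraticForm E V, IsO (hE f o) (fE o d) Q' := by
  let B : V →ₗ[E] V →ₗ[E] E := LinearMap.mk₂ E (fun x y => f.β x (h.ap l y)) (fun _ _ _ => f.β_add_left _ _ _)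
    (fun _ _ _ => f.β_smul_left _ _ _) (fun _ _ _ => by rw [map_add, f.β_add_right]) fun c u v => by
      rw [f.lin d.mem, f.β_smul_right, hσ, smul_eq_mul]
  refine ⟨LinearMap.BilinMap.toQuadraticMap B, hσ, fun u v => ?_, rfl, fun v => ?_⟩
  · rw [LinearMap.BilinMap.polar_toQuadraticMap]
    change f.β u v = f.β u (h.ap l v) + f.β v (h.ap l u)
    rw [f.β_swap o (h.ap l u), hσ, map_one, one_mul, f.β_l d.mem d.L]
  · rw [← ap_up, up_l]
    rfl

theorem card_E : Fintype.card E = Fintype.card K ^ finrank K E := Module.card_eq_pow_finrank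

/-- unitary groups -/
theorem gd_uni (k : KO h F Q) (c : Ctx F H p) (d : Dat f F H l) (h2 : finrank K E = 2) (hσ : ∃ θ, f.σ θ ≠ θ) : Gd F H := by
  have o := TH.Cl.FSO.KO.so k
  have hU : IsU (hE f o) := ⟨rfl, hσ⟩
  have hL := Size.L_eq_U hU (fE o d)
  have h7 := k.dim
  have hn := finrank_mul_finrank K E V
  obtain ⟨m, hm | hm⟩ := Nat.even_or_odd' (finrank E V)
  · obtain ⟨ε, a1, a2, a3⟩ := FldSp.eps_herm f o (fun e => hσ.elim fun θ hθ => hθ (RingHom.congr_fun e θ))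
      (hm.trans (two_mul m))
    have a4 : ε ∈ f.C := f.mem_C.2 fun z => h.ap_ext fun v => by rw [h.ap_mul, h.ap_mul, f.ap_ι, f.ap_ι, a3]
    obtain ⟨y, hy⟩ := exists_up (o := o) (sub_mem d.mem a4)
    have a5 := up_Lmin (a := y) (hL.2.ge (up_inj (by
      rw [up_star, map_neg, hy, star_sub, eq_sub_of_add_eq' a2, eq_sub_of_add_eq' (l_add d.L)]; abel)))
    have a6 := F.L.add_mem d.L (hy ▸ a5)
    exact gd_split k c d a1 a2 (by rwa [sub_add_sub_cancel] at a6) a4
  rw [h2] at hn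
  obtain ⟨s, hs⟩ := H689.exists_ppd (q := Nat.card K) (k := finrank K V) Finite.one_lt_card (by omega) (by omega)
  obtain ⟨u, a1, a2, a3⟩ := exists_ord (o := o) d hs.prime (by
    rw [← card_map_unE, map_Iso_max hL.1, card_IsoV_U hU (card_E.trans (congrArg _ h2)), oGU, hm, Finset.prod_range_succ,
      if_pos (even_two_mul m), ← hm, ← Nat.card_eq_fintype_card]
    exact ((Ppd.dvd_add_one (hn ▸ hs) (by omega)).mul_left _).mul_left _)
  exact gd_sing k c d a1 a2 hs a3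

/-- orthogonal groups of even dimension over the extension field -/
theorem gd_even (k : KO h F Q) (c : Ctx F H p) (d : Dat f F H l) (hσ : ∀ θ, f.σ θ = θ) {m : ℕ} (hm : finrank E V = 2 * m) :
    Gd F H := by
  have o := TH.Cl.FSO.KO.so k
  obtain ⟨Q', o'⟩ := exists_QE (o := o) d hσ
  have h7 := k.dim
  have hn := finrank_mul_finrank K E V
  by_cases hP : H955.IsPlus Q'
  · obtain ⟨ε, a1, a2, a3⟩ := eps_plus o' hP
    have a6 := F.L.add_mem d.L (up_Lmin a3)
    exact gd_split k c d (by rw [← map_mul, a1]) (by rw [← up_star, ← map_add, a2, map_one])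
      (by rwa [map_sub, up_l, sub_add_sub_cancel] at a6) (up_mem ε)
  rw [hm, mul_left_comm] at hn
  have h0 : m ≠ 0 := by rintro rfl; omega
  obtain ⟨s, hs⟩ := H689.exists_ppd (q := Nat.card K) (k := finrank K V) Finite.one_lt_card (by omega) (by omega)
  obtain ⟨u, a1, a2, a3⟩ := exists_ord (o := o) d hs.prime (by
    rw [card_Iso_O o', card_O_minus (nondeg_of_O o') (by omega) hm hP, oM, card_E (K := K), ← pow_mul _ _ m,
      ← Nat.card_eq_fintype_card]
    exact (((Ppd.dvd_add_one (hn ▸ hs) (by omega)).mul_left _).mul_right _).mul_left _)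
  exact gd_sing k c d a1 a2 hs a3

end Cfsg.Agent.N2C.Fld
end

-- part: N2/Cl/Fld/O
section
/-!
# N2 (S3519), class C3 of the orthogonal groups (helper95)

`N2C.fldO : OnO pFld`.
-/

set_option autoImplicit false
set_option linter.unusedSectionVars false

namespace Cfsg.Agent.N2C.Fld

open Cfsg.Agent.DS.Cl Cfsg.Agent.DS.Cl.Fwd Cfsg.Agent.SB.Cl Cfsg.Agent.N2C.Cyc Module
open Cfsg.Agent.TH.Cl (KO)
open Cfsg.Agent.TH.Cl.FSO (SO FE l_add)
open Cfsg.Agent.H689 (Ppd)
open Cfsg.Agent.LieClassical.OrthCore (O Nondeg)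

theorem tri (n : ℕ) : 2 * (n * (n - 1) / 2) + n = n * n := by
  induction n with
  | zero => rfl
  | succ n ih => rw [tri_succ]; linarith only [ih]

theorem num3 {q r m A L I : ℕ} (hq : 3 ≤ q) (hr : 2 ≤ r) (hm : 1 ≤ m) (h7 : 7 ≤ r * (2 * m + 1))
    (hA : A ≤ 3 * q ^ (r * (r - 1) / 2) * (q ^ (r * m) + 1)) (hL : L ≤ r * (2 * (q ^ r) ^ (2 * m ^ 2 + m)))
    (hI : 5 * q ^ (r * (2 * m + 1) * (r * (2 * m + 1) - 1) / 2) ≤ 16 * I) : A ^ 3 * L ≤ I := by
  have a1 := tri r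
  have a2 := tri (r * (2 * m + 1))
  generalize r * (r - 1) / 2 = a at *
  generalize r * (2 * m + 1) * (r * (2 * m + 1) - 1) / 2 = N at *
  have a3 : 3 * (a + r * m) + r * (2 * m ^ 2 + m) + (r + 6) ≤ N := by
    rcases hm.eq_or_lt with rfl | hm
    · obtain ⟨t, rfl⟩ := Nat.exists_eq_add_of_le' (show 3 ≤ r by omega)
      linarith only [a1, a2, _root_.mul_self_nonneg (↑t : ℤ), _root_.Nat.cast_nonneg (α := ℤ) (t)]
    · obtain ⟨t, rfl⟩ := Nat.exists_eq_add_of_le' hr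
      obtain ⟨j, rfl⟩ := Nat.exists_eq_add_of_le' (show 2 ≤ m from hm)
      linarith only [a1, a2, Nat.zero_le (t * j), Nat.zero_le (t * t * j), Nat.zero_le (t * j * j), Nat.zero_le (t * t * j * j), _root_.mul_self_nonneg (↑j : ℤ), _root_.mul_self_nonneg (↑t : ℤ), _root_.Nat.cast_nonneg (α := ℤ) (t), _root_.Nat.cast_nonneg (α := ℤ) (j)]
  have a4 : 6912 * r ≤ 5 * q ^ (r + 6) := by
    obtain ⟨t, rfl⟩ := Nat.exists_eq_add_of_le' (show 1 ≤ r by omega)
    have b1 : t + 1 ≤ 3 ^ t := Nat.lt_pow_self (by norm_num)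
    have b2 : 3 ^ (t + 1 + 6) ≤ q ^ (t + 1 + 6) := Nat.pow_le_pow_left hq _
    rw [add_assoc t, pow_add] at b2
    rw [add_assoc t]
    (clear * - b1 b2; omega)
  have a5 : A ≤ 6 * q ^ (a + r * m) := by
    have b1 : 1 ≤ q ^ (r * m) := Nat.one_le_pow _ _ (by omega)
    have b2 := Nat.mul_le_mul_left (3 * q ^ a) (show q ^ (r * m) + 1 ≤ 2 * q ^ (r * m) by omega)
    rw [pow_add]
    linarith only [hA, b2]
  refine Nat.le_of_mul_le_mul_left (le_trans ?_ hI) (by norm_num)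
  calc 16 * (A ^ 3 * L) ≤ 16 * ((6 * q ^ (a + r * m)) ^ 3 * (r * (2 * (q ^ r) ^ (2 * m ^ 2 + m)))) := by gcongr
    _ = 6912 * r * q ^ (3 * (a + r * m) + r * (2 * m ^ 2 + m)) := by ring
    _ ≤ 5 * q ^ (r + 6) * q ^ (3 * (a + r * m) + r * (2 * m ^ 2 + m)) := Nat.mul_le_mul_right _ a4
    _ ≤ 5 * q ^ N := by
      rw [mul_assoc, ← pow_add]
      exact Nat.mul_le_mul_left _ (Nat.pow_le_pow_right (by omega) (by omega))

variable {K V : Type} [Field K] [Fintype K] [AddCommGroup V] [Module K V] [Finite V] {h : HF K V} {F : FR h.EB}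
  {Q : QuadraticForm K V} {H : Subgroup (RingAut h.EB)} {p : ℕ}

theorem card_O_le3 (hQ : Nondeg Q) : Nat.card (O Q) ≤ 3 * Fintype.card K ^ (finrank K V * (finrank K V - 1) / 2) := by
  by_cases h2 : finrank K V = 2
  · have := card_O_two hQ h2
    have := two_le_q K
    rw [h2, show 2 * (2 - 1) / 2 = 1 from rfl, pow_one]
    omega
  · have := card_O_le hQ h2
    omega

/-- **the centraliser of an isometry of primitive prime order** -/
theorem cO_le_ppd (o : IsO h F Q) {u : h.EBˣ} (hu : u ∈ F.Iso) {e r s : ℕ} (hs : Ppd (Nat.card K) e s) (h1 : orderOf u = s)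
    (h3 : 3 ≤ e) (hn : finrank K V = r + e) (hr : r < e) :
    cO F u ≤ 3 * Fintype.card K ^ (r * (r - 1) / 2) * (Fintype.card K ^ (e / 2) + 1) := by
  have : Module.Finite K V := Module.Finite.of_finite
  have : Fact s.Prime := ⟨hs.prime⟩
  have a0 : u ^ s = 1 := h1 ▸ pow_orderOf_eq_one u
  have a1 : (s : K) ≠ 0 := fun e => hs.not_dvd (by
    rw [Nat.card_eq_fintype_card, ← prime_dvd_char_iff_dvd_card]
    exact (((Nat.dvd_prime hs.prime).1 (ringChar.dvd e)).resolve_left CharP.ringChar_ne_one).symm ▸ dvd_rfl)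
  have a2 := (h.unit_iff u).1 hu.1
  obtain ⟨T, hT⟩ : ∃ T : End K V, ∀ v, T v = h.ap u v - v := ⟨h.ap u - 1, fun _ => rfl⟩
  have b1 : ∀ v, v ∈ LinearMap.ker T ↔ h.ap u v = v := fun v => by rw [LinearMap.mem_ker, hT, sub_eq_zero]
  have b2 : ∀ v ∈ LinearMap.range T, h.ap u v = v → v = 0 := by
    rintro _ ⟨x, rfl⟩ hx
    have k1 : ∀ j : ℕ, h.ap (u ^ j : h.EBˣ) x = x + (j : K) • T x := fun j => by
      induction j with
      | zero => rw [pow_zero, Nat.cast_zero, zero_smul, add_zero]; rfl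
      | succ j ih =>
        rw [pow_succ', Units.val_mul, h.ap_mul, ih, map_add, map_smul, hx, Nat.cast_succ, add_smul, one_smul, hT]
        abel
    have k2 := k1 s
    rw [a0, Units.val_one, h.ap_one, left_eq_add] at k2
    exact (smul_eq_zero.1 k2).resolve_left a1
  have b3 := T.finrank_range_add_finrank_ker
  have b4 : LinearMap.ker T ⊔ LinearMap.range T = ⊤ := Submodule.eq_top_of_finrank_eq (by
    have k1 := Submodule.finrank_sup_add_finrank_inf_eq (LinearMap.ker T) (LinearMap.range T)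
    rw [show LinearMap.ker T ⊓ LinearMap.range T = ⊥ from eq_bot_iff.2 fun v hv => b2 v hv.2 ((b1 v).1 hv.1),
      finrank_bot] at k1
    omega)
  have b5 : finrank K (LinearMap.range T) = e := by
    have k1 := H62.PCGeo.dvd_sub_top (g := unE h u) hs (by rw [← map_pow, a0, map_one])
    have k2 := H62.PCGeo.finrank_Fx_lt (g := unE h u) fun e => hs.prime.one_lt.ne' (by
      rw [← h1, (unE h).map_eq_one_iff.1 e, orderOf_one])
    rw [show H62.PCGeo.Fx (unE h u) = LinearMap.ker T from Submodule.ext fun v => (b1 v).symm] at k1 k2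
    obtain ⟨t, ht⟩ := k1
    rcases t with _ | _ | t
    · (clear * - k2 ht; omega)
    · omega
    · rw [mul_add, mul_add] at ht; (clear * - hn hr ht; omega)
  have b6 : ∀ v ∈ LinearMap.range T, (∀ w ∈ LinearMap.range T, h.b w v = 0) → v = 0 := fun v hv H =>
    b2 v hv (h.ext_right fun y => by
      have k1 := H _ ⟨h.ap (u⁻¹ : h.EBˣ) y, rfl⟩
      rw [hT, h.sub_left, SB.Tor.ap_ap_inv, ← a2 (h.ap _ y), SB.Tor.ap_ap_inv, sub_eq_zero] at k1
      exact k1.symm)
  have b7 : ∀ x : h.EB, x * u = u * x → ∀ v, h.ap x (T v) = T (h.ap x v) := fun x hx v => by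
    rw [hT, hT, map_sub, ← h.ap_mul, hx, h.ap_mul]
  have b8 : ∀ x : h.EB, x * u = u * x → ∀ v ∈ LinearMap.range T, h.ap x v ∈ LinearMap.range T := by
    rintro x hx _ ⟨v, rfl⟩
    exact ⟨_, (b7 x hx v).symm⟩
  refine (cO_le_O_mul o b6 b4 (fun x hx v hv => by rw [LinearMap.mem_ker, ← b7 x hx, hv, map_zero]) b8).trans
    (Nat.mul_le_mul ?_ ?_)
  · rw [show r = finrank K (LinearMap.ker T) by omega]
    refine card_O_le3 fun x hx => Subtype.ext (h.nondeg _ fun v => ?_)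
    obtain ⟨y, hy, _, ⟨z, rfl⟩, rfl⟩ := Submodule.mem_sup.1 (b4.ge (Submodule.mem_top (x := v)))
    have k1 : h.b x y = 0 := (o.2.1 _ _).trans (hx ⟨y, hy⟩)
    rw [h.add_left, SB.Tor.O_symm o y, k1, hT, h.sub_left, ← a2 z, (b1 _).1 x.2, sub_self, add_zero]
  have c0 := rs_unit b6 (b8 u rfl) hu.1
  have c1 : ∀ (j : ℕ) (v : LinearMap.range T), ((res h _ b6).ap (mkU _ c0 ^ j : (res h _ b6).EBˣ) v : V) =
      h.ap (u ^ j : h.EBˣ) v := fun j => by
    induction j with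
    | zero => exact fun _ => rfl
    | succ j ih => exact fun v => by rw [pow_succ, pow_succ, Units.val_mul, Units.val_mul, HF.ap_mul, ih]; rfl
  have c2 : mkU _ c0 ^ s = 1 := Units.ext (HF.ap_ext _ fun v => Subtype.ext ((c1 s v).trans (by rw [a0]; rfl)))
  have c3 : mkU _ c0 ≠ 1 := fun k => by
    have k1 : LinearMap.range T = ⊥ := eq_bot_iff.2 fun v hv => b2 v hv (by
      have k1 := c1 1 ⟨v, hv⟩
      rw [k, pow_one, pow_one] at k1
      exact k1.symm)
    rw [k1, finrank_bot] at b5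
    omega
  rw [← b5]
  refine cU_le_irr_bil (h := res h _ b6) o.1 c0 (fun W hW => H62.PCGeo.irr (g := unE _ (mkU _ c0)) (b5.symm ▸ hs)
    (by rw [← map_pow, c2, map_one]) (fun e => c3 ((unE _).map_eq_one_iff.1 e)) hW) fun k => c3 ?_
  obtain ⟨t, ht⟩ := hs.prime.odd_of_ne_two (hs.two_lt h3).ne'
  rwa [ht, pow_succ, pow_mul, pow_two, show mkU _ c0 * mkU _ c0 = 1 from Units.ext k, one_pow, one_mul] at c2

variable [Nontrivial V] {E : Type} [Field E] [Fintype E] [DecidableEq E] [Algebra K E] [Module E V] [IsScalarTower K E V]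
  {f : FE h E} {l : h.EB}

theorem mem_C_of_fix {u : h.EBˣ} (hu : cj h.EB u ∈ DS.Cl.Fix (f.ι.range : Set h.EB)) : (u : h.EB) ∈ f.C :=
  f.mem_C.2 fun z => by rw [← cj_mul_eq u, hu _ ⟨z, rfl⟩]

theorem card_Lf_le (o : SO h F 1 1) (d : Dat f F H l) (hL : (fE o d).L = Lmax _) :
    Nat.card (Lf F H) ≤ finrank K E * Nat.card (fE o d).Iso := by
  have h1 : (Lf F H).map (cj h.EB) = H ⊓ F.S :=
    le_antisymm (by rintro _ ⟨u, hu, rfl⟩; exact ⟨hu.1, u, hu.2, rfl⟩) (by
      rintro _ ⟨k1, u, k2, rfl⟩; exact ⟨u, ⟨k1, k2⟩, rfl⟩)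
  have h2 := d.idx
  rw [← h1, ← Subgroup.relIndex_comap] at h2
  rw [← Subgroup.index_mul_card (((DS.Cl.Fix (f.ι.range : Set h.EB)).comap (cj h.EB)).subgroupOf (Lf F H))]
  refine Nat.mul_le_mul (Nat.le_of_dvd d.prime.pos h2) ?_
  rw [← Subgroup.card_map_of_injective (K := (fE o d).Iso) (f := Units.map (up f o : (hE f o).EB →* h.EB))
    (Units.map_injective up_inj), ← Subgroup.card_map_of_injective (Lf F H).subtype_injective]
  refine Subgroup.card_le_of_le ?_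
  rintro _ ⟨u, hu, rfl⟩
  obtain ⟨a, ha⟩ := exists_up (o := o) (mem_C_of_fix hu)
  have h3 : a * star a = 1 := up_inj (by rw [map_mul, up_star, ha, map_one]; exact (F.comm_le_Iso u.2.2).1)
  exact ⟨mkU a h3, mem_Iso_max hL h3, Units.ext ha⟩

/-- the normaliser of a symmetric field of degree `dim V` -/
theorem one_false (c : Ctx F H p) (d : Dat f F H l) (hσ : ∀ θ, f.σ θ = θ) (hm : finrank E V = 1) : False := by
  have := finAut (A := h.EB)
  have := c.simple
  have : Fact (finrank K E).Prime := ⟨d.prime⟩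
  obtain ⟨v, v0, hv⟩ := finrank_eq_one_iff'.1 hm
  have h1 : (DS.Cl.Fix (f.ι.range : Set h.EB)).subgroupOf (H ⊓ F.S) = ⊥ := eq_bot_iff.2 (by
    rintro ⟨_, k0, u, hu, rfl⟩ k1
    obtain ⟨z, hz⟩ := hv (h.ap u v)
    have k2 : (u : h.EB) = f.ι z := h.ap_ext fun w => by
      obtain ⟨y, rfl⟩ := hv w
      rw [f.lin (mem_C_of_fix k1), ← hz, f.ap_ι, smul_comm]
    have k3 := (F.comm_le_Iso hu).1
    rw [k2, f.star_ι, hσ, ← map_mul, ← map_one f.ι] at k3
    refine Subtype.ext (RingEquiv.ext fun x => cj_eq_of_mul ?_)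
    rcases mul_self_eq_one_iff.1 (f.ι_inj k3) with e | e <;> rw [k2, e] <;> simp only [_root_.map_one, _root_.one_mul, _root_.OneMemClass.coe_one, _root_.RingAut.one_apply, _root_.mul_one, _root_.map_neg, _root_.neg_mul, _root_.mul_neg])
  have h2 := d.idx
  rw [Subgroup.relIndex, h1, Subgroup.index_bot, ← card_sub] at h2
  have h3 := isCyclic_of_card_dvd_prime h2
  refine N2.L2.not_ab c.mi (r := finrank K E) (IsPGroup.of_card_dvd_pow (n := 1) (by rwa [pow_one])) fun x hx y hy => ?_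
  let := IsCyclic.commGroup (α := H.subgroupOf F.S)
  exact congrArg Subtype.val (mul_comm (⟨x, hx⟩ : H.subgroupOf F.S) ⟨y, hy⟩)

/-- orthogonal groups of odd dimension over the extension field -/
theorem gd_odd (k : KO h F Q) (c : Ctx F H p) (d : Dat f F H l) (hσ : ∀ θ, f.σ θ = θ) {m : ℕ}
    (hm : finrank E V = 2 * m + 1) : Gd F H := by
  have h0 : 1 ≤ m := Nat.pos_of_ne_zero fun e => one_false c d hσ (by rw [hm, e])
  have o := TH.Cl.FSO.KO.so k
  obtain ⟨Q', o'⟩ := exists_QE (o := o) d hσ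
  have h7 := k.dim
  have hn := finrank_mul_finrank K E V
  have h2 := two_ne_of_odd (nondeg_of_O o') ⟨m, hm⟩
  have h3 : 3 ≤ Fintype.card K := lt_of_le_of_ne (two_le_q K) fun e => h2 (by
    have k1 := FiniteField.cast_card_eq_zero K
    rw [← e] at k1
    rw [← map_ofNat (algebraMap K E) 2, show (OfNat.ofNat 2 : K) = 0 from k1, map_zero])
  have hL : (fE o d).L = Lmax _ := Lmin_eq_Lmax ((hE f o).smul_mem_center 2⁻¹) (by
    rw [Size.star_scal, Size.scal_add, o'.1, ← two_mul, mul_inv_cancel₀ h2, Size.scal_one])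
  have hr := d.prime.two_le
  have h4 := Nat.mul_le_mul_left (finrank K E) h0
  have h5 : finrank K V = finrank K E + 2 * (finrank K E * m) := by rw [← hn, hm]; ring
  obtain ⟨s, hs⟩ := H689.exists_ppd (q := Nat.card K) (k := 2 * (finrank K E * m)) Finite.one_lt_card (by omega)
    (by rw [Nat.card_eq_fintype_card]; omega)
  have h6 : Nat.card (fE o d).Iso = 2 * oSp m (Fintype.card K ^ finrank K E) := by
    rw [card_Iso_O o', card_O_odd (nondeg_of_O o') hm, card_E (K := K)]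
  obtain ⟨u, a1, a2, a3⟩ := exists_ord (o := o) d hs.prime (by
    obtain ⟨m, rfl⟩ := Nat.exists_eq_add_of_le' h0
    rw [h6, oSp, PP_succ, ← pow_mul _ _ (2 * _), mul_left_comm _ 2 (m + 1), ← Nat.card_eq_fintype_card]
    exact ((((hs.iff _).2 dvd_rfl).mul_left _).mul_left _).mul_left _)
  have a4 := mem_I0_of_odd k a1 (hs.prime.odd_of_ne_two (hs.two_lt (by omega)).ne') (a3 ▸ pow_orderOf_eq_one u)
  have a5 := cO_le_ppd k.o a1 hs a3 (by omega) h5 (by omega)
  rw [Nat.mul_div_cancel_left _ two_pos] at a5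
  refine gd_of_lift a4 (c.mem_of_inv d.inv d.ninv ⟨u, a4, rfl⟩ fun x hx => (cj_eq_of_mul (a2 x hx).symm).symm ▸ hx)
    ((cn_le a4).trans (cI_le_cO F u)) (num3 h3 hr h0 (by rwa [← hm, hn]) a5 ((card_Lf_le o d hL).trans ?_) ?_)
  · rw [h6]
    exact Nat.mul_le_mul_left _ (Nat.mul_le_mul_left _ (oSp_le _ _))
  · have b1 := card_O_ge (nondeg_of_O k.o) h7
    have b2 := card_O_le_I0 k
    rw [← hm, hn]
    omega

end Cfsg.Agent.N2C.Fld

namespace Cfsg.Agent.N2C

open Module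

/-- **[Fld, O]** -/
theorem fldO : OnO pFld := fun K V _ _ _ _ _ h F Q H p k c hF => by
  have : Nontrivial V := Module.nontrivial_of_finrank_pos (R := K) (by have := k.dim; omega)
  rcases Fld.red (TH.Cl.FSO.KO.so k) c hF with ⟨ε, P⟩ | ⟨E, _, _, _, _, _, _, f, l, d⟩
  · exact Fld.gd_pair k c P
  rcases d.kind with ⟨h2, hσ⟩ | hσ
  · exact Fld.gd_uni k c d h2 hσ
  obtain ⟨m, hm | hm⟩ := Nat.even_or_odd' (finrank E V)
  exacts [Fld.gd_even k c d hσ hm, Fld.gd_odd k c d hσ hm]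

end Cfsg.Agent.N2C
end

-- part: N2/Cl/Sub/Defs
section
/-!
# N2 classical, classes C5 and C8 (helper89): the numerical types of a form ring

`Jd u n` one unipotent Jordan block, `To u N` regular element of a torus, `TyLU`, `TySp`, `TyO`, the box `BoxTy`.
-/

set_option autoImplicit false

namespace Cfsg.Agent.N2C.Sub

open Cfsg Cfsg.Agent.DS.Cl Cfsg.Agent.DS.Cl.Fwd Module
open Cfsg.Agent.SB.Cl (IsU IsSp IsO)
open Cfsg.Agent.N2C.Cyc (I0 cA)
open Cfsg.Agent.N2C.Fld (TR)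

section defs

variable {A : Type} [Ring A] [StarRing A]

omit [StarRing A] in
/-- one unipotent Jordan block of size `n` -/
structure Jd (u : A) (n : ℕ) : Prop where
  nil : (u - 1) ^ n = 0
  cen : ∀ x, x * u = u * x → ∃ c ∈ Subring.center A, ∃ y, y * u = u * y ∧ x = c + (u - 1) * y
  ne : ∀ c ∈ Subring.center A, c * (u - 1) ^ (n - 1) = 0 → c = 0

/-- a regular element of a split or anisotropic maximal torus -/
structure To (u : A) (N : ℕ) : Prop where
  tr : TR (Subring.centralizer {u})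
  ne : star u ≠ u
  card : cA u ≤ N

/-- linear or unitary -/
structure TyLU (F : FR A) (n q : ℕ) : Prop where
  c0 : Nat.card (C0 A) = q
  cen : Nat.card (Subring.center A) = q ^ 2
  all : Nat.card A = q ^ (2 * n ^ 2)
  L : Nat.card F.L = q ^ (n ^ 2)
  iso : 2 * Nat.card F.Iso ≤ 3 * Nat.card F.L
  jd : ∃ u ∈ F.Iso, Jd (u : A) n

/-- symplectic -/
structure TySp (F : FR A) (n q : ℕ) : Prop where
  c0 : Nat.card (C0 A) = q
  cen : Nat.card (Subring.center A) = q
  all : Nat.card A = q ^ (n ^ 2)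
  L : Nat.card F.L = q ^ (n + 1).choose 2
  iso : Nat.card F.Iso ≤ Nat.card F.L
  even : Even n
  jd : ∃ u ∈ F.Iso, Jd (u : A) n

/-- orthogonal -/
structure TyO (F : FR A) (n q : ℕ) : Prop where
  c0 : Nat.card (C0 A) = q
  cen : Nat.card (Subring.center A) = q
  all : Nat.card A = q ^ (n ^ 2)
  L : Nat.card F.L = q ^ n.choose 2
  min : F.L = Lmin A
  iso : n ≠ 2 → Nat.card F.Iso ≤ 2 * Nat.card F.L
  jd : Odd n → Odd q ∧ ∃ u ∈ F.Iso, Jd (u : A) n
  tor : Even n → 8 ≤ n ∨ (n = 6 ∧ Odd q) → ∃ u ∈ I0 F, To (u : A) (q ^ n)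

end defs

/-- the types of the four models, and of every form ring -/
structure BoxTy : Prop where
  l : ∀ (K : Type) [Field K] [Fintype K] (n : ℕ) (F : FR (LR (Fin n) K)), 0 < n → TyLU F n (Fintype.card K)
  u : ∀ (K V : Type) [Field K] [Fintype K] [AddCommGroup V] [Module K V] [Finite V] (h : HF K V) (F : FR h.EB) (q : ℕ),
    IsU h → Fintype.card K = q ^ 2 → 0 < finrank K V → TyLU F (finrank K V) q
  sp : ∀ (K V : Type) [Field K] [Fintype K] [AddCommGroup V] [Module K V] [Finite V] (h : HF K V) (F : FR h.EB),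
    IsSp h F → 0 < finrank K V → TySp F (finrank K V) (Fintype.card K)
  o : ∀ (K V : Type) [Field K] [Fintype K] [AddCommGroup V] [Module K V] [Finite V] (h : HF K V) (F : FR h.EB)
    (Q : QuadraticForm K V), IsO h F Q → 0 < finrank K V → TyO F (finrank K V) (Fintype.card K)
  all : ∀ (A : Type) [Ring A] [StarRing A] [Finite A] (F : FR A), SS A →
    ∃ n q, 0 < n ∧ 2 ≤ q ∧ (TyLU F n q ∨ TySp F n q ∨ TyO F n q)

end Cfsg.Agent.N2C.Sub
end

-- part: N2/Cl/Sub/Jd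
section
/-!
# N2 classical, classes C5 and C8 (helper89): regular unipotent isometries in all dimensions

`rg_step`, `exists_rg` are the ones of `N2/C1/Elt` (helper43) for the full isometry group.
-/

set_option autoImplicit false
set_option linter.unusedSectionVars false
set_option maxHeartbeats 400000

namespace Cfsg.Agent.N2C.Sub

open Cfsg.Agent.DS.Cl Cfsg.Agent.DS.Cl.Fwd Module Submodule Polynomial
open Cfsg.Agent.SB.Cl (IsU IsSp IsO)
open Cfsg.Agent.TH.Cl (eich ap_eich eich_form IsU.swap IsU.tau_ne IsSp.swap)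
open Cfsg.Agent.TH.Cl.Big (b_swap_zero iso_b)
open Cfsg.Agent.N2.C1 hiding rg_step exists_rg
open Cfsg.Agent.N2C.Cyc (cycV_of_minpoly two_ne_of_odd nondeg_of_O)
open Cfsg.Agent.ClassicalGeometry.InvolutiveNorm

section ring

variable {A B : Type} [Ring A] [Ring B] {n : ℕ}

theorem Jd.map (e : A ≃+* B) {u : A} (j : Jd u n) : Jd (e u) n where
  nil := by simpa only [map_pow, map_sub, map_one, map_zero] using congrArg e j.nil
  cen x hx := by
    obtain ⟨x, rfl⟩ := e.surjective x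
    obtain ⟨c, hc, y, hy, rfl⟩ := j.cen x (e.injective (by rwa [map_mul, map_mul]))
    exact ⟨e c, (Size.mem_center_map e).2 hc, e y, by rw [← map_mul, ← map_mul, hy], by simp⟩
  ne c hc h := by
    obtain ⟨c, rfl⟩ := e.surjective c
    rw [j.ne c ((Size.mem_center_map e).1 hc) (e.injective (by simpa only [_root_.map_mul, _root_.map_pow, _root_.map_sub, _root_.map_one, _root_.map_zero] using h)), map_zero]

theorem cen_prod {x : A × B} : x ∈ Subring.center (A × B) ↔ x.1 ∈ Subring.center A ∧ x.2 ∈ Subring.center B := by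
  rw [Subring.center_prod, Subring.mem_prod]

theorem Jd.prod {u : A} {v : B} (j : Jd u n) (k : Jd v n) : Jd ((u, v) : A × B) n where
  nil := Prod.ext j.nil k.nil
  cen x hx :=
    let ⟨c, hc, y, hy, h⟩ := j.cen x.1 (congrArg Prod.fst hx)
    let ⟨d, hd, z, hz, h'⟩ := k.cen x.2 (congrArg Prod.snd hx)
    ⟨(c, d), cen_prod.2 ⟨hc, hd⟩, (y, z), Prod.ext hy hz, Prod.ext h h'⟩
  ne _ hc h := Prod.ext (j.ne _ (cen_prod.1 hc).1 (congrArg Prod.fst h)) (k.ne _ (cen_prod.1 hc).2 (congrArg Prod.snd h))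

theorem inv_nil (u : Aˣ) (k : ℕ) : (((u⁻¹ : Aˣ) : A) - 1) ^ k = 0 ↔ ((u : A) - 1) ^ k = 0 := by
  have h : Commute ((-u⁻¹ : Aˣ) : A) (u - 1) :=
    (Commute.neg_left (Commute.units_inv_left (Commute.refl _))).sub_right (Commute.one_right _)
  rw [show ((u⁻¹ : Aˣ) : A) - 1 = (-u⁻¹ : Aˣ) * ((u : A) - 1) by simp [mul_sub, neg_add_eq_sub], h.mul_pow,
    ((-u⁻¹).isUnit.pow k).mul_right_eq_zero]

end ring

variable {K V : Type} [Field K] [Fintype K] [AddCommGroup V] [Module K V] [Finite V]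

theorem jd_end {g : End K V} (h1 : (g - 1) ^ finrank K V = 0) (h2 : (g - 1) ^ (finrank K V - 1) ≠ 0) :
    Jd g (finrank K V) := by
  have : Module.Finite K V := Module.Finite.of_finite
  have : Nontrivial V := not_subsingleton_iff_nontrivial.1 fun _ => h2 (Subsingleton.elim _ _)
  refine ⟨h1, fun x hx => ?_, fun c hc h => ?_⟩
  · obtain ⟨i, -, hi⟩ := (dvd_prime_pow prime_X _).1 (minpoly.dvd K (g - 1) (p := X ^ finrank K V) (by simpa only [_root_.map_pow, _root_.Polynomial.aeval_X] using h1))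
    have h3 : (g - 1) ^ i = 0 := by simpa only [_root_.map_pow, _root_.Polynomial.aeval_X] using aeval_eq_zero_of_dvd_aeval_eq_zero hi.dvd (minpoly.aeval K (g - 1))
    obtain ⟨f, rfl⟩ := (cycV_of_minpoly (g := g - 1) (by
      rw [natDegree_eq_of_degree_eq (degree_eq_degree_of_associated hi), natDegree_X_pow]
      by_contra h4
      exact h2 (pow_eq_zero_of_le (by omega) h3))).exists_poly (x := x) (by rw [mul_sub, sub_mul, hx, mul_one, one_mul])
    refine ⟨algebraMap K _ (f.coeff 0), Subring.mem_center_iff.2 fun a => (Algebra.commutes _ a).symm, aeval (g - 1) f.divX,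
      (Cyc.aeval_comm (by rw [mul_sub, sub_mul, mul_one, one_mul]) _).symm, ?_⟩
    conv_lhs => rw [← X_mul_divX_add f, map_add, map_mul, aeval_X, aeval_C, add_comm]
  · obtain ⟨a, rfl⟩ := P5.exists_smul (RingEquiv.refl _) hc
    change (a • 1 : End K V) * _ = 0 at h
    change (a • 1 : End K V) = 0
    rw [smul_mul_assoc, one_mul, smul_eq_zero] at h
    rw [h.resolve_right h2, zero_smul]

theorem ne_of_sb {T : End K V} (h : Sb T ⊤) (h0 : 0 < finrank K V) : T ^ (finrank K V - 1) ≠ 0 := fun e => by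
  have : Module.Finite K V := Module.Finite.of_finite
  have h1 := h.ker_pow (finrank K V - 1)
  rw [e, LinearMap.ker_zero, inf_idem, finrank_top] at h1
  omega

theorem jd_mat {n : ℕ} {M : Matrix (Fin n) (Fin n) K} (h1 : (M - 1) ^ n = 0) (h2 : (M - 1) ^ (n - 1) ≠ 0) : Jd M n := by
  let e := (Matrix.toLinAlgEquiv' (n := Fin n) (R := K)).toRingEquiv
  have k : ∀ i, (e M - 1) ^ i = 0 ↔ (M - 1) ^ i = 0 := fun i => by rw [← map_one e, ← map_sub, ← map_pow, map_eq_zero_iff _ e.injective]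
  have h3 := (jd_end (g := e M) (by rwa [finrank_fin_fun, k]) (by rwa [finrank_fin_fun, Ne, k])).map e.symm
  rwa [finrank_fin_fun, e.symm_apply_apply] at h3

theorem jdL {n : ℕ} (F : FR (LR (Fin n) K)) (hn : 0 < n) : ∃ u ∈ F.Iso, Jd (u : LR (Fin n) K) n := by
  obtain ⟨g, h1, h2, h3⟩ := exists_jordan (K := K) (U := Fin n → K)
  have h4 := ne_of_sb (T := g - 1) ⟨fun _ _ => trivial, ⟨_, fun v _ => by rw [h2]; rfl⟩, by rwa [inf_top_eq]⟩
    (by rwa [finrank_fin_fun])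
  rw [finrank_fin_fun] at h2 h4
  obtain ⟨M, hM⟩ := (Matrix.isUnit_iff_isUnit_det (LinearMap.toMatrixAlgEquiv' g)).2
    (IsUnit.of_mul_eq_one 1 ((mul_one _).trans ((LinearMap.det_toMatrix' g).trans h1)))
  have k : ∀ i, ((M : Matrix (Fin n) (Fin n) K) - 1) ^ i = 0 ↔ (g - 1) ^ i = 0 := fun i => by
    rw [hM, ← map_one (LinearMap.toMatrixAlgEquiv' (R := K) (n := Fin n)), ← map_sub, ← map_pow,
      map_eq_zero_iff _ (AlgEquiv.injective _)]
  have k' : ∀ i, (((M⁻¹ : GL (Fin n) K) : Matrix (Fin n) (Fin n) K).transpose - 1) ^ i = 0 ↔ (g - 1) ^ i = 0 := fun i => by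
    rw [← Matrix.transpose_one, ← Matrix.transpose_sub, ← Matrix.transpose_pow, Matrix.transpose_eq_zero, inv_nil, k]
  exact ⟨LR.gl M, mem_Iso_max (Size.L_LR F) ((LR.mem_gl _).1 ⟨M, rfl⟩),
    (jd_mat ((k _).2 h2) (mt (k _).1 h4)).prod (jd_mat ((k' _).2 h2) (mt (k' _).1 h4))⟩

variable {h : HF K V} {F : FR h.EB} {Y : Submodule K V}

variable (h F) in
/-- the Eichler transformation is an isometry -/
def EI (e t : V) (s c : K) : Prop :=
  ∃ y ∈ F.Iso, ∀ x, h.ap y x = x + h.b x e • t - (s * h.b x t + c * h.b x e) • e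

theorem rg_step (n : ND h Y) {e f : V} (he : e ∈ Y) (hf : f ∈ Y) (hee : h.b e e = 0) (hfe : h.b f e = 1) {u : h.EBˣ}
    (hu : u ∈ F.Iso) (r : Rg h u (Y ⊓ pp h (span K {e, f}))) (h0 : Y ⊓ pp h (span K {e, f}) ≠ ⊥) {s : K} (hs : s ≠ 0)
    (hE : ∀ t, h.b t e = 0 → ∃ c, EI h F e t s c) :
    ∃ y ∈ F.Iso, Rg h (y * u) Y := by
  have hfe' : h.b f e ≠ 0 := hfe ▸ one_ne_zero
  have m := nd_two hee hfe'
  have hle : span K {e, f} ≤ Y := span_le.2 (by rintro _ (rfl | rfl) <;> assumption)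
  obtain ⟨Y', hY'⟩ : ∃ Y', Y' = Y ⊓ pp h (span K {e, f}) := ⟨_, rfl⟩
  have n' : ND h Y' := hY' ▸ n.rel_nd m hle
  have sp : span K {e, f} ⊔ Y' = Y := hY' ▸ m.rel hle
  have l1 : Y' ≤ Y := hY' ▸ inf_le_left
  have o : ∀ v ∈ Y', h.b v e = 0 ∧ h.b v f = 0 := fun v hv => mem_pp_two.1 (hY' ▸ hv : v ∈ Y ⊓ _).2
  rw [← hY'] at r h0
  obtain ⟨x₀, hx₀, x0, tx⟩ := r.sb.nl.exists_ker r.sb.iv h0
  have ux : h.ap u x₀ = x₀ := sub_eq_zero.1 tx
  obtain ⟨w, hw, hwx⟩ := n'.partner hx₀ x0 1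
  obtain ⟨c, y, hy, ey⟩ := hE w (o w hw).1
  have ue : h.ap u e = e := r.fix e fun v hv => b_swap_zero (o v hv).1
  have uf : h.ap u f = f := r.fix f fun v hv => b_swap_zero (o v hv).2
  have iu : Iv (h.ap u) Y' := r.sb.iv.of_sub_one
  have k : ∀ v, (h.ap (y * u : h.EBˣ) - 1) v = (h.ap u - 1) v + h.b (h.ap u v) e • w -
      (s * h.b (h.ap u v) w + c * h.b (h.ap u v) e) • e := fun v => by
    rw [LinearMap.sub_apply, LinearMap.sub_apply, Units.val_mul, h.ap_mul, ey, End.one_apply]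
    abel
  have dec : ∀ v ∈ Y, ∃ a b : K, ∃ v' ∈ Y', v = a • e + b • f + v' := fun v hv => by
    obtain ⟨z, hz, v', hv', rfl⟩ := mem_sup.1 (sp.ge hv)
    obtain ⟨a, b, rfl⟩ := mem_span_pair.1 hz
    exact ⟨a, b, v', hv', rfl⟩
  have tu : ∀ v ∈ Y, (h.ap u - 1) v ∈ Y' := fun v hv => by
    obtain ⟨a, b, v', hv', rfl⟩ := dec v hv
    simpa [ue, uf] using r.sb.iv v' hv'
  have te : (h.ap (y * u : h.EBˣ) - 1) e = 0 := by
    rw [k, LinearMap.sub_apply, ue, hee, b_swap_zero (o w hw).1]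
    simp
  have tm : ∀ v ∈ Y, (h.ap (y * u : h.EBˣ) - 1) v ∈ K ∙ e ⊔ Y' := fun v hv => by
    rw [k]
    exact sub_mem (mem_sup_right (Y'.add_mem (tu v hv) (Y'.smul_mem _ hw)))
      (mem_sup_left (smul_mem _ _ (mem_span_singleton_self e)))
  have l2 : K ∙ e ⊔ Y' ≤ Y := sup_le ((span_singleton_le_iff_mem _ _).2 he) l1
  have z1 : ∀ v ∈ K ∙ e, (h.ap u - 1) v = 0 := fun v hv => by
    obtain ⟨a, rfl⟩ := mem_span_singleton.1 hv
    simp [ue]
  refine ⟨y, hy, fun v hv => ?_, fun v hv => l2 (tm v hv), Nl.of_map (Nl.step (U' := K ∙ e)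
    ((nl_of_zero z1).sup r.sb.nl) ((iv_of_zero z1).sup r.sb.iv) (fun v hv => ?_) fun v hv => ?_) tm, ?_⟩
  · rw [Units.val_mul, h.ap_mul, r.fix v (pp_anti l1 hv), ey, hv e he, hv w (l1 hw)]
    simp
  · obtain ⟨z, hz, v', hv', rfl⟩ := mem_sup.1 hv
    obtain ⟨a, rfl⟩ := mem_span_singleton.1 hz
    have h1 : h.b (h.ap u (a • e + v')) e = 0 := by
      rw [map_add, map_smul, ue, h.add_left, h.smul_left, hee, (o _ (iu v' hv')).1, mul_zero, add_zero]
    rw [k, h1, zero_smul, add_zero, sub_sub_cancel_left]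
    exact neg_mem (smul_mem _ _ (mem_span_singleton_self e))
  · obtain ⟨a, rfl⟩ := mem_span_singleton.1 hv
    rw [map_smul, te, smul_zero]
  · refine (finrank_mono (?_ : _ ≤ K ∙ e)).trans (TH.Cl.Big.finrank_one_le e)
    rintro v ⟨h1, hv⟩
    obtain ⟨a, b, v', hv', rfl⟩ := dec v hv
    have h2 : h.ap u (a • e + b • f + v') = a • e + b • f + h.ap u v' := by rw [map_add, map_add, map_smul, map_smul, ue, uf]
    have h3 : h.b (a • e + b • f + h.ap u v') e = b := by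
      rw [h.add_left, h.add_left, h.smul_left, h.smul_left, hee, hfe, (o _ (iu v' hv')).1]
      ring
    have h4 : h.b (a • e + b • f + h.ap u v') w = h.b (h.ap u v') w := by
      rw [h.add_left, h.add_left, h.smul_left, h.smul_left, b_swap_zero (o w hw).1, b_swap_zero (o w hw).2]
      ring
    rw [SetLike.mem_coe, LinearMap.mem_ker, k, LinearMap.sub_apply, h2, h3, h4, End.one_apply,
      add_sub_add_left_eq_sub] at h1
    have h5 := congrArg (h.b · x₀) h1
    have h6 : h.b (h.ap u v') x₀ = h.b v' x₀ := by rw [← iso_b hu v' x₀, ux]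
    simp only [h.sub_left, h.add_left, h.smul_left, h6, hwx, b_swap_zero (o x₀ hx₀).1, h.zero_left] at h5
    obtain rfl : b = 0 := by linear_combination h5
    have h7 := congrArg (h.b · f) h1
    simp only [h.sub_left, h.add_left, h.smul_left, (o _ (iu v' hv')).2, (o v' hv').2, h.zero_left] at h7
    have h8 : h.b (h.ap u v') w = 0 := by
      have h9 : s * h.b (h.ap u v') w * h.b e f = 0 := by linear_combination -h7
      exact (mul_eq_zero.1 ((mul_eq_zero.1 h9).resolve_right (h.ne_swap hfe'))).resolve_left hs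
    rw [h8] at h1
    simp only [zero_smul, mul_zero, add_zero, sub_zero] at h1
    have h9 : K ∙ x₀ = LinearMap.ker (h.ap u - 1) ⊓ Y' := eq_of_le_of_finrank_le
      ((span_singleton_le_iff_mem _ _).2 ⟨tx, hx₀⟩) (by rw [finrank_span_singleton x0]; exact r.sb.ker)
    obtain ⟨t, rfl⟩ := mem_span_singleton.1 (h9.ge ⟨h1, hv'⟩)
    rw [map_smul, ux, h.smul_left] at h8
    rw [(mul_eq_zero.1 h8).resolve_right (h.ne_swap (hwx ▸ one_ne_zero))]
    simpa only [_root_.zero_smul, _root_.add_zero] using smul_mem _ a (mem_span_singleton_self e)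

theorem exists_jd {s : K} (hs : s ≠ 0)
    (hS : ∀ Y, ND h Y → 3 ≤ finrank K Y → ∃ e ∈ Y, e ≠ 0 ∧ h.b e e = 0 ∧ ∀ t, h.b t e = 0 → ∃ c, EI h F e t s c)
    {m : ℕ} (hm : 1 ≤ m) (base : ∀ Y, ND h Y → finrank K Y = m → ∃ u ∈ F.Iso, Rg h u Y) {i : ℕ}
    (hi : finrank K V = m + 2 * i) : ∃ u ∈ F.Iso, Jd (u : h.EB) (finrank K V) := by
  have : Module.Finite K V := Module.Finite.of_finite
  have k : ∀ i Y, ND h Y → finrank K Y = m + 2 * i → ∃ u ∈ F.Iso, Rg h u Y := fun i => by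
    induction i with
    | zero => exact base
    | succ i ih =>
      intro Y n d
      obtain ⟨e, he, h0, hee, hE⟩ := hS Y n (by omega)
      obtain ⟨f, hf, hfe⟩ := n.partner he h0 1
      have m' := nd_two hee (hfe ▸ one_ne_zero)
      have hle : span K {e, f} ≤ Y := span_le.2 (by rintro _ (rfl | rfl) <;> assumption)
      have d' := m'.rel_dim hle
      rw [dim_two hee (hfe ▸ one_ne_zero)] at d'
      obtain ⟨u, hu, r⟩ := ih _ (n.rel_nd m' hle) (by omega)
      obtain ⟨y, hy, r'⟩ := rg_step n he hf hee hfe hu r (fun e => by rw [e, finrank_bot] at d'; omega) hs hE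
      exact ⟨_, mul_mem hy hu, r'⟩
  obtain ⟨u, hu, r⟩ := k i ⊤ nd_top (by rwa [finrank_top])
  exact ⟨u, hu, jd_end (g := h.ap u) (LinearMap.ext fun _ => r.sb.nl.fin r.sb.iv (finrank_top K V).le trivial)
    (ne_of_sb r.sb (by omega))⟩

theorem EI.rg {e : V} {s c : K} (k : EI h F e 0 s c) (n : ND h Y) (d : finrank K Y = 2) (hc : c ≠ 0) (he : e ∈ Y) (h0 : e ≠ 0)
    (h1 : h.b e e = 0) : ∃ u ∈ F.Iso, Rg h u Y :=
  let ⟨r, hr, k⟩ := k
  ⟨r, hr, rg_two n d hc he h0 h1 fun x => by rw [k, h.zero_right, smul_zero, add_zero, mul_zero, zero_add]⟩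

theorem jdU (hU : IsU h) (F : FR h.EB) (h0 : 0 < finrank K V) : ∃ u ∈ F.Iso, Jd (u : h.EB) (finrank K V) := by
  have k : ∀ e t c, h.b e e = 0 → h.b t e = 0 → h.τ c + c = h.b t t → EI h F e t 1 c := fun e t c he ht hc =>
    ⟨SB.Tor.isoU h _ (eich_form (fun u v => by rw [one_mul, IsU.swap hU]) (one_mul 1) (map_one _) he ht
      (by rwa [one_mul])), mem_Iso_max (Size.L_eq_U hU F).1 (SB.Tor.isoU_ms _ _ _), ap_eich e t 1 c⟩
  have main := fun (m : ℕ) hm base i => exists_jd (F := F) one_ne_zero (fun Y n d => by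
    obtain ⟨e, he, h0, h1⟩ := u_iso hU n (by omega)
    exact ⟨e, he, h0, h1, fun t ht => (exists_add_sigma_eq (IsU.tau_ne hU) h.τ_τ (SB.Tor.tau_self hU.1 t)).imp fun c hc =>
      k e t c h1 ht (by rw [add_comm, hc])⟩) (m := m) hm base (i := i)
  obtain ⟨i, hi | hi⟩ : ∃ i, finrank K V = 1 + 2 * i ∨ finrank K V = 2 + 2 * i := ⟨(finrank K V - 1) / 2, by omega⟩
  · exact main 1 le_rfl (fun Y' _ d => ⟨1, one_mem _, rg_one d⟩) i hi
  · refine main 2 (by omega) (fun Y' n d => ?_) i hi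
    obtain ⟨e, he, h0, h1⟩ := u_iso hU n d.ge
    obtain ⟨c, hc⟩ := exists_sigma_ne (IsU.tau_ne hU)
    exact (k e 0 (c - h.τ c) h1 (h.zero_left e) (by rw [map_sub, h.τ_τ, h.zero_left]; ring)).rg n d
      (sub_ne_zero.2 hc.symm) he h0 h1

theorem even_Sp (hS : IsSp h F) : Even (finrank K V) := sp_even hS.2.1 _ ⊤ nd_top (finrank_top K V)

theorem jdSp (hS : IsSp h F) (h0 : 0 < finrank K V) : ∃ u ∈ F.Iso, Jd (u : h.EB) (finrank K V) := by
  have k : ∀ e t c, h.b t e = 0 → EI h F e t (-1) c := fun e t c ht =>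
    ⟨SB.Tor.isoU h _ (eich_form (fun u v => by rw [hS.1, IsSp.swap hS, neg_one_mul]) (by ring) (hS.1 _)
      (hS.2.1 e) ht (by rw [hS.1, hS.2.1]; ring)), mem_Iso_max hS.2.2 (SB.Tor.isoU_ms _ _ _), ap_eich e t (-1) c⟩
  obtain ⟨i, hi⟩ := even_Sp hS
  refine exists_jd (neg_ne_zero.2 one_ne_zero) (fun Y n d => ?_) (m := 2) (by omega) (fun Y n d => ?_) (i := i - 1) (by omega) <;>
    obtain ⟨e, he, h0⟩ := exists_mem_ne (X := Y) (by omega)
  · exact ⟨e, he, h0, hS.2.1 e, fun t ht => ⟨0, k e t 0 ht⟩⟩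
  · exact (k e 0 1 (h.zero_left e)).rg n d one_ne_zero he h0 (hS.2.1 e)

theorem jdO {Q : QuadraticForm K V} (o : IsO h F Q) (ho : Odd (finrank K V)) : ∃ u ∈ F.Iso, Jd (u : h.EB) (finrank K V) := by
  have : Module.Finite K V := Module.Finite.of_finite
  have h2 := two_ne_of_odd (nondeg_of_O o) ho
  have h3 : ∀ v, h.b v v = 2 * Q v := fun v => by rw [o.2.1, QuadraticMap.polar_self, nsmul_eq_mul, Nat.cast_two]
  obtain ⟨i, hi⟩ := ho
  refine exists_jd one_ne_zero (fun Y n d => ?_) le_rfl (fun Y' _ d => ⟨1, one_mem _, rg_one d⟩) (i := i) (by omega)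
  obtain ⟨e, h0, h1⟩ := ClassicalGeometry.SiegelGen.exists_singular h2 (Q.comp Y.subtype) d
  have h4 : h.b e e = 0 := by rw [h3, show Q e = 0 from h1, mul_zero]
  refine ⟨e, e.2, fun k => h0 (Subtype.ext k), h4, fun t ht => ⟨Q t, ?_⟩⟩
  have h5 := eich_form (c := Q t) (fun u v => by rw [one_mul, o.1, o.2.1, o.2.1, QuadraticMap.polar_comm]) (one_mul 1)
    (map_one _) h4 ht (by rw [o.1, h3]; ring)
  exact ⟨SB.Tor.isoU h _ h5, (SB.Tor.mem_Iso_O o _).2 fun v => mul_left_cancel₀ h2 (by rw [← h3, ← h3]; exact h5 v v),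
    ap_eich _ t 1 _⟩

end Cfsg.Agent.N2C.Sub
end

-- part: N2/Cl/Sub/Desc
section
/-!
# N2 classical, classes C5 and C8 (helper89): Galois descent

`Gal φ e c` : the conjugates of the central element `c` have invertible differences.  For a stable subgroup `M`:
`|M| = |M^φ|^e`, `M` is spanned by `M^φ`, the trace is onto `M^φ`.  The fixed ring `A0 φ` is star-simple.
-/

set_option autoImplicit false
set_option linter.unusedSectionVars false
set_option maxHeartbeats 400000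

namespace Cfsg.Agent.N2C.Sub

open Cfsg Cfsg.Agent.DS.Cl Finset

theorem mat_inj {R M ι : Type*} [CommRing R] [AddCommGroup M] [Module R M] [Fintype ι] [DecidableEq ι]
    {W : Matrix ι ι R} (hW : IsUnit W.det) {x : ι → M} (h : ∀ i, ∑ j, W i j • x j = 0) (k : ι) : x k = 0 := by
  have h1 : ∑ j, (W⁻¹ * W) k j • x j = x k := by
    rw [Matrix.nonsing_inv_mul W hW]
    simp only [Matrix.one_apply, _root_.Matrix.one_apply, _root_.ite_smul, _root_.one_smul, _root_.zero_smul, _root_.Finset.sum_ite_eq, _root_.Finset.mem_univ, ↓ _root_.reduceIte]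
  rw [← h1]
  simp only [Matrix.mul_apply, sum_smul, mul_smul]
  rw [sum_comm]
  simp only [← smul_sum, h, smul_zero, sum_const_zero]

section ring

variable {A : Type} [Ring A]

theorem isUnit_cen {z : Subring.center A} (h : IsUnit (z : A)) : IsUnit z := by
  obtain ⟨u, hu⟩ := h
  exact IsUnit.of_mul_eq_one ⟨(u⁻¹ : Aˣ), inv_cen (hu ▸ z.2)⟩ (Subtype.ext (by
    change (z : A) * (u⁻¹ : Aˣ) = 1
    rw [← hu, u.mul_inv]))

/-- the trace -/
def tr (φ : RingAut A) (e : ℕ) : A →+ A where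
  toFun x := ∑ j : Fin e, (φ ^ (j : ℕ)) x
  map_zero' := by simp only [_root_.RingAut.coe_pow, _root_.iterate_map_zero, _root_.Finset.sum_const_zero]
  map_add' x y := by simp only [sum_add_distrib, _root_.RingAut.coe_pow, _root_.iterate_map_add, _root_.Finset.sum_add_distrib]

theorem tr_apply (φ : RingAut A) (e : ℕ) (x : A) : tr φ e x = ∑ j : Fin e, (φ ^ (j : ℕ)) x := rfl

/-- the fixed ring -/
def fix (φ : RingAut A) : Subring A := RingHom.eqLocus (φ : A →+* A) (RingHom.id A)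

theorem mem_fix {φ : RingAut A} {x : A} : x ∈ fix φ ↔ φ x = x := Iff.rfl

theorem pow_fix {φ : RingAut A} {x : A} (h : φ x = x) (j : ℕ) : (φ ^ j) x = x :=
  (Fix {x}).pow_mem (show φ ∈ Fix {x} from fun _ k => k ▸ h) j x rfl

theorem tr_mul {φ : RingAut A} {y : A} (h : φ y = y) (e : ℕ) (x : A) : tr φ e (y * x) = y * tr φ e x := by
  simp only [tr_apply, map_mul, pow_fix h, mul_sum]

theorem tr_mul' {φ : RingAut A} {y : A} (h : φ y = y) (e : ℕ) (x : A) : tr φ e (x * y) = tr φ e x * y := by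
  simp only [tr_apply, map_mul, pow_fix h, sum_mul]

theorem map_tr {φ γ : RingAut A} (h : γ * φ = φ * γ) (e : ℕ) (x : A) : γ (tr φ e x) = tr φ e (γ x) := by
  rw [tr_apply, tr_apply, map_sum]
  exact sum_congr rfl fun j _ => by rw [← ra_mul, (Commute.pow_right h j).eq, ra_mul]

/-- a primitive central element -/
structure Gal (φ : RingAut A) (e : ℕ) (c : A) : Prop where
  pos : 0 < e
  pow : φ ^ e = 1
  cen : c ∈ Subring.center A
  unit : ∀ j, 0 < j → j < e → IsUnit ((φ ^ j) c - c)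

/-- a stable subgroup -/
structure St (φ : RingAut A) (c : A) (M : AddSubgroup A) : Prop where
  map : ∀ x ∈ M, φ x ∈ M
  mul : ∀ x ∈ M, c * x ∈ M

/-- the fixed points in `M` -/
abbrev fxM (φ : RingAut A) (M : AddSubgroup A) : AddSubgroup A := M ⊓ (fix φ).toAddSubgroup

variable {φ : RingAut A} {e : ℕ} {c : A} {M : AddSubgroup A}

theorem st_top : St φ c ⊤ := ⟨fun _ _ => trivial, fun _ _ => trivial⟩

theorem St.pow_map (s : St φ c M) (j : ℕ) : ∀ x ∈ M, (φ ^ j) x ∈ M := by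
  induction j with
  | zero => exact fun _ h => h
  | succ j ih => exact fun x h => by rw [pow_succ', ra_mul]; exact s.map _ (ih x h)

theorem St.pow_mul (s : St φ c M) (j : ℕ) : ∀ x ∈ M, c ^ j * x ∈ M := by
  induction j with
  | zero => exact fun _ h => by rwa [pow_zero, one_mul]
  | succ j ih => exact fun x h => by rw [pow_succ', mul_assoc]; exact s.mul _ (ih x h)

theorem St.tr_mem (s : St φ c M) (e : ℕ) {x : A} (h : x ∈ M) : tr φ e x ∈ M :=
  tr_apply φ e x ▸ M.sum_mem fun _ _ => s.pow_map _ x h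

namespace Gal

variable (g : Gal φ e c)
include g

theorem tr_fix (x : A) : φ (tr φ e x) = tr φ e x := by
  obtain ⟨k, rfl⟩ : ∃ k, e = k + 1 := ⟨e - 1, (Nat.sub_add_cancel g.pos).symm⟩
  rw [tr_apply, map_sum]
  conv_rhs => rw [Fin.sum_univ_succ, add_comm]
  rw [Fin.sum_univ_castSucc]
  congr 1
  · exact sum_congr rfl fun j _ => by rw [← ra_mul, ← pow_succ']; rfl
  · rw [← ra_mul, ← pow_succ', Fin.val_last, g.pow]; rfl

theorem det : IsUnit (Matrix.vandermonde fun j : Fin e =>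
    (⟨(φ ^ (j : ℕ)) c, map_cen _ g.cen⟩ : Subring.center A)).det := by
  rw [Matrix.det_vandermonde]
  refine IsUnit.prod_iff.2 fun i _ => IsUnit.prod_iff.2 fun j hj => isUnit_cen ?_
  have h1 : (i : ℕ) < j := Fin.lt_def.1 (mem_Ioi.1 hj)
  have h2 := (g.unit (j - i) (by omega) (by omega)).map (φ ^ (i : ℕ))
  rwa [map_sub, ← ra_mul, ← pow_add, Nat.add_sub_cancel' h1.le] at h2

theorem inj1 {y : Fin e → A} (hy : ∀ i, φ (y i) = y i) (h : ∑ i : Fin e, c ^ (i : ℕ) * y i = 0) (k : Fin e) : y k = 0 :=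
  mat_inj g.det (fun j => by
    have h1 := congrArg (φ ^ (j : ℕ)) h
    rw [map_sum, map_zero] at h1
    refine Eq.trans (sum_congr rfl fun i _ => ?_) h1
    rw [map_mul, map_pow, pow_fix (hy i)]
    rfl) k

theorem inj2 {x : A} (h : ∀ i : Fin e, tr φ e (c ^ (i : ℕ) * x) = 0) : x = 0 :=
  mat_inj (x := fun j : Fin e => (φ ^ (j : ℕ)) x) (W := (Matrix.vandermonde fun j : Fin e =>
    (⟨(φ ^ (j : ℕ)) c, map_cen _ g.cen⟩ : Subring.center A)).transpose) (by rw [Matrix.det_transpose]; exact g.det) (fun i => by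
    refine Eq.trans (sum_congr rfl fun j _ => ?_) (h i)
    rw [map_mul, map_pow]
    rfl) ⟨0, g.pos⟩

variable [Finite A] (s : St φ c M)
include s

theorem bij : (Function.Bijective fun y : Fin e → fxM φ M =>
      (⟨∑ i : Fin e, c ^ (i : ℕ) * y i, M.sum_mem fun i _ => s.pow_mul _ _ (y i).2.1⟩ : M)) ∧
    Function.Bijective fun (x : M) (i : Fin e) =>
      (⟨tr φ e (c ^ (i : ℕ) * x), s.tr_mem e (s.pow_mul _ _ x.2), g.tr_fix _⟩ : fxM φ M) := by
  have h1 : Function.Injective fun y : Fin e → fxM φ M =>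
      (⟨∑ i : Fin e, c ^ (i : ℕ) * y i, M.sum_mem fun i _ => s.pow_mul _ _ (y i).2.1⟩ : M) := fun y z h =>
    funext fun k => Subtype.ext (sub_eq_zero.1 (g.inj1 (y := fun i => (y i : A) - z i) (fun i => (y i - z i).2.2) (by
      simp only [mul_sub, sum_sub_distrib]
      exact sub_eq_zero.2 (congrArg Subtype.val h)) k))
  have h2 : Function.Injective fun (x : M) (i : Fin e) =>
      (⟨tr φ e (c ^ (i : ℕ) * x), s.tr_mem e (s.pow_mul _ _ x.2), g.tr_fix _⟩ : fxM φ M) := fun x z h =>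
    Subtype.ext (sub_eq_zero.1 (g.inj2 fun i => by
      rw [mul_sub, map_sub]
      exact sub_eq_zero.2 (congrArg Subtype.val (congrFun h i))))
  exact ⟨h1.bijective_of_nat_card_le (Nat.card_le_card_of_injective _ h2),
    h2.bijective_of_nat_card_le (Nat.card_le_card_of_injective _ h1)⟩

theorem card_eq : Nat.card M = Nat.card (fxM φ M) ^ e := by
  rw [← Nat.card_eq_of_bijective _ (g.bij s).1, Nat.card_fun, Nat.card_eq_fintype_card (α := Fin e), Fintype.card_fin]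

/-- `M` is spanned by its fixed points -/
theorem ind {N : AddSubgroup A} (h : ∀ (i : ℕ), ∀ y ∈ M, φ y = y → c ^ i * y ∈ N) : M ≤ N := fun x hx => by
  obtain ⟨y, hy⟩ := (g.bij s).1.2 ⟨x, hx⟩
  have h1 : ∑ i : Fin e, c ^ (i : ℕ) * y i = x := congrArg Subtype.val hy
  exact h1 ▸ N.sum_mem fun i _ => h _ _ (y i).2.1 (y i).2.2

theorem exists_tr {y : A} (h1 : y ∈ M) (h2 : φ y = y) : ∃ x ∈ M, tr φ e x = y := by
  obtain ⟨x, hx⟩ := (g.bij s).2.2 fun _ => ⟨y, h1, h2⟩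
  refine ⟨x, x.2, ?_⟩
  simpa using congrArg Subtype.val (congrFun hx ⟨0, g.pos⟩)

theorem card_ker : Nat.card ↥(M ⊓ (tr φ e).ker) = Nat.card (fxM φ M) ^ (e - 1) := by
  let f : M →+ A := (tr φ e).comp M.subtype
  have h1 : f.range = fxM φ M := AddSubgroup.ext fun y => ⟨fun ⟨x, hx⟩ => hx ▸ ⟨s.tr_mem e x.2, g.tr_fix _⟩, fun hy =>
    let ⟨x, hx, k⟩ := g.exists_tr s hy.1 hy.2; ⟨⟨x, hx⟩, k⟩⟩
  have h2 : f.ker = (M ⊓ (tr φ e).ker).addSubgroupOf M := AddSubgroup.ext fun x => ⟨fun k => ⟨x.2, k⟩, fun k => k.2⟩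
  have h3 := AddSubgroup.index_mul_card f.ker
  rw [AddSubgroup.index_ker, h1, h2, Nat.card_congr (AddSubgroup.addSubgroupOfEquivOfLe inf_le_left).toEquiv,
    g.card_eq s] at h3
  refine Nat.eq_of_mul_eq_mul_left (Nat.card_pos (α := fxM φ M)) (h3.trans ?_)
  rw [← pow_succ', Nat.sub_add_cancel g.pos]

omit s in
theorem exists_one : ∃ x ∈ Subring.center A, tr φ e x = 1 :=
  g.exists_tr (M := (Subring.center A).toAddSubgroup) ⟨fun _ => map_cen φ, fun _ => Subring.mul_mem _ g.cen⟩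
    (Subring.one_mem _) (map_one φ)

omit s in
theorem cen_of {x : A} (h : ∀ y, φ y = y → y * x = x * y) : x ∈ Subring.center A :=
  Subring.mem_center_iff.2 fun a => g.ind st_top (N := (Subring.centralizer {x}).toAddSubgroup) (fun i y _ hy => by
    rintro _ rfl
    rw [mul_assoc, h y hy, ← mul_assoc, ← mul_assoc, cen_comm (pow_mem g.cen i)]) (AddSubgroup.mem_top a) x rfl |>.symm

end Gal

end ring

variable {A : Type} [Ring A] [StarRing A] {φ : RingAut A} {e : ℕ} {c : A}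

theorem star_tr (hφ : φ ∈ SAut A) (e : ℕ) (x : A) : star (tr φ e x) = tr φ e (star x) := by
  rw [tr_apply, tr_apply, star_sum]
  exact sum_congr rfl fun j _ => ((SAut A).pow_mem hφ j x).symm

/-- the fixed ring as a block -/
def fB (hφ : φ ∈ SAut A) : Blk A := Blk.ofSubring (fix φ) fun x (hx : φ x = x) => show φ (star x) = star x by rw [hφ, hx]

variable [Finite A]

/-- the ideal generated by an ideal of the fixed ring -/
def Gal.up (g : Gal φ e c) (I : AddSubgroup A) (h : ∀ x ∈ I, ∀ a, φ a = a → a * x ∈ I) : Ideal A where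
  carrier := {x | ∀ d ∈ Subring.center A, tr φ e (d * x) ∈ I}
  add_mem' hx hy d hd := by rw [mul_add, map_add]; exact I.add_mem (hx d hd) (hy d hd)
  zero_mem' d _ := by rw [mul_zero, map_zero]; exact I.zero_mem
  smul_mem' a x hx := by
    let N : AddSubgroup A :=
      { carrier := {a | ∀ d ∈ Subring.center A, tr φ e (d * (a * x)) ∈ I}
        add_mem' := fun ha hb d hd => by rw [add_mul, mul_add, map_add]; exact I.add_mem (ha d hd) (hb d hd)
        zero_mem' := fun d _ => by rw [zero_mul, mul_zero, map_zero]; exact I.zero_mem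
        neg_mem' := fun ha d hd => by rw [neg_mul, mul_neg, map_neg]; exact I.neg_mem (ha d hd) }
    refine g.ind st_top (N := N) (fun i y _ hy d hd => ?_) (AddSubgroup.mem_top a)
    have h1 := mul_mem hd (pow_mem g.cen i)
    rw [mul_assoc, ← mul_assoc d, ← mul_assoc, ← cen_comm h1, mul_assoc, tr_mul hy]
    exact h _ (hx _ h1) y hy

omit [StarRing A] in
theorem Gal.mem_up (g : Gal φ e c) {I : AddSubgroup A} (h : ∀ x ∈ I, ∀ a, φ a = a → a * x ∈ I) {x : A} (h1 : x ∈ I)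
    (h2 : φ x = x) : x ∈ g.up I h := fun d _ => by
  rw [tr_mul' h2]
  exact h x h1 _ (g.tr_fix d)

omit [StarRing A] in
theorem Gal.one_mem (g : Gal φ e c) {I : AddSubgroup A} {h : ∀ x ∈ I, ∀ a, φ a = a → a * x ∈ I} (h1 : 1 ∈ g.up I h) :
    1 ∈ I := by
  obtain ⟨d, hd, k⟩ := g.exists_one
  have h2 := h1 d hd
  rwa [mul_one, k] at h2

/-- **the fixed ring is star-simple** -/
theorem Gal.ss (g : Gal φ e c) (ss : SS A) (hφ : φ ∈ SAut A) : SS (fB hφ).T := by
  have := ss.1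
  refine Blk.ss_of _ one_ne_zero fun I h1 h2 h3 => ?_
  have h4 : ∀ x ∈ g.up I h2, star x ∈ g.up I h2 := fun x hx d hd => by
    have h5 := h3 _ (hx _ (star_cen hd))
    rwa [star_tr hφ, star_mul, star_star, cen_comm hd] at h5
  refine (ss.eq_bot_or_top (fun x hx a => ?_) h4).imp (fun k => eq_bot_iff.2 fun x hx => ?_) fun k =>
    g.one_mem (k.ge trivial)
  · simpa only [_root_.StarMul.star_mul, _root_.star_star] using h4 _ (Ideal.mul_mem_left _ (star a) (h4 x hx))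
  · exact k.le (g.mem_up h2 hx (h1 x hx))

theorem Gal.mem_center (g : Gal φ e c) (hφ : φ ∈ SAut A) {x : (fB hφ).T} :
    x ∈ Subring.center (fB hφ).T ↔ (fB hφ).val x ∈ Subring.center A :=
  (fB hφ).mem_center_iff.trans ⟨g.cen_of, fun h y _ => cen_comm h y⟩

theorem isUnit_skew (ss : SS A) {d : A} (hc : d ∈ Subring.center A) (hs : star d = -d) (h0 : d ≠ 0) : IsUnit d := by
  by_cases h : d * d = 0
  · refine absurd ?_ h0
    have h1 := ss.nil_eq_bot (two_span_cen hc) fun x hx => by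
      obtain ⟨a, rfl⟩ := Ideal.mem_span_singleton'.1 hx
      exact ⟨2, by rw [pow_two, mul_assoc, ← mul_assoc d, ← cen_comm hc a, mul_assoc, h, mul_zero, mul_zero]⟩
    exact h1.le (Ideal.mem_span_singleton_self d)
  · exact (IsUnit.mul_iff.1 (ss.isUnit_of_cen (mul_mem hc hc) (by rw [star_mul, hs, neg_mul_neg]) h)).1

omit [Finite A] in
theorem cen_nil (ss : SS A) {d : A} (hc : d ∈ Subring.center A) (h : IsNilpotent d) : d = 0 :=
  (ss.nil_eq_bot (two_span_cen hc) fun x hx => by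
    obtain ⟨a, rfl⟩ := Ideal.mem_span_singleton'.1 hx
    exact Commute.isNilpotent_mul_left (cen_comm hc a) h).le (Ideal.mem_span_singleton_self d)

/-- **field and graph-field automorphisms, graph automorphisms** -/
theorem exists_gal (ss : SS A) (hφ : φ ∈ SAut A) (hl : φ ∉ Lin A) (hp : (orderOf φ).Prime) :
    (∃ c ∈ C0 A, Gal φ (orderOf φ) c) ∨ (∀ z ∈ Subring.center A, φ z = star z) ∧ ∃ c, Gal φ 2 c := by
  have k : ∀ x, φ x ≠ x → ∀ j, 0 < j → j < orderOf φ → (φ ^ j) x ≠ x := fun x hx j h0 h1 h => by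
    obtain ⟨m, hm⟩ := exists_pow_eq_self_of_coprime (x := φ) (Nat.coprime_of_lt_prime h0.ne' h1 hp).symm
    exact hx (hm ▸ pow_fix h m)
  by_cases h : ∃ c ∈ C0 A, φ c ≠ c
  · obtain ⟨c, hc, h⟩ := h
    exact Or.inl ⟨c, hc, hp.pos, pow_orderOf_eq_one φ, hc.1, fun j h0 h1 => ss.isUnit_of_cen
      (sub_mem (map_cen _ hc.1) hc.1) (by rw [star_sub, ← (SAut A).pow_mem hφ j, hc.2]) (sub_ne_zero.2 (k c h j h0 h1))⟩
  push Not at h
  have h1 : ∀ z ∈ Subring.center A, φ z = z ∨ φ z = star z := fun z hz => by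
    have h2 := h (z + star z) ⟨add_mem hz (star_cen hz), by rw [star_add, star_star, add_comm]⟩
    have h3 := h (z * star z) ⟨mul_mem hz (star_cen hz), by rw [star_mul, star_star]⟩
    rw [map_add, hφ] at h2
    rw [map_mul, hφ] at h3
    refine or_iff_not_imp_left.2 fun h4 => sub_eq_zero.1 ((isUnit_skew ss (sub_mem (map_cen φ hz) hz) (by
      rw [star_sub, neg_sub, sub_eq_sub_iff_add_eq_add, add_comm, h2]) (sub_ne_zero.2 h4)).mul_right_eq_zero.1 ?_)
    have h5 : (φ z - z) * (φ z - star z) = φ z * (φ z + star (φ z)) - φ z * (z + star z) +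
      (z * star z - φ z * star (φ z)) + (φ z * z - z * φ z) := by noncomm_ring
    rw [h5, h2, h3, cen_comm hz]
    simp only [_root_.sub_self, _root_.add_zero]
  obtain ⟨c, hc⟩ := not_forall.1 hl
  obtain ⟨hc, h2⟩ := Classical.not_imp.1 hc
  have h3 := (h1 c hc).resolve_left h2
  have h4 : ∀ z ∈ Subring.center A, φ z = star z := fun z hz => (h1 z hz).elim (fun h5 => by
    have h6 := (h1 _ (add_mem hz hc)).resolve_left fun h6 => h2 (by rwa [map_add, h5, add_right_inj] at h6)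
    rwa [map_add, h3, star_add, add_left_inj] at h6) id
  have h5 : orderOf φ = 2 := by
    by_contra h5
    refine k c h2 2 two_pos (lt_of_le_of_ne hp.two_le (Ne.symm h5)) ?_
    rw [pow_two, ra_mul, h3, hφ, h3, star_star]
  refine Or.inr ⟨h4, c, two_pos, h5 ▸ pow_orderOf_eq_one φ, hc, fun j h0 h1 => ?_⟩
  obtain rfl : j = 1 := by omega
  rw [pow_one]
  exact isUnit_skew ss (sub_mem (map_cen φ hc) hc) (by rw [h3, star_sub, star_star, neg_sub]) (sub_ne_zero.2 h2)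

end Cfsg.Agent.N2C.Sub
end

private theorem dce_f845890f6eb1 : _root_.True := by
  try have : _root_.True := by simp only [_root_.Cfsg.Agent.N2C.Sub.Gal.up.congr_simp]
  exact _root_.True.intro
end

-- part: N2/Cl/Sub/Main
section
prune_inst 0x24104460010000000000258041200020000000b004000000000000000000000000800000008000040200000100000000000000000000000000000000000500000000040000000008800000000180000000000000000000000000000000000004000000000
set_option linter.all false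
open scoped Cfsg.Agent.FastGrp

-- part: N2/Cl/FldSp/Main
section
/-!
# N2 (S3519), symplectic groups: the class `pFld` (helper47)

`GL_k(q).2`, `Sp_{2k/r}(q^r).r`, `GU_k(q).2` : an element of order `q ^ k - 1` or `q ^ k + 1` has one fixed point.
-/

set_option autoImplicit false
set_option linter.unusedSectionVars false

namespace Cfsg.Agent.N2C

open Cfsg.Agent.DS.Cl Cfsg.Agent.DS.Cl.Fwd Cfsg.Agent.SB.Cl Module
open Cfsg.Agent.TH.Cl (KSp)
open Cfsg.Agent.TH.Cl.FSO (FE SO)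
open Cfsg.Agent.N2C.Fld (TR Pair Dat red)

namespace FldSp

variable {K V : Type} [Field K] [Fintype K] [AddCommGroup V] [Module K V] [Finite V] {h : HF K V}

theorem MC.tr {R : Type} [CommRing R] [Algebra K R] (m : MC h R) (h1 : ∀ x, x ≠ 0 → m.ρ x = x ∨ m.ρ x = -x → IsUnit x) :
    TR m.j.range := by
  refine ⟨?_, ?_, ?_, ?_⟩
  · rintro _ ⟨x, rfl⟩ _ ⟨y, rfl⟩
    rw [← map_mul, ← map_mul, mul_comm]
  · rintro _ ⟨x, rfl⟩
    exact ⟨_, (m.star_j x).symm⟩
  · rintro _ ⟨x, rfl⟩ e h0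
    exact (h1 x (fun k => h0 (by rw [k, map_zero])) (Or.inl (m.inj (by rwa [← m.star_j])))).map m.j
  · rintro _ ⟨x, rfl⟩ e h0
    exact (h1 x (fun k => h0 (by rw [k, map_zero])) (Or.inr (m.inj (by rwa [← m.star_j, map_neg])))).map m.j

theorem MC.tr_split {L : Type} [Field L] [Algebra K L] (m : MC h (L × L)) (hρ : ∀ x y, m.ρ (x, y) = (y, x)) :
    TR m.j.range := m.tr fun ⟨x, y⟩ h0 e => by
  rw [hρ] at e
  have h1 : x ≠ 0 ∧ y ≠ 0 := by
    rcases e with e | e <;> have e1 := (Prod.mk.inj e).1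
    · exact ⟨fun k => h0 (Prod.ext k (e1.trans k)), fun k => h0 (Prod.ext (e1.symm.trans k) k)⟩
    · exact ⟨fun k => h0 (Prod.ext k (e1.trans (neg_eq_zero.2 k))), fun k => h0 (Prod.ext (neg_eq_zero.1 (e1.symm.trans k)) k)⟩
  exact Prod.isUnit_iff.2 ⟨h1.1.isUnit, h1.2.isUnit⟩

variable {F : FR h.EB} {k : ℕ} (o : KSp h F k)
include o

theorem exists_u {R : Type} [CommRing R] [Algebra K R] (m : MC h R) {g : R} (hg : g * m.ρ g = 1) {r : ℕ}
    (hr : Algebra.adjoin K {g ^ r} = ⊤) : ∃ u ∈ (⁅F.Iso, F.Iso⁆ : Subgroup h.EBˣ), (∀ y, m.j y * u = u * m.j y) ∧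
      ∀ x, (u : h.EB) ^ r * x = x * (u : h.EB) ^ r → x ∈ m.j.range :=
  ⟨mkU _ (m.uni hg), o.mem_comm (mem_Iso_max o.sp.2.2 (m.uni hg)), fun y => by
    rw [mkU_val, ← map_mul, ← map_mul, mul_comm], fun x hx => m.mem hr (by rwa [map_pow])⟩

theorem exists_u_split {L : Type} [Field L] [Finite L] [Algebra K L] (m : MC h (L × L)) (hρ : ∀ x y, m.ρ (x, y) = (y, x))
    (hL : 2 * finrank K L = finrank K V) (hk : 3 ≤ k) {r : ℕ} (hr : r = 2 ∨ (r.Prime ∧ r ∣ finrank K L)) :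
    ∃ u ∈ (⁅F.Iso, F.Iso⁆ : Subgroup h.EBˣ), (∀ y, m.j y * u = u * m.j y) ∧
      ∀ x, (u : h.EB) ^ r * x = x * (u : h.EB) ^ r → x ∈ m.j.range := by
  obtain ⟨g, g0, hg⟩ := split_gen (K := K) (L := L) (by have := o.dim; omega) hr
  exact exists_u o m (by rw [hρ, Prod.mk_mul_mk, mul_inv_cancel₀ g0, inv_mul_cancel₀ g0]; rfl) hg

variable [Nontrivial V] {H : Subgroup (RingAut h.EB)} {p : ℕ} (hk : 3 ≤ k) (c : Ctx F H p)
include hk c

theorem pair {ε : h.EB} (P : Pair F H ε) : Gd F H := by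
  obtain ⟨L, _, _, _, _, _, m, h1, h2, h3⟩ := exists_split (E := K) o.sp.1 P.idem P.add (map_smul (h.ap ε))
  obtain ⟨u, hu, h4, h5⟩ := exists_u_split o m h2 h1 hk (Or.inl rfl)
  have h6 : m.j (1, 0) = ε := h.ap_ext fun v => by simpa using h3 1 v
  exact P.gd c hu (h6 ▸ (h4 _).symm) (m.tr_split h2) h5

variable {E : Type} [Field E] [Fintype E] [DecidableEq E] [Algebra K E] [Module E V] [IsScalarTower K E V] {f : FE h E}
  {l : h.EB} (d : Dat f F H l)
include d

theorem split {ε : h.EB} (h1 : ε * ε = ε) (h2 : ε + star ε = 1) (h3 : ∀ (z : E) v, h.ap ε (z • v) = z • h.ap ε v) :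
    Gd F H := by
  obtain ⟨L, _, _, _, _, _, m, a1, a2, a3⟩ := exists_split o.sp.1 h1 h2 h3
  obtain ⟨u, hu, a4, a5⟩ := exists_u_split o m a2 a1 hk (Or.inr ⟨d.prime, Dvd.intro _ (finrank_mul_finrank K E L)⟩)
  have a6 : ∀ z, m.j (algebraMap E L z, 0) = f.ι z * ε := fun z => h.ap_ext fun v => by rw [a3, h.ap_mul, f.ap_ι]
  have a7 : ∀ z, f.ι z * ε = ε * f.ι z := fun z => h.ap_ext fun v => by rw [h.ap_mul, h.ap_mul, f.ap_ι, f.ap_ι, h3]
  refine d.gd (TH.Cl.FSO.KSp.so o) c hu (f.mem_C.2 fun z => ?_) (m.tr_split a2) a5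
  have a8 : f.ι z = m.j ((algebraMap E L z, 0) + m.ρ (algebraMap E L (f.σ z), 0)) := by
    rw [map_add, ← m.star_j, a6, a6, a7 (f.σ z), star_mul, f.star_ι, f.σ_σ, ← mul_add, h2, mul_one]
  rw [a8, a4]

theorem fld : Gd F H := by
  have s := TH.Cl.FSO.KSp.so o
  rcases d.kind with ⟨k1, θ, hθ⟩ | hσ
  · have hσ : f.σ ≠ RingHom.id E := fun e => hθ (by rw [e]; rfl)
    have h1 : finrank E V = k := by
      have h1 := finrank_mul_finrank K E V
      rw [k1, o.dim] at h1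
      omega
    rcases Nat.even_or_odd (finrank E V) with ⟨n, hn⟩ | h2
    · obtain ⟨ε, a1, a2, a3⟩ := eps_herm f s hσ hn
      exact split o hk c d a1 a2 a3
    obtain ⟨L, _, _, _, _, _, m, a1, a2, a3⟩ := exists_sing f s hσ k1 h2
    obtain ⟨g, g1, g2⟩ := sing_gen (K := K) (L := L) (k := k) (by omega) (a1.trans o.dim)
    obtain ⟨u, hu, a4, a5⟩ := exists_u o m (by rwa [a2, h1]) g2
    exact d.gd s c hu (f.mem_C.2 fun z => by rw [← a3, a4]) (m.tr fun x h0 _ => h0.isUnit) (k1 ▸ a5)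
  · obtain ⟨ε, a1, a2, a3⟩ := eps_alt f hσ fun x => by rw [f.β_self s d.mem d.L, hσ, map_neg, map_one]; ring
    exact split o hk c d a1 a2 a3

end FldSp

/-- **[FldSp]** -/
theorem fldSp : OnSp 3 pFld := fun K V _ _ _ _ _ h F k H p o hk c hF => by
  have : Nontrivial V := Module.nontrivial_of_finrank_pos (R := K) (by rw [o.dim]; omega)
  rcases red (TH.Cl.FSO.KSp.so o) c hF with ⟨ε, P⟩ | ⟨E, _, _, _, _, _, _, f, l, d⟩
  · exact FldSp.pair o hk c P
  · exact FldSp.fld o hk c d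

end Cfsg.Agent.N2C
end

-- part: N2/Cl/Sub/Tor
section
/-!
# N2 classical, classes C5 and C8: regular torus elements of the even orthogonal groups (helper47)

`torO`, `To.map`.
-/

set_option autoImplicit false
set_option linter.unusedSectionVars false

namespace Cfsg.Agent.N2C.Sub

open Cfsg Cfsg.Agent.DS.Cl Cfsg.Agent.DS.Cl.Fwd Module
open Cfsg.Agent.SB.Cl (IsO)
open Cfsg.Agent.N2C.Cyc
open Cfsg.Agent.N2C.Fld (TR)

theorem To.map {A B : Type} [Ring A] [StarRing A] [Ring B] [StarRing B] {e : A ≃+* B} (he : Size.SI e) {u : A} {N : ℕ}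
    (h : To u N) : To (e u) N := by
  have h1 : ∀ x, e x ∈ Subring.centralizer {e u} ↔ x ∈ Subring.centralizer {u} := fun x =>
    ⟨fun hx _ hy => e.injective (by rw [hy, map_mul, map_mul]; exact hx _ rfl), fun hx _ hy => by
      rw [hy, ← map_mul, ← map_mul, hx u rfl]⟩
  refine ⟨⟨fun x hx y hy => ?_, fun x hx => ?_, fun x hx k k0 => ?_, fun x hx k k0 => ?_⟩,
    fun k => h.ne (e.injective (by rw [he, k])), le_trans (le_of_eq (Nat.card_congr (e.toEquiv.subtypeEquiv fun x => ?_)).symm)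
      h.card⟩
  · obtain ⟨x, rfl⟩ := e.surjective x
    obtain ⟨y, rfl⟩ := e.surjective y
    rw [← map_mul, ← map_mul, h.tr.comm x ((h1 x).1 hx) y ((h1 y).1 hy)]
  · obtain ⟨x, rfl⟩ := e.surjective x
    rw [← he]
    exact (h1 _).2 (h.tr.star_mem x ((h1 x).1 hx))
  · obtain ⟨x, rfl⟩ := e.surjective x
    exact (h.tr.sym x ((h1 x).1 hx) (e.injective (by rw [he, k])) fun k1 => k0 (by rw [k1, map_zero])).map e
  · obtain ⟨x, rfl⟩ := e.surjective x
    exact (h.tr.skew x ((h1 x).1 hx) (e.injective (by rw [he, k, map_neg])) fun k1 => k0 (by rw [k1, map_zero])).map e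
  · change _ ↔ e x * e u = e u * e x
    rw [← map_mul, ← map_mul, e.injective.eq_iff]

variable {K V : Type} [Field K] [Fintype K] [AddCommGroup V] [Module K V] [Finite V] {h : HF K V} {F : FR h.EB}
  {Q : QuadraticForm K V}

namespace TorT

theorem sq_mem (o : IsO h F Q) (h5 : 5 ≤ finrank K V) {v : h.EBˣ} (hv : v ∈ F.Iso) : v * v ∈ I0 F := by
  have : Module.Finite K V := Module.Finite.of_finite
  have g := LieClassical.OrthFinite.good_of_finite (nondeg_of_O o) h5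
  rw [← Subgroup.mem_map_iff_mem (f := (unE h).toMonoidHom) (unE h).injective, Subgroup.map_commutator, map_Iso_O o,
    g.commutator_eq_E, map_mul]
  exact H875.KB.sq_mem_E g ((map_Iso_O o).le ⟨v, hv, rfl⟩)

theorem mem_I0_of_odd (o : IsO h F Q) (h5 : 5 ≤ finrank K V) {u : h.EBˣ} (hu : u ∈ F.Iso) {s : ℕ} (hs : Odd s)
    (h1 : u ^ s = 1) : u ∈ I0 F := by
  obtain ⟨t, rfl⟩ := hs
  have h2 := sq_mem o h5 (pow_mem hu (t + 1))
  rwa [← pow_add, show t + 1 + (t + 1) = 2 * t + 1 + 1 by ring, pow_succ, h1, one_mul] at h2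

theorem plus (o : IsO h F Q) (h6 : 6 ≤ finrank K V) (hP : H955.IsPlus Q) :
    ∃ u ∈ I0 F, To (u : h.EB) (Fintype.card K ^ finrank K V) := by
  have : Nontrivial V := Module.nontrivial_of_finrank_pos (R := K) (by omega)
  obtain ⟨ε, h1, h2, hL⟩ := Fld.eps_plus o hP
  obtain ⟨L, _, _, _, _, _, m, a1, a2, a3⟩ := FldSp.exists_split (E := K) o.1 h1 h2 fun z v => map_smul _ z v
  obtain ⟨g, g0, hg⟩ := FldSp.split_gen (K := K) (L := L) (r := 2) (by omega) (Or.inl rfl)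
  have b1 := m.uni (g := (g, g⁻¹)) (by rw [a2, Prod.mk_mul_mk, mul_inv_cancel₀ g0, inv_mul_cancel₀ g0]; rfl)
  have b2 : ε = m.j (1, 0) := h.ap_ext fun v => by simpa using (a3 1 v).symm
  have b3 : ((mkU _ b1 * mkU _ b1 : h.EBˣ) : h.EB) = m.j ((g, g⁻¹) ^ 2) := by rw [sq, map_mul]; rfl
  have b4 : Subring.centralizer {m.j ((g, g⁻¹) ^ 2)} = m.j.range := le_antisymm (fun x hx => m.mem hg (hx _ rfl)) (by
    rintro _ ⟨x, rfl⟩ _ rfl
    rw [← map_mul, ← map_mul, mul_comm])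
  refine ⟨_, sq_mem o (by omega) (Fld.mem_Iso_of hL (v := mkU _ b1) b1 ?_), ?_⟩
  · rw [mkU_val, b2, ← map_mul, mul_comm, map_mul, mul_assoc, b1, mul_one, sub_self]
    exact zero_mem _
  rw [b3]
  refine ⟨b4 ▸ m.tr_split a2, fun e => ?_, ?_⟩
  · rw [m.star_j, Prod.pow_mk, a2] at e
    have b5 : Algebra.adjoin K {((g, g⁻¹) : L × L) ^ 2} ≤ AlgHom.equalizer (AlgHom.fst K L L) (AlgHom.snd K L L) :=
      Algebra.adjoin_le (Set.singleton_subset_iff.2 (congrArg Prod.snd (m.inj e)))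
    exact one_ne_zero (b5 (hg.ge (Algebra.mem_top (x := ((1, 0) : L × L)))))
  · rw [← a1, two_mul, pow_add, ← card_V, ← Nat.card_prod]
    refine Nat.card_le_card_of_surjective (fun x => ⟨m.j x, (b4.ge ⟨x, rfl⟩ _ rfl).symm⟩) fun x => ?_
    obtain ⟨y, hy⟩ := m.mem hg x.2.symm
    exact ⟨y, Subtype.ext hy⟩

theorem minus (o : IsO h F Q) {m : ℕ} (hm : finrank K V = 2 * m) (h3 : 3 ≤ m) (h6 : ¬ (Fintype.card K = 2 ∧ m = 3))
    (hP : ¬ H955.IsPlus Q) : ∃ u ∈ I0 F, To (u : h.EB) (Fintype.card K ^ finrank K V) := by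
  have : Nontrivial V := Module.nontrivial_of_finrank_pos (R := K) (by omega)
  obtain ⟨s, hs⟩ := H689.exists_ppd (q := Nat.card K) (k := finrank K V) Finite.one_lt_card (by omega)
    (by rw [Nat.card_eq_fintype_card]; omega)
  have : Fact s.Prime := ⟨hs.prime⟩
  obtain ⟨⟨u, hu⟩, h1⟩ := exists_prime_orderOf_dvd_card' (G := F.Iso) s (by
    rw [card_Iso_O o, card_O_minus (nondeg_of_O o) (by omega) hm hP, oM, ← Nat.card_eq_fintype_card]
    exact (((H689.Ppd.dvd_add_one (hm ▸ hs) (by omega)).mul_left _).mul_right _).mul_left _)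
  replace h1 : orderOf u = s := (Subgroup.orderOf_coe (⟨u, hu⟩ : F.Iso)).trans h1
  have a1 : u ^ s = 1 := h1 ▸ pow_orderOf_eq_one u
  have a2 := hs.two_lt (by omega)
  have a3 : u * u ≠ 1 := fun e => by
    have := Nat.le_of_dvd two_pos (h1 ▸ orderOf_dvd_of_pow_eq_one ((sq u).trans e))
    omega
  have a4 : IrrV (h.ap u) := fun W hW => H62.PCGeo.irr (g := unE h u) hs (by rw [← map_pow, a1, map_one])
    (fun e => a3 (by rw [(unE h).map_eq_one_iff.1 e, mul_one])) hW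
  exact ⟨u, mem_I0_of_odd o (by omega) hu (hs.prime.odd_of_ne_two a2.ne') a1, Fld.tr_of_irr hu.1 a4,
    fun e => a3 (Units.ext (by have := hu.1; rwa [e] at this)), (cycV_of_irr a4).cA_le⟩

end TorT

/-- **regular torus elements** -/
theorem torO (o : IsO h F Q) (he : Even (finrank K V)) (hn : 8 ≤ finrank K V ∨ (finrank K V = 6 ∧ Odd (Fintype.card K))) :
    ∃ u ∈ I0 F, To (u : h.EB) (Fintype.card K ^ finrank K V) := by
  by_cases hP : H955.IsPlus Q
  · exact TorT.plus o (by omega) hP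
  · obtain ⟨m, hm⟩ := he
    refine TorT.minus o (hm.trans (two_mul m).symm) (by omega) (fun k => ?_) hP
    rcases hn with hn | hn
    · omega
    · exact absurd (k.1 ▸ hn.2) (by decide)

end Cfsg.Agent.N2C.Sub
end

-- part: N2/Cl/Sub/Filt
section
/-!
# N2 classical, classes C5 and C8 (helper89): fixed points of a regular unipotent element

`fx_le_tw` : the fixed cosets of `C_S(φ)` are twisted elements of the centraliser.  `Tp`, `lv` : the filtration of the
centraliser `C[ν]` by the powers of `ν`.  `fx_field`, `fx_graph` : the two bounds.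
-/

set_option autoImplicit false
set_option linter.unusedSectionVars false
set_option maxHeartbeats 400000

namespace Cfsg.Agent.N2C.Sub

open Cfsg Cfsg.Agent.DS.Cl Finset
open Cfsg.Agent.FP3 (fx)
open Cfsg.Agent.N2C.Cyc

theorem fx_le_tw {G : Type*} [Group G] [Finite G] {S : Subgroup G} {φ : G} (hφ : ∀ s ∈ S, φ * s * φ⁻¹ ∈ S) {a : S}
    (ha : φ * a = a * φ) {e : ℕ} (he : φ ^ e = 1) : fx ((Subgroup.centralizer {φ}).subgroupOf S) a ≤
      Nat.card {x : S // (x : G) * a = a * x ∧ ((x : G) * φ) ^ e = 1} := by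
  refine Nat.card_le_card_of_injective (fun z => ⟨⟨z.1.out * (φ * z.1.out⁻¹ * φ⁻¹), mul_mem z.1.out.2 (hφ _ z.1.out⁻¹.2)⟩,
    ?_, ?_⟩) fun z z' h => Subtype.ext ?_
  · have h1 := (N2.smul_mk_iff _ a z.1.out).1 (by rw [QuotientGroup.out_eq']; exact z.2)
    have h2 : φ * ((z.1.out : G)⁻¹ * a * z.1.out) = (z.1.out : G)⁻¹ * a * z.1.out * φ := h1 φ rfl
    change (z.1.out : G) * (φ * (z.1.out : G)⁻¹ * φ⁻¹) * a = a * (z.1.out * (φ * (z.1.out : G)⁻¹ * φ⁻¹))
    generalize (z.1.out : G) = t at h2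
    calc t * (φ * t⁻¹ * φ⁻¹) * a = t * (φ * (t⁻¹ * a * t)) * t⁻¹ * (a : G)⁻¹ * φ⁻¹ * a := by group
      _ = a * (t * (φ * t⁻¹)) * ((φ * a)⁻¹ * a) := by rw [h2]; group
      _ = _ := by rw [ha]; group
  · change ((z.1.out : G) * (φ * (z.1.out : G)⁻¹ * φ⁻¹) * φ) ^ e = 1
    rw [show ∀ t : G, t * (φ * t⁻¹ * φ⁻¹) * φ = t * φ * t⁻¹ from fun t => by group, conj_pow, he, mul_one, mul_inv_cancel]
  · have h1 : (z.1.out : G) * (φ * (z.1.out : G)⁻¹ * φ⁻¹) = z'.1.out * (φ * (z'.1.out : G)⁻¹ * φ⁻¹) :=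
      congrArg (fun x => (x.1 : G)) h
    rw [← QuotientGroup.out_eq' z.1, ← QuotientGroup.out_eq' z'.1, QuotientGroup.eq]
    refine Subgroup.mem_centralizer_singleton_iff.2 ?_
    change (z.1.out : G)⁻¹ * z'.1.out * φ = φ * ((z.1.out : G)⁻¹ * z'.1.out)
    generalize (z.1.out : G) = t, (z'.1.out : G) = t' at h1
    calc _ = t⁻¹ * (t' * (φ * t'⁻¹ * φ⁻¹)) * φ * t' * φ⁻¹ * φ := by group
      _ = _ := by rw [← h1]; group

section comm

variable {R : Type*} [CommRing R] {ν : R} {σ : R →+* R} {C : Subring R} {n : ℕ} {Y : Set R}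

/-- a truncated polynomial ring -/
structure Tp (ν : R) (C : Subring R) (n : ℕ) : Prop where
  nil : ν ^ n = 0
  dec : ∀ x, ∃ c ∈ C, ∃ y, x = c + ν * y
  ne : ∀ c ∈ C, c * ν ^ (n - 1) = 0 → c = 0

theorem Tp.cancel (h : Tp ν C n) {c y : R} (hc : c ∈ C) {i : ℕ} (hi : i < n) (k : ν ^ i * (c + ν * y) = 0) : c = 0 := by
  obtain ⟨j, rfl⟩ := Nat.exists_eq_add_of_lt hi
  exact h.ne c hc (by
    rw [Nat.add_sub_cancel]
    linear_combination ν ^ j * k - y * h.nil)

/-- the number of elements of level `i` -/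
noncomputable def lv (Y : Set R) (ν : R) (i : ℕ) : ℕ := Nat.card {w // w ∈ Y ∧ ∃ y, w = 1 + ν ^ i * y}

theorem lv_top [Finite R] (h : ν ^ n = 0) : lv Y ν n ≤ 1 :=
  Finite.card_le_one_iff_subsingleton.2 ⟨fun ⟨_, _, _, h1⟩ ⟨_, _, _, h2⟩ => Subtype.ext (h1.trans (Eq.trans (by
    rw [h, zero_mul, zero_mul]) h2.symm))⟩

theorem lv_step [Finite R] (h : Tp ν C n) (h1 : ∀ w ∈ Y, w * σ w = 1) (h2 : ∀ w ∈ Y, ∀ w' ∈ Y, w * σ w' ∈ Y) {i : ℕ}
    {T : Set R} (hT : ∀ w ∈ Y, ∀ t ∈ C, ∀ y, w = 1 + ν ^ i * (t + ν * y) → t ∈ T) :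
    lv Y ν i ≤ Nat.card T * lv Y ν (i + 1) := by
  have k : ∀ w : {w // w ∈ Y ∧ ∃ y, w = 1 + ν ^ i * y}, ∃ (t : T) (y : R), w.1 = 1 + ν ^ i * (t + ν * y) := fun w => by
    obtain ⟨y, hy⟩ := w.2.2
    obtain ⟨t, ht, z, rfl⟩ := h.dec y
    exact ⟨⟨t, hT _ w.2.1 t ht z hy⟩, z, hy⟩
  choose t y hy using k
  rcases isEmpty_or_nonempty {w // w ∈ Y ∧ ∃ y, w = 1 + ν ^ i * y} with h0 | h0
  · exact (Nat.card_of_isEmpty (α := {w // w ∈ Y ∧ ∃ y, w = 1 + ν ^ i * y})).le.trans (Nat.zero_le _)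
  rw [lv, lv, ← Nat.card_prod]
  refine Nat.card_le_card_of_injective (fun w => (t w, ⟨w.1 * σ (Function.invFun t (t w)).1, h2 _ w.2.1 _ (Function.invFun t (t w)).2.1,
    (y w - y (Function.invFun t (t w))) * σ (Function.invFun t (t w)).1, ?_⟩)) fun w w' k => Subtype.ext ?_
  · have h3 := hy (Function.invFun t (t w))
    rw [Function.invFun_eq (f := t) ⟨w, rfl⟩] at h3
    linear_combination (hy w - h3) * σ (Function.invFun t (t w)).1 + h1 _ (Function.invFun t (t w)).2.1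
  · have h3 : t w = t w' := congrArg Prod.fst k
    have h4 : w.1 * σ (Function.invFun t (t w)).1 = w'.1 * σ (Function.invFun t (t w')).1 := congrArg (fun z => z.2.1) k
    rw [h3] at h4
    linear_combination (Function.invFun t (t w')).1 * h4 - (w.1 - w'.1) * h1 _ (Function.invFun t (t w')).2.1

theorem lv_le [Finite R] (h : ν ^ n = 0) {a c : ℕ} (hc : ∀ i, a ≤ i → i < n → lv Y ν i ≤ c * lv Y ν (i + 1)) (k : ℕ) :
    ∀ i, a ≤ i → i + k = n → lv Y ν i ≤ c ^ k := by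
  induction k with
  | zero => exact fun i _ hi => lv_top (by rwa [← hi] at h)
  | succ k ih =>
    exact fun i h1 h2 => (hc i h1 (by omega)).trans (pow_succ' c k ▸ Nat.mul_le_mul_left _ (ih _ (by omega) (by omega)))

theorem sg_pow (hσ : (1 + ν) * (1 + σ ν) = 1) (i : ℕ) : ∃ k, σ ν ^ i = ν ^ i * ((-1) ^ i * (1 - i * ν) + ν ^ 2 * k) := by
  induction i with
  | zero => exact ⟨0, by simp only [_root_.pow_zero, _root_.Nat.cast_zero, _root_.MulZeroClass.zero_mul, _root_.sub_zero, _root_.mul_one, _root_.MulZeroClass.mul_zero, _root_.add_zero]⟩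
  | succ i ih =>
    obtain ⟨k, hk⟩ := ih
    refine ⟨(-1) ^ i * (-i - (1 + σ ν) * (1 - i * ν)) - k * (1 + σ ν), ?_⟩
    rw [pow_succ, hk]
    push_cast
    linear_combination ν ^ i * ((-1) ^ i * (1 - i * ν) * (1 - ν + ν ^ 2) + ν ^ 2 * k) * hσ

/-- unitary elements -/
theorem Tp.uni (h : Tp ν C n) (hσ : (1 + ν) * (1 + σ ν) = 1) (hC : ∀ c ∈ C, σ c ∈ C) {i : ℕ} (h0 : 0 < i) (hi : i < n)
    {t y : R} (ht : t ∈ C) (k : (1 + ν ^ i * (t + ν * y)) * σ (1 + ν ^ i * (t + ν * y)) = 1) :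
    t + (-1) ^ i * σ t = 0 := by
  obtain ⟨z, hz⟩ := sg_pow hσ i
  simp only [map_add, map_mul, map_one, map_pow, hz] at k
  obtain ⟨j, hj⟩ : ∃ j, ν ^ i = ν * j := dvd_pow_self ν h0.ne'
  refine h.cancel (add_mem ht (mul_mem (pow_mem (neg_mem (one_mem C)) i) (hC t ht))) hi
    (y := y + (-(-1) ^ i * i + ν * z) * σ t - ((-1) ^ i * (1 - i * ν) + ν ^ 2 * z) * (1 + σ ν) * σ y +
      j * (t + ν * y) * ((-1) ^ i * (1 - i * ν) + ν ^ 2 * z) * (σ t + σ ν * σ y)) ?_
  rw [hj] at k ⊢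
  linear_combination k - ν * j * ((-1) ^ i * (1 - i * ν) + ν ^ 2 * z) * σ y * hσ

theorem prod_lv {ι : Type*} (s : Finset ι) {i : ℕ} (h0 : 0 < i) (t y : ι → R) :
    ∃ z, ∏ j ∈ s, (1 + ν ^ i * (t j + ν * y j)) = 1 + ν ^ i * (∑ j ∈ s, t j + ν * z) := by
  classical
  obtain ⟨m, rfl⟩ := Nat.exists_eq_add_of_lt h0
  induction s using Finset.induction_on with
  | empty => exact ⟨0, by simp⟩
  | insert a s ha ih =>
    obtain ⟨z, hz⟩ := ih
    refine ⟨y a + z + ν ^ (0 + m) * (t a + ν * y a) * (∑ j ∈ s, t j + ν * z), ?_⟩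
    rw [prod_insert ha, sum_insert ha, hz]
    ring

/-- odd levels of elements fixed by the involution -/
theorem Tp.odd (h : Tp ν C n) (hσ : (1 + ν) * (1 + σ ν) = 1) (hC : ∀ c ∈ C, σ c = c) {i : ℕ} (h0 : Odd i) (hi : i + 1 < n)
    {t y : R} (ht : t ∈ C) (k : σ (1 + ν ^ i * (t + ν * y)) = 1 + ν ^ i * (t + ν * y)) : t = 0 := by
  obtain ⟨s, hs, y, rfl⟩ := h.dec y
  obtain ⟨z, hz⟩ := sg_pow hσ i
  obtain ⟨m, hm⟩ : ∃ m, σ ν = -ν + ν ^ 2 * m := ⟨1 + σ ν, by linear_combination (1 - ν) * hσ⟩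
  simp only [map_add, map_mul, map_one, map_pow, hz, hC t ht, hC s hs, h0.neg_one_pow] at k
  rw [hm] at k
  obtain ⟨W, hW⟩ : ∃ W, ν ^ i * (-(t + t) + ν * (i * t + ν * W)) = 0 := ⟨z * t - i * s - ν * z * s +
    (-(1 - i * ν) + ν ^ 2 * z) * (m * s + (-1 + ν * m) ^ 2 * σ y) - y, by linear_combination k⟩
  have h1 := h.cancel (neg_mem (add_mem ht ht)) (by omega) hW
  have h2 := h.cancel (mul_mem (natCast_mem C i) ht) hi (y := W) (by linear_combination hW - ν ^ i * h1)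
  obtain ⟨j, rfl⟩ := h0
  push_cast at h2
  linear_combination h2 + j * h1

end comm

variable {A : Type} [Ring A] [StarRing A] [Finite A] {n : ℕ}

section cn

variable {u : A}

omit [StarRing A] [Finite A] in
theorem Jd.isCyc (j : Jd u n) : IsCyc u := fun x y hx hy => by
  have k : ∀ (i : ℕ) x, x * u = u * x → ∃ z, x * y - y * x = (u - 1) ^ i * z := fun i => by
    induction i with
    | zero => exact fun x _ => ⟨_, by rw [pow_zero, one_mul]⟩
    | succ i ih =>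
      intro x hx
      obtain ⟨c, hc, x', h1, rfl⟩ := j.cen x hx
      obtain ⟨z, hz⟩ := ih x' h1
      refine ⟨z, ?_⟩
      have h2 : y * (u - 1) = (u - 1) * y := by rw [mul_sub, sub_mul, hy, mul_one, one_mul]
      rw [pow_succ', mul_assoc, ← hz, add_mul, mul_add, cen_comm hc, ← mul_assoc y, h2]
      noncomm_ring
  obtain ⟨z, hz⟩ := k n x hx
  rwa [j.nil, zero_mul, sub_eq_zero] at hz

/-- the nilpotent part -/
def nu (h : IsCyc u) : Cn h := Cn.mk h u rfl - 1

/-- the scalars -/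
def sc (h : IsCyc u) : Subring (Cn h) := (Subring.center A).comap Cn.val

/-- restriction of automorphisms -/
def rs (h : IsCyc u) {γ : RingAut A} (hγ : γ u = u) : Cn h →+* Cn h where
  toFun x := Cn.mk h (γ (Cn.val x)) (by simpa only [map_mul, hγ] using congrArg γ x.comm)
  map_one' := Cn.val_inj (map_one γ)
  map_mul' _ _ := Cn.val_inj (map_mul γ _ _)
  map_zero' := Cn.val_inj (map_zero γ)
  map_add' _ _ := Cn.val_inj (map_add γ _ _)

theorem val_rs (h : IsCyc u) {γ : RingAut A} (hγ : γ u = u) (x : Cn h) : Cn.val (rs h hγ x) = γ (Cn.val x) := rfl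

theorem rs_nu (h : IsCyc u) {γ : RingAut A} (hγ : γ u = u) : rs h hγ (nu h) = nu h :=
  Cn.val_inj ((map_sub γ u 1).trans (by rw [hγ, map_one]; rfl))

theorem Jd.tp (j : Jd u n) : Tp (nu j.isCyc) (sc j.isCyc) n where
  nil := Cn.val_inj (by rw [map_pow, map_zero]; exact j.nil)
  dec x := let ⟨c, hc, y, h1, h2⟩ := j.cen _ x.comm
    ⟨Cn.mk _ c (cen_comm hc u).symm, hc, Cn.mk _ y h1, Cn.val_inj h2⟩
  ne c hc h := Cn.val_inj (j.ne _ hc (by
    have h1 := congrArg Cn.val h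
    rwa [map_mul, map_pow] at h1))

theorem nu_sg (h : IsCyc u) (hu : u * star u = 1) : (1 + nu h) * (1 + Cn.sg h hu (nu h)) = 1 := by
  rw [nu, map_sub, map_one, add_sub_cancel, add_sub_cancel]
  exact Cn.val_inj hu

/-- the unitary elements of norm one -/
def tw (h : IsCyc u) (hu : u * star u = 1) {φ : RingAut A} (hφ : φ u = u) (e : ℕ) : Set (Cn h) :=
  {w | w * Cn.sg h hu w = 1 ∧ ∏ k ∈ range e, rs h (pow_fix hφ k) w = 1}

theorem tw_mul (h : IsCyc u) (hu : u * star u = 1) {φ : RingAut A} (hs : φ ∈ SAut A) (hφ : φ u = u) (e : ℕ) :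
    ∀ w ∈ tw h hu hφ e, ∀ w' ∈ tw h hu hφ e, w * Cn.sg h hu w' ∈ tw h hu hφ e := fun w hw w' hw' => by
  refine ⟨?_, ?_⟩
  · rw [map_mul, Cn.sg_sg]
    linear_combination (w' * Cn.sg h hu w') * hw.1 + hw'.1
  · have h1 : ∀ k, rs h (pow_fix hφ k) (Cn.sg h hu w') = Cn.sg h hu (rs h (pow_fix hφ k) w') := fun k =>
      Cn.val_inj ((SAut A).pow_mem hs k _)
    simp only [map_mul, h1, prod_mul_distrib, ← map_prod, hw.2, hw'.2, map_one, mul_one]

theorem cj_pow (h : IsCyc u) {φ : RingAut A} (hφ : φ u = u) {W : Aˣ} {w : Cn h} (hw : (W : A) = Cn.val w) (e : ℕ) :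
    ∃ v : Aˣ, (v : A) = Cn.val (∏ k ∈ range e, rs h (pow_fix hφ k) w) ∧ (cj A W * φ) ^ e = cj A v * φ ^ e := by
  induction e with
  | zero => exact ⟨1, by simp, by simp⟩
  | succ e ih =>
    obtain ⟨v, h1, h2⟩ := ih
    refine ⟨v * um (φ ^ e) W, by rw [prod_range_succ, map_mul, val_rs, ← h1, ← hw]; rfl, ?_⟩
    rw [pow_succ, h2, map_mul, ← conj_cj]
    group

end cn

variable {F : FR A} {u : Aˣ} {φ : RingAut A} {e : ℕ}

omit [Finite A] in
theorem comm_el (hu : u ∈ I0 F) (hφ : φ u = u) : φ * (el hu : F.S) = (el hu : F.S) * φ := by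
  have h1 := conj_cj φ u
  rw [show um φ u = u from Units.ext hφ] at h1
  exact mul_inv_eq_iff_eq_mul.1 h1

theorem fx_le_lv (ss : SS A) (hφ : φ ∈ F.Aut) (he : φ ^ e = 1) (hu : u ∈ I0 F) (h1 : φ u = u) (j : Jd (u : A) n)
    (hn : 0 < n) : fx ((Subgroup.centralizer {φ}).subgroupOf F.S) (el hu) ≤
      lv (tw j.isCyc (FR.comm_le_Iso hu).1 h1 e) (nu j.isCyc) 1 := by
  have := finAut (A := A)
  refine (fx_le_tw (fun _ => FR.conj_mem_S hφ) (comm_el hu h1) he).trans ?_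
  have k : ∀ x : {x : F.S // (x : RingAut A) * el hu = el hu * x ∧ ((x : RingAut A) * φ) ^ e = 1},
      ∃ (w : {w // w ∈ tw j.isCyc (FR.comm_le_Iso hu).1 h1 e ∧ ∃ y, w = 1 + nu j.isCyc ^ 1 * y}) (W : Aˣ),
        (W : A) = Cn.val w.1 ∧ (x.1 : RingAut A) = cj A W := by
    rintro ⟨⟨_, v, hv, rfl⟩, h2, h3⟩
    obtain ⟨z, hz, h4⟩ := cj_eq_iff.1 (show cj A (v * u) = cj A (u * v) by rw [map_mul, map_mul]; exact h2)
    have h5 : (z : A) = 1 := by
      have h5 : cj A v (u : A) = (u : A) * z := cj_eq_of_mul (by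
        rw [mul_assoc, ← cen_comm hz, ← mul_assoc]; exact congrArg Units.val h4)
      have h6 : IsNilpotent (cj A v ((u : A) - 1)) := IsNilpotent.map ⟨n, j.nil⟩ _
      rw [map_sub, map_one, h5] at h6
      have c1 : Commute (u : A) z := cen_comm hz u
      have c2 : Commute (z : A) (u - 1) := c1.symm.sub_right (Commute.one_right _)
      have h7 := Commute.isNilpotent_sub (((((Commute.refl _).sub_right (Commute.one_right _)).mul_right c1).mul_left
        (c2.mul_right (Commute.refl _))).sub_left (Commute.one_left _)) h6 (c2.symm.isNilpotent_mul_right ⟨n, j.nil⟩)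
      refine sub_eq_zero.1 (cen_nil ss (sub_mem hz (one_mem _)) ?_)
      convert h7 using 1
      noncomm_ring
    have h6 : (v : A) * u = u * v := by simpa [h5] using congrArg Units.val h4
    obtain ⟨c, hc, y, h7⟩ := j.tp.dec (Cn.mk _ v h6)
    set σ := Cn.sg j.isCyc (FR.comm_le_Iso hu).1
    have hσ := nu_sg j.isCyc (FR.comm_le_Iso hu).1
    have h8 : Cn.mk j.isCyc v h6 * σ (Cn.mk _ v h6) = 1 := Cn.val_inj (FR.comm_le_Iso hv).1
    have h9 : c * σ c - 1 = 0 := j.tp.cancel (sub_mem (mul_mem hc (star_cen hc)) (one_mem _)) hn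
      (y := y * σ c - (c + nu _ * y) * (1 + σ (nu _)) * σ y) (by
        rw [h7, map_add, map_mul] at h8
        linear_combination h8 - (c + nu _ * y) * σ y * hσ)
    have h10 : Cn.val c * star (Cn.val c) = 1 := congrArg Cn.val (sub_eq_zero.1 h9)
    have h11 : ((v * (mkU _ h10)⁻¹ : Aˣ) : A) = Cn.val (Cn.mk j.isCyc v h6 * σ c) := rfl
    have h12 : cj A v = cj A (v * (mkU _ h10)⁻¹) := (cj_eq_iff.2 ⟨_, inv_cen (u := mkU _ h10) hc, rfl⟩).symm
    have h13 : Cn.mk j.isCyc v h6 * σ c = 1 + nu _ ^ 1 * (y * σ c) := by linear_combination σ c * h7 + h9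
    refine ⟨⟨_, ⟨?_, ?_⟩, _, h13⟩, _, h11, h12⟩
    · rw [map_mul, Cn.sg_sg]
      linear_combination (c * σ c) * h8 + h9
    · obtain ⟨v', h14, h15⟩ := cj_pow j.isCyc h1 h11 e
      rw [← h12, h3, he, mul_one, eq_comm, cj_eq_one_iff, h14] at h15
      obtain ⟨z, hz⟩ := prod_lv (ν := nu j.isCyc) (range e) one_pos (fun k => rs _ (pow_fix h1 k) (y * σ c)) fun _ => 0
      generalize _ + nu _ * z = z' at hz
      simp only [mul_zero, add_zero] at hz
      refine sub_eq_zero.1 (j.tp.cancel (sub_mem h15 (one_mem _)) hn (y := -z') ?_)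
      simp only [h13, map_add, map_one, map_mul (rs _ _) (nu _ ^ 1), map_pow, rs_nu, hz]
      ring
  choose w W h2 h3 using k
  refine Nat.card_le_card_of_injective w fun x x' h => Subtype.ext (Subtype.ext ?_)
  rw [h3, h3, Units.ext ((h2 x).trans (h ▸ (h2 x').symm))]

variable (A) in
/-- the symmetric or skew central elements -/
def Mi (i : ℕ) : AddSubgroup A where
  carrier := {t | t ∈ Subring.center A ∧ t + (-1) ^ i * star t = 0}
  add_mem' ha hb := ⟨add_mem ha.1 hb.1, by rw [star_add, mul_add, add_add_add_comm, ha.2, hb.2, add_zero]⟩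
  zero_mem' := ⟨zero_mem _, by simp only [_root_.star_zero, _root_.MulZeroClass.mul_zero, _root_.add_zero]⟩
  neg_mem' ha := ⟨neg_mem ha.1, by rw [star_neg, mul_neg, ← neg_add, ha.2, neg_zero]⟩

theorem card_Mi (ss : SS A) (i : ℕ) : Nat.card (Mi A i) ≤ Nat.card (C0 A) := by
  have k : (∀ t ∈ Mi A i, star t = t) ∨ ∀ t ∈ Mi A i, star t = -t := by
    rcases neg_one_pow_eq_or A i with h | h
    · exact Or.inr fun t ht => eq_neg_of_add_eq_zero_right (by simpa only [h, _root_.one_mul] using ht.2)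
    · exact Or.inl fun t ht => (add_neg_eq_zero.1 (by simpa only [h, _root_.neg_mul, _root_.one_mul] using ht.2)).symm
  rcases k with k | k
  · exact Nat.card_le_card_of_injective (fun t => ⟨t.1, t.2.1, k _ t.2⟩) fun _ _ h =>
      Subtype.ext (congrArg (Subtype.val (p := (· ∈ C0 A))) h)
  rcases (Mi A i).bot_or_exists_ne_zero with h | ⟨d, hd, h0⟩
  · rw [h, AddSubgroup.card_bot]
    exact Nat.card_pos
  · exact Nat.card_le_card_of_injective (fun t => ⟨d * t.1, mul_mem hd.1 t.2.1, by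
      rw [star_mul, k _ t.2, k _ hd, neg_mul_neg, cen_comm hd.1]⟩) fun _ _ h =>
      Subtype.ext ((isUnit_skew ss hd.1 (k d hd) h0).mul_left_cancel (congrArg Subtype.val h))

theorem lv_uni (hφ : φ ∈ F.Aut) (hu : u ∈ F.Iso) (h1 : φ u = u) (j : Jd (u : A) n) {i : ℕ} (h0 : 0 < i) (hi : i < n) :
    lv (tw j.isCyc hu.1 h1 e) (nu j.isCyc) i ≤
      Nat.card ↥(Mi A i ⊓ (tr φ e).ker) * lv (tw j.isCyc hu.1 h1 e) (nu j.isCyc) (i + 1) := by
  refine (lv_step j.tp (fun _ h => h.1) (tw_mul _ _ hφ.1 _ _) (T := {t | Cn.val t ∈ Mi A i ⊓ (tr φ e).ker}) ?_).trans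
    (Nat.mul_le_mul_right _ (Nat.card_le_card_of_injective (fun t => ⟨Cn.val t.1, t.2⟩) fun _ _ h =>
      Subtype.ext (Cn.val_inj (congrArg (Subtype.val (p := (· ∈ Mi A i ⊓ (tr φ e).ker))) h))))
  rintro _ ⟨h2, h3⟩ t ht y rfl
  refine ⟨⟨ht, ?_⟩, ?_⟩
  · have h4 := congrArg Cn.val (j.tp.uni (nu_sg _ hu.1) (fun _ => star_cen) h0 hi ht h2)
    rwa [map_add, map_mul, map_pow, map_neg, map_one] at h4
  · obtain ⟨z, hz⟩ := prod_lv (ν := nu j.isCyc) (range e) h0 (fun k => rs _ (pow_fix h1 k) t) fun k => rs _ (pow_fix h1 k) y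
    simp only [map_add, map_one, map_mul, map_pow, rs_nu, hz, add_eq_left] at h3
    have h4 := congrArg Cn.val (j.tp.cancel (Subring.sum_mem _ fun k _ => map_cen _ ht) hi h3)
    rw [map_sum, sum_range] at h4
    exact h4

/-- **field automorphisms** -/
theorem fx_field (ss : SS A) (hφ : φ ∈ F.Aut) {c : A} (g : Gal φ e c) (hc : c ∈ C0 A) (hu : u ∈ I0 F) (h1 : φ u = u)
    (j : Jd (u : A) n) (hn : 0 < n) {q : ℕ} (hq : Nat.card (C0 A) = q ^ e) :
    fx ((Subgroup.centralizer {φ}).subgroupOf F.S) (el hu) ≤ (q ^ (e - 1)) ^ (n - 1) := by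
  refine (fx_le_lv ss hφ g.pow hu h1 j hn).trans (lv_le j.tp.nil (a := 1) (fun i h0 hi =>
    (lv_uni hφ (FR.comm_le_Iso hu) h1 j h0 hi).trans (Nat.mul_le_mul_right _ ?_)) _ 1 le_rfl (by omega))
  have s : St φ c (Mi A i) := ⟨fun t ht => ⟨map_cen _ ht.1, by
    simpa only [map_add, map_mul, map_pow, map_neg, map_one, map_zero, hφ.1 t] using congrArg φ ht.2⟩, fun t ht =>
    ⟨mul_mem hc.1 ht.1, by rw [star_mul, hc.2, ← mul_assoc, cen_comm hc.1, ← mul_add, ht.2, mul_zero]⟩⟩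
  have h2 := card_Mi ss i
  rw [hq, g.card_eq s, Nat.pow_le_pow_iff_left g.pos.ne'] at h2
  exact (g.card_ker s).trans_le (Nat.pow_le_pow_left h2 _)

theorem lv_odd (hφ : φ ∈ F.Aut) (h2 : ∀ z ∈ Subring.center A, φ z = star z) (hu : u ∈ F.Iso) (h1 : φ u = u)
    (j : Jd (u : A) n) {i : ℕ} (h0 : Odd i) (hi : i + 1 < n) :
    lv (tw j.isCyc hu.1 h1 2) (nu j.isCyc) i ≤ lv (tw j.isCyc hu.1 h1 2) (nu j.isCyc) (i + 1) := by
  refine (lv_step j.tp (fun _ h => h.1) (tw_mul _ _ hφ.1 _ _) (T := {0}) ?_).trans (by simp)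
  rintro w ⟨h3, h4⟩ t ht y hw
  refine j.tp.odd (σ := (Cn.sg _ hu.1).comp (rs _ h1)) (by rw [RingHom.comp_apply, rs_nu, nu_sg]) (fun c hc => Cn.val_inj
    ((congrArg star (h2 _ hc)).trans (star_star _))) h0 hi ht (y := y) ?_
  have h5 : w * rs _ h1 w = 1 := by
    rw [prod_range_succ, prod_range_one] at h4
    exact Cn.val_inj (by simpa only [map_mul, val_rs, pow_zero, pow_one, ra_one] using congrArg Cn.val h4)
  have h6 : rs _ h1 w = Cn.sg _ hu.1 w := by linear_combination Cn.sg _ hu.1 w * h5 - rs _ h1 w * h3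
  rw [← hw, RingHom.comp_apply, h6, Cn.sg_sg]

/-- **graph automorphisms** -/
theorem fx_graph (ss : SS A) (hφ : φ ∈ F.Aut) (he : φ ^ 2 = 1) (h2 : ∀ z ∈ Subring.center A, φ z = star z) (hu : u ∈ I0 F)
    (h1 : φ u = u) (j : Jd (u : A) n) (hn : 5 ≤ n) :
    fx ((Subgroup.centralizer {φ}).subgroupOf F.S) (el hu) ≤ Nat.card (C0 A) ^ (n - 3) := by
  have k := fun i h0 hi => (lv_uni (e := 2) hφ (FR.comm_le_Iso hu) h1 j (i := i) h0 hi).trans
    (Nat.mul_le_mul_right _ ((AddSubgroup.card_le_of_le inf_le_left).trans (card_Mi ss i)))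
  refine (fx_le_lv ss hφ he hu h1 j (by omega)).trans ((lv_odd hφ h2 (FR.comm_le_Iso hu) h1 j odd_one (by omega)).trans
    ((k 2 two_pos (by omega)).trans ?_))
  rw [show n - 3 = n - 4 + 1 by omega, pow_succ']
  exact Nat.mul_le_mul_left _ ((lv_odd hφ h2 (FR.comm_le_Iso hu) h1 j (by decide) (by omega)).trans
    (lv_le j.tp.nil (a := 1) k _ 4 (by omega) (by omega)))

end Cfsg.Agent.N2C.Sub
end

-- part: N2/Cl/Sub/Red
section
/-!
# N2 classical, classes C5 and C8 (helper89): the form ring of fixed points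

`Dn F φ F0 ι` : `ι` maps the form ring `F0` onto the fixed ring of `φ`; `dn_field`, `dn_graph`; transfer of orders,
of `Jd` and of `To`.
-/

set_option autoImplicit false
set_option linter.unusedSectionVars false
set_option maxHeartbeats 400000

namespace Cfsg.Agent.N2C.Sub

open Cfsg Cfsg.Agent.DS.Cl Finset
open Cfsg.Agent.N2C.Cyc
open Cfsg.Agent.N2C.Size (UC card_conf_le)

variable {A A0 : Type} [Ring A] [StarRing A] [Ring A0] [StarRing A0]

/-- the form ring of fixed points -/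
structure Dn (F : FR A) (φ : RingAut A) (F0 : FR A0) (ι : A0 →+* A) : Prop where
  ss : SS A0
  inj : Function.Injective ι
  fix : ∀ y, φ (ι y) = ι y
  surj : ∀ x, φ x = x → ∃ y, ι y = x
  st : ∀ y, ι (star y) = star (ι y)
  L : ∀ y, y ∈ F0.L ↔ ι y ∈ F.L
  l : F.l - ι F0.l ∈ F.L
  card : Nat.card ((Subgroup.centralizer {φ}).subgroupOf F.S) * Nat.card (UC A0) ≤ 2 * Nat.card F0.Iso

variable [Finite A] [Finite A0] {F : FR A} {φ : RingAut A} {e : ℕ} {c : A} {F0 : FR A0} {ι : A0 →+* A}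

theorem exists_dn (ss : SS A) (hφ : φ ∈ F.Aut) (g : Gal φ e c) {l : A} (h1 : φ l = l) (h2 : F.l - l ∈ F.L)
    (h3 : F.L = Lmax A ∨ ∀ a, φ (a - star a) = a - star a → ∃ b, φ b = b ∧ a - star a = b - star b) :
    ∃ (A0 : Type) (_ : Ring A0) (_ : StarRing A0) (_ : Finite A0) (F0 : FR A0) (ι : A0 →+* A), Dn F φ F0 ι := by
  let B : BD F := ⟨fB hφ.1, l, h1, TH.Cl.FSO.l_add h2, h3, Or.inr (g.ss ss hφ.1)⟩
  have := finAut (A := B.toBlk.T)
  refine ⟨B.toBlk.T, inferInstance, inferInstance, inferInstance, B.fr, ⟨⟨⟨B.toBlk.val, rfl⟩, fun _ _ => rfl⟩, rfl,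
    fun _ _ => rfl⟩, g.ss ss hφ.1, B.toBlk.val_inj, fun y => y.2, fun x hx => ⟨B.toBlk.mk' x hx, rfl⟩, fun _ => rfl,
    fun _ => Iff.rfl, h2, le_trans (Nat.mul_le_mul_right _ ?_) (card_conf_le (g.ss ss hφ.1) B.fr)⟩
  have k : ∀ γ : (Subgroup.centralizer {φ}).subgroupOf F.S, γ.1.1 ∈ B.toBlk.stab := fun γ =>
    Blk.mem_stab (B := fB hφ.1) (K := Subgroup.centralizer {φ}) (fun δ hδ x (hx : φ x = x) => show φ (δ x) = δ x by
      rw [← ra_mul, hδ φ rfl, ra_mul, hx]) γ.2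
  have hl : ∀ γ : F.S, γ.1 ∈ Lin A := fun γ => F.PI_le_Lin (F.S_le_PI γ.2)
  refine Nat.card_le_card_of_injective (fun γ => ⟨B.toBlk.res ⟨_, k γ⟩, B.res_mem (F.S_le_Aut γ.1.2).1 ?_, fun z hz =>
    B.toBlk.val_inj (hl _ _ ((g.mem_center hφ.1).1 hz))⟩) fun γ δ h => Subtype.ext (Subtype.ext (RingEquiv.ext fun x => ?_))
  · have h4 := F.S_le_Aut γ.1.2
    convert F.L.add_mem (F.L.sub_mem h4.2 (F.map_mem h4.1 h2)) h2 using 1
    change γ.1.1 l - l = _
    rw [map_sub]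
    abel
  · refine g.ind st_top (N := (RingHom.eqLocus (γ.1.1 : A →+* A) (δ.1.1 : A →+* A)).toAddSubgroup) (fun i y _ hy => ?_)
      (AddSubgroup.mem_top x)
    have h4 : γ.1.1 y = δ.1.1 y := congrArg (fun z => B.toBlk.val (z.1 (B.toBlk.mk' y hy))) h
    change γ.1.1 _ = δ.1.1 _
    rw [map_mul, map_mul, h4, hl _ _ (pow_mem g.cen i), hl _ _ (pow_mem g.cen i)]

omit [Finite A] in
theorem c0_mul_mem (F : FR A) {d x : A} (hd : d ∈ C0 A) (hx : x ∈ F.L) : d * x ∈ F.L := by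
  rcases F.par with h | h <;> rw [h] at hx ⊢
  · obtain ⟨a, rfl⟩ := hx
    exact ⟨d * a, by rw [star_mul, hd.2, cen_comm hd.1, mul_sub]⟩
  · change star (d * x) = -(d * x)
    rw [star_mul, hd.2, cen_comm hd.1, show star x = -x from hx, mul_neg]

omit [Finite A] in
theorem st_C0 (hφ : φ ∈ SAut A) (hc : c ∈ C0 A) : St φ c (C0 A).toAddSubgroup :=
  ⟨fun x hx => ⟨map_cen φ hx.1, by rw [← hφ, hx.2]⟩, fun _ => Subring.mul_mem _ hc⟩

omit [Finite A] [StarRing A] in
theorem st_cen (hc : c ∈ Subring.center A) : St φ c (Subring.center A).toAddSubgroup :=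
  ⟨fun _ => map_cen φ, fun _ => Subring.mul_mem _ hc⟩

omit [Finite A] in
theorem st_L (hφ : φ ∈ SAut A) (hc : c ∈ C0 A) : St φ c F.L := ⟨fun _ => F.map_mem hφ, fun _ => c0_mul_mem F hc⟩

omit [Finite A] [StarRing A] in
theorem st_cent (hc : c ∈ Subring.center A) {u : A} (hu : φ u = u) : St φ c (Subring.centralizer {u}).toAddSubgroup :=
  ⟨by
    rintro x hx _ rfl
    simpa only [map_mul, hu] using congrArg φ (hx _ rfl), by
    rintro x hx _ rfl
    rw [← mul_assoc, cen_comm hc, mul_assoc, hx _ rfl, mul_assoc]⟩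

/-- **field and graph-field automorphisms** -/
theorem dn_field (ss : SS A) (hφ : φ ∈ F.Aut) (g : Gal φ e c) (hc : c ∈ C0 A) :
    ∃ (A0 : Type) (_ : Ring A0) (_ : StarRing A0) (_ : Finite A0) (F0 : FR A0) (ι : A0 →+* A), Dn F φ F0 ι := by
  obtain ⟨d, hd, h⟩ := g.exists_tr (st_C0 hφ.1 hc) (C0 A).one_mem (map_one φ)
  refine exists_dn ss hφ g (g.tr_fix (d * F.l)) ?_ (Or.inr fun a ha => ⟨_, g.tr_fix (d * a), ?_⟩)
  · have h1 : F.l = tr φ e d * F.l := by rw [h, one_mul]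
    nth_rw 1 [h1]
    rw [tr_apply, tr_apply, sum_mul, ← sum_sub_distrib]
    refine F.L.sum_mem fun j _ => ?_
    rw [map_mul, ← mul_sub, ← neg_sub]
    exact c0_mul_mem F ((st_C0 hφ.1 hc).pow_map j d hd) (F.L.neg_mem (F.Aut.pow_mem hφ j).2)
  · rw [star_tr hφ.1, star_mul, hd.2, cen_comm hd.1, ← map_sub, ← mul_sub, tr_mul' ha, h, one_mul]

omit [Finite A] in
theorem tr_two (x : A) : tr φ 2 x = x + φ x := by simp [tr_apply]

theorem L_graph (g : Gal φ 2 c) (h : ∀ z ∈ Subring.center A, φ z = star z) : F.L = Lmax A := by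
  obtain ⟨d, hd, k⟩ := g.exists_one
  exact F.L_eq hd (by rw [← h d hd, ← tr_two, k])

/-- characteristic two: the fixed ring of an irreducible group is symplectic -/
theorem exists_half (ss : SS A) (hφ : φ ∈ SAut A) (g : Gal φ 2 c) (h : ∀ z ∈ Subring.center A, φ z = star z)
    {H : Subgroup (RingAut A)} (hH : H ≤ SAut A) (hI : Irr H) (hc : ∀ γ ∈ H, γ * φ = φ * γ) (hn : ∃ a b : A, a * b ≠ b * a) :
    ∃ l, φ l = l ∧ l + star l = 1 := by
  by_cases h2 : (1 : A) + 1 = 0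
  swap
  · obtain ⟨v, hv⟩ := ss.isUnit_of_cen (add_mem (one_mem _) (one_mem _)) (by rw [star_add, star_one]) h2
    have h3 : (1 + 1) * ((v⁻¹ : Aˣ) : A) = 1 := hv ▸ v.mul_inv
    have h4 : star ((v⁻¹ : Aˣ) : A) = (v⁻¹ : Aˣ) := Units.eq_inv_of_mul_eq_one_right (by
      simpa only [star_mul, star_add, star_one, hv] using congrArg star h3)
    exact ⟨(v⁻¹ : Aˣ), (h _ (inv_cen (hv ▸ add_mem (one_mem _) (one_mem _)))).trans h4, by
      rwa [h4, ← one_mul ((v⁻¹ : Aˣ) : A), ← add_mul]⟩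
  have h3 : ∀ x : A, x + x = 0 := fun x => by rw [← one_mul x, ← add_mul, h2, zero_mul]
  let I : AddSubgroup A :=
    { carrier := {a | φ a = a ∧ ∃ b, φ b = b ∧ b + star b = a * star a}
      add_mem' := fun {a a'} ⟨h4, b, h5, h6⟩ ⟨h7, b', h8, h9⟩ => ⟨by rw [map_add, h4, h7], b + b' + a * star a', by
        rw [map_add, map_add, map_mul, hφ, h4, h5, h7, h8], by
        rw [star_add a, add_mul, mul_add, mul_add, ← h6, ← h9, star_add, star_add, star_mul, star_star]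
        abel⟩
      zero_mem' := ⟨map_zero φ, 0, map_zero φ, by simp⟩
      neg_mem' := fun ⟨h4, b, h5, h6⟩ => ⟨by rw [map_neg, h4], b, h5, by rw [star_neg, neg_mul_neg, h6]⟩ }
  have h4 : ∀ x ∈ I, ∀ a, φ a = a → a * x ∈ I := fun x ⟨h4, b, h5, h6⟩ a ha => ⟨by rw [map_mul, ha, h4],
    a * b * star a, by rw [map_mul, map_mul, hφ, ha, h5], by
      rw [star_mul, star_mul, star_mul, star_star, mul_assoc a x, ← mul_assoc x, ← h6]
      noncomm_ring⟩
  have h5 : Two (g.up I h4) := hI _ fun γ hγ x hx d hd => by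
    obtain ⟨h5, b, h6, h7⟩ := hx _ (map_cen γ⁻¹ hd)
    have h8 : tr φ 2 (d * γ x) = γ (tr φ 2 (γ⁻¹ d * x)) := by rw [map_tr (hc γ hγ), map_mul γ, ra_apply_inv]
    exact ⟨g.tr_fix _, γ b, by rw [← ra_mul, ← hc γ hγ, ra_mul, h6], by rw [h8, ← hH hγ, ← hH hγ, ← map_add, h7, map_mul]⟩
  have h6 : 1 ∈ I → ∃ l, φ l = l ∧ l + star l = 1 := fun ⟨_, b, h6, h7⟩ => ⟨b, h6, by simpa only [_root_.star_one, _root_.mul_one] using h7⟩
  rcases ss.two_cases h5 with h7 | h7 | ⟨ε, h7, h8⟩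
  · exfalso
    let f : fix φ → fix φ := fun a => ⟨a * star (a : A), mem_fix.2 (by rw [map_mul, hφ, mem_fix.1 a.2])⟩
    have h8 : Function.Injective f := fun a b k => Subtype.ext (sub_eq_zero.1 (h7.le (g.mem_up h4 ⟨(a - b).2,
      a * star (b : A), by rw [map_mul, hφ, mem_fix.1 a.2, mem_fix.1 b.2], by
        have h8 : (a : A) * star (a : A) = b * star (b : A) := congrArg Subtype.val k
        rw [star_mul, star_star, star_sub, sub_mul, mul_sub, mul_sub, h8, ← sub_eq_zero]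
        have h9 := h3 (a * star (b : A) + b * star (a : A) - b * star (b : A))
        rw [← h9]
        abel⟩ (a - b).2)))
    have h9 : ∀ y, φ y = y → star y = y := fun y hy => by
      obtain ⟨a, ha⟩ := Finite.surjective_of_injective h8 ⟨y, hy⟩
      rw [← show (a : A) * star (a : A) = y from congrArg Subtype.val ha, star_mul, star_star]
    obtain ⟨a, b, k⟩ := hn
    refine k (cen_comm (g.ind st_top (N := (Subring.center A).toAddSubgroup) (fun i y _ hy =>
      Subring.mul_mem _ (pow_mem g.cen i) (g.cen_of fun z hz => ?_)) (AddSubgroup.mem_top b)) a)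
    rw [← h9 (z * y) (by rw [map_mul, hz, hy]), star_mul, h9 y hy, h9 z hz]
  · exact h6 (g.one_mem (h7.ge trivial))
  · have h9 := (h8 ε).2 h7.idem 1 (one_mem _)
    rw [one_mul, tr_two, h ε h7.cen, h7.add] at h9
    exact h6 h9

/-- **graph automorphisms** -/
theorem dn_graph (ss : SS A) (hφ : φ ∈ F.Aut) (g : Gal φ 2 c) (h : ∀ z ∈ Subring.center A, φ z = star z)
    {H : Subgroup (RingAut A)} (hH : H ≤ SAut A) (hI : Irr H) (hc : ∀ γ ∈ H, γ * φ = φ * γ) (hn : ∃ a b : A, a * b ≠ b * a) :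
    ∃ (A0 : Type) (_ : Ring A0) (_ : StarRing A0) (_ : Finite A0) (F0 : FR A0) (ι : A0 →+* A), Dn F φ F0 ι := by
  obtain ⟨l, h1, h2⟩ := exists_half ss hφ.1 g h hH hI hc hn
  refine exists_dn ss hφ g h1 ?_ (Or.inl (L_graph g h))
  rw [L_graph g h]
  change star (F.l - l) = -(F.l - l)
  rw [star_sub, eq_sub_of_add_eq' h2, eq_sub_of_add_eq' F.l_add]
  abel

namespace Dn

variable (d : Dn F φ F0 ι)
include d

theorem map_Iso {u : A0ˣ} (hu : u ∈ F0.Iso) : Units.map (ι : A0 →* A) u ∈ F.Iso :=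
  Fld.mem_Iso_of d.l (show ι u * star (ι u) = 1 by simpa only [map_mul, d.st, map_one] using congrArg ι hu.1)
    (show ι u * _ * star (ι u) - _ ∈ _ by simpa only [map_mul, map_sub, d.st] using (d.L _).1 hu.2)

theorem map_I0 {u : A0ˣ} (hu : u ∈ I0 F0) : Units.map (ι : A0 →* A) u ∈ I0 F := by
  have h : F0.Iso.map (Units.map (ι : A0 →* A)) ≤ F.Iso := by
    rintro _ ⟨v, hv, rfl⟩
    exact d.map_Iso hv
  refine Subgroup.commutator_mono h h ?_
  rw [← Subgroup.map_commutator]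
  exact Subgroup.mem_map_of_mem _ hu

variable (g : Gal φ e c)
include g

theorem cen {y : A0} : ι y ∈ Subring.center A ↔ y ∈ Subring.center A0 :=
  ⟨fun h => Subring.mem_center_iff.2 fun z => d.inj (by rw [map_mul, map_mul, cen_comm h]), fun h => g.cen_of fun z hz => by
    obtain ⟨z, rfl⟩ := d.surj z hz
    rw [← map_mul, ← map_mul, cen_comm h]⟩

theorem card_eq {M : AddSubgroup A} (s : St φ c M) {P : A0 → Prop} (h : ∀ y, P y ↔ ι y ∈ M) :
    Nat.card M = Nat.card {y // P y} ^ e := by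
  rw [g.card_eq s]
  congr 1
  refine (Nat.card_eq_of_bijective (fun y => ⟨ι y.1, (h _).1 y.2, d.fix _⟩) ⟨fun _ _ k => Subtype.ext (d.inj
    (congrArg (Subtype.val (p := (· ∈ fxM φ M))) k)), fun x => ?_⟩).symm
  obtain ⟨y, hy⟩ := d.surj x x.2.2
  exact ⟨⟨y, (h y).2 (hy ▸ x.2.1)⟩, Subtype.ext hy⟩

theorem card_all : Nat.card A = Nat.card A0 ^ e := by
  rw [← AddSubgroup.card_top, ← AddSubgroup.card_top (G := A0)]
  exact d.card_eq g st_top fun _ => Iff.rfl

theorem card_cen : Nat.card (Subring.center A) = Nat.card (Subring.center A0) ^ e :=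
  d.card_eq g (st_cen g.cen) fun _ => (d.cen g).symm

theorem mem_C0 {y : A0} : y ∈ C0 A0 ↔ ι y ∈ C0 A := and_congr (d.cen g).symm (by rw [← d.st, d.inj.eq_iff])

theorem card_C0 (hφ : φ ∈ SAut A) (hc : c ∈ C0 A) : Nat.card (C0 A) = Nat.card (C0 A0) ^ e :=
  d.card_eq g (st_C0 hφ hc) fun _ => d.mem_C0 g

theorem card_L (hφ : φ ∈ SAut A) (hc : c ∈ C0 A) : Nat.card F.L = Nat.card F0.L ^ e := d.card_eq g (st_L hφ hc) d.L

theorem card_C0' (h : ∀ z ∈ Subring.center A, φ z = star z) : Nat.card (C0 A) = Nat.card (C0 A0) := by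
  refine (Nat.card_eq_of_bijective (fun y => ⟨ι y.1, (d.mem_C0 g).1 y.2⟩) ⟨fun _ _ k => Subtype.ext (d.inj
    (congrArg (Subtype.val (p := (· ∈ C0 A))) k)), fun x => ?_⟩).symm
  obtain ⟨y, hy⟩ := d.surj x ((h _ x.2.1).trans x.2.2)
  exact ⟨⟨y, (d.mem_C0 g).2 (hy ▸ x.2)⟩, Subtype.ext hy⟩

omit g in
theorem comm {u y : A0} : ι y ∈ (Subring.centralizer {ι u}).toAddSubgroup ↔ y * u = u * y :=
  ⟨fun h => d.inj (by rw [map_mul, map_mul, h _ rfl]), fun h => by
    rintro _ rfl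
    rw [← map_mul, ← map_mul, h]⟩

theorem jd {u : A0} {n : ℕ} (j : Jd u n) : Jd (ι u) n where
  nil := by simpa only [map_pow, map_sub, map_one, map_zero] using congrArg ι j.nil
  cen x hx := by
    let N : AddSubgroup A :=
      { carrier := {x | ∃ c ∈ Subring.center A, ∃ y, y * ι u = ι u * y ∧ x = c + (ι u - 1) * y}
        add_mem' := by
          rintro _ _ ⟨a, ha, y, hy, rfl⟩ ⟨b, hb, z, hz, rfl⟩
          exact ⟨a + b, add_mem ha hb, y + z, by rw [add_mul, mul_add, hy, hz], by rw [mul_add]; abel⟩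
        zero_mem' := ⟨0, zero_mem _, 0, by simp, by simp⟩
        neg_mem' := by
          rintro _ ⟨a, ha, y, hy, rfl⟩
          exact ⟨-a, neg_mem ha, -y, by rw [neg_mul, mul_neg, hy], by rw [mul_neg]; abel⟩ }
    refine g.ind (st_cent g.cen (d.fix u)) (N := N) (fun i y h1 h2 => ?_) (by rintro _ rfl; exact hx.symm)
    obtain ⟨y, rfl⟩ := d.surj y h2
    obtain ⟨a, ha, z, hz, rfl⟩ := j.cen y (d.comm.1 h1)
    refine ⟨c ^ i * ι a, mul_mem (pow_mem g.cen i) ((d.cen g).2 ha), c ^ i * ι z,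
      ((st_cent g.cen (d.fix u)).pow_mul i _ (d.comm.2 hz) _ rfl).symm, ?_⟩
    rw [map_add, map_mul, map_sub, map_one, mul_add, ← mul_assoc, ← mul_assoc, cen_comm (pow_mem g.cen i)]
  ne x hx h := by
    let M : AddSubgroup A := (Subring.center A).toAddSubgroup ⊓ (AddMonoidHom.mulRight ((ι u - 1) ^ (n - 1))).ker
    refine g.ind (M := M) (N := ⊥) ⟨fun y hy => ⟨map_cen φ hy.1, ?_⟩, fun y hy => ⟨Subring.mul_mem _ g.cen hy.1, ?_⟩⟩
      (fun i y h1 h2 => ?_) ⟨hx, h⟩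
    · change φ y * _ = 0
      simpa only [map_mul, map_pow, map_sub, map_one, map_zero, d.fix] using
        congrArg φ (show y * (ι u - 1) ^ (n - 1) = 0 from hy.2)
    · change c * y * _ = 0
      rw [mul_assoc, show y * (ι u - 1) ^ (n - 1) = 0 from hy.2, mul_zero]
    · obtain ⟨y, rfl⟩ := d.surj y h2
      rw [j.ne y ((d.cen g).1 h1.1) (d.inj (by
        rw [map_mul, map_pow, map_sub, map_one, map_zero]
        exact h1.2)),
        map_zero, mul_zero]
      exact zero_mem _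

theorem isCyc {u : A0} (h : IsCyc u) : IsCyc (ι u) := fun x y hx hy => by
  have k : ∀ x y : A, (∀ z, z * u = u * z → x * ι z = ι z * x) → y * ι u = ι u * y → x * y = y * x := fun x y hx hy =>
    g.ind (st_cent g.cen (d.fix u)) (N := (Subring.centralizer {x}).toAddSubgroup) (fun i z h1 h2 => by
      obtain ⟨z, rfl⟩ := d.surj z h2
      rintro _ rfl
      rw [mul_assoc, ← hx z (d.comm.1 h1), ← mul_assoc, ← mul_assoc, cen_comm (pow_mem g.cen i)])
      (show y ∈ _ by rintro _ rfl; exact hy.symm) x rfl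
  exact k x y (fun z hz => (k _ x (fun w hw => by rw [← map_mul, ← map_mul, h z w hz hw]) hx).symm) hy

theorem cA_eq (u : A0) : cA (ι u) = cA u ^ e :=
  (Nat.card_congr (Equiv.subtypeEquivRight fun x => ⟨fun h => by rintro _ rfl; exact h.symm, fun h => (h _ rfl).symm⟩)).trans
    (d.card_eq g (st_cent g.cen (d.fix u)) fun _ => d.comm.symm)

/-- **tori** -/
theorem cU_le {u : A0} (hu : u * star u = 1) {Q : ℕ} (t : To u (Q ^ 2)) : cU (ι u) ≤ (Q + 1) ^ e := by
  have := d.ss.1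
  have m : ∀ x : A0, x * u = u * x → x ∈ Subring.centralizer {u} := fun x hx => by rintro _ rfl; exact hx.symm
  have h : IsCyc u := fun x y hx hy => t.tr.comm x (m x hx) y (m y hy)
  set σ := Cn.sg h hu
  have h1 : IsUnit (u - star u) := t.tr.skew _ (sub_mem (m u rfl) (t.tr.star_mem u (m u rfl)))
    (by rw [star_sub, star_star, neg_sub]) (sub_ne_zero.2 t.ne.symm)
  obtain ⟨δ, hδ⟩ := (Cn.isUnit (x := Cn.mk h u rfl - σ (Cn.mk h u rfl)) h1).exists_right_inv
  have h2 : σ δ = -δ := by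
    have h2 := congrArg σ hδ
    rw [map_mul, map_sub, Cn.sg_sg, map_one] at h2
    linear_combination -δ * h2 - σ δ * hδ
  have h3 : Nat.card {x : Cn h // σ x = x} ^ 2 = cA u := by
    rw [Cyc.cA_eq h, pow_two, ← Nat.card_prod]
    refine Nat.card_eq_of_bijective (fun z => z.1.1 + Cn.mk h u rfl * z.2.1) ⟨fun z w (k : _ + _ = _ + _) => ?_, fun z => ?_⟩
    · have h3 := congrArg σ k
      rw [map_add, map_add, map_mul, map_mul, z.1.2, z.2.2, w.1.2, w.2.2] at h3
      have h4 : z.2.1 = w.2.1 := by linear_combination δ * k - δ * h3 - (z.2.1 - w.2.1) * hδ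
      exact Prod.ext (Subtype.ext (by linear_combination k - Cn.mk h u rfl * h4)) (Subtype.ext h4)
    · have h3 : σ (δ * (z - σ z)) = δ * (z - σ z) := by rw [map_mul, map_sub, Cn.sg_sg, h2]; ring
      exact ⟨(⟨z - Cn.mk h u rfl * (δ * (z - σ z)), by
        rw [map_sub, map_mul, h3]
        linear_combination (z - σ z) * hδ⟩, ⟨_, h3⟩), sub_add_cancel _ _⟩
  have h4 : ι u * star (ι u) = 1 := by rw [← d.st, ← map_mul, hu, map_one]
  have h5 : IsUnit (ι u - star (ι u)) := by simpa only [map_sub, d.st] using h1.map ι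
  obtain ⟨a, h6, h7⟩ := exists_tr_of_unit h4 (IsUnit.mul_iff.1 (show IsUnit ((ι u - 1) * (1 + star (ι u))) by
    rwa [sub_mul, mul_add, h4, mul_one, one_mul, add_comm, add_sub_add_left_eq_sub])).1
  have : Nontrivial {x : Cn h // σ x = x} := ⟨⟨⟨0, map_zero σ⟩, ⟨1, map_one σ⟩, fun k =>
    zero_ne_one (congrArg (fun x => Cn.val x.1) k)⟩⟩
  refine (cU_le_unit h4 (d.isCyc g h) h6 h7 rfl h5 (fun x : {x : Cn h // σ x = x} => ι (Cn.val x.1))
    (fun x => by rw [← map_mul, ← map_mul, x.1.comm]) (fun x => by rw [← d.st, ← Cn.val_sg h hu, x.2]) (fun x y k => ?_)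
    Finite.one_lt_card (ν := e) (by rw [d.cA_eq g, ← h3, ← pow_mul, ← pow_mul, mul_comm])).trans
    (Nat.pow_le_pow_left (Nat.succ_le_succ ((Nat.pow_le_pow_iff_left two_ne_zero).1 (h3.trans_le t.card))) _)
  rw [← map_sub, ← map_sub]
  exact (t.tr.sym _ (m _ (x.1 - y.1).comm) (by rw [← Cn.val_sg h hu, map_sub, x.2, y.2]) fun e =>
    k (Subtype.ext (sub_eq_zero.1 (Cn.val_inj e)))).map ι

end Dn

end Cfsg.Agent.N2C.Sub
end

-- part: N2/Cl/Sub/Num
section
/-!
# N2 classical, classes C5 and C8 (helper89): the inequalities, the big groups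
-/

set_option autoImplicit false
set_option linter.unusedSectionVars false
set_option maxHeartbeats 400000

namespace Cfsg.Agent.N2C.Sub

open Cfsg Cfsg.Agent.DS.Cl Cfsg.Agent.DS.Cl.Fwd Module
open Cfsg.Agent.N2C.Cyc
open Cfsg.Agent.TH.Cl (KL KU KSp KO)
open Cfsg.Agent.SB.Fld (prL)

section num

variable {q ρ n m e g B S X : ℕ}

theorem pw {c k a b : ℕ} (hρ : 2 ≤ ρ) (hc : c ≤ 2 ^ k) (h : k + a ≤ b) : c * ρ ^ a ≤ ρ ^ b :=
  (Nat.mul_le_mul_right _ (hc.trans (Nat.pow_le_pow_left hρ k))).trans (pow_add ρ k a ▸ Nat.pow_le_pow_right (by omega) h)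

theorem lin_le (a k : ℕ) (h : a * 4 ≤ 2 ^ k) (hn : 4 ≤ n) : a * n ≤ 2 ^ (k + (n - 4)) := by
  obtain ⟨n, rfl⟩ := Nat.exists_eq_add_of_le hn
  rw [Nat.add_sub_cancel_left, pow_add]
  have := n.lt_two_pow_self
  nlinarith

theorem ch (n : ℕ) : 2 * n.choose 2 + n = n * n ∧ 2 * (n + 1).choose 2 = n * n + n := by
  have k : ∀ n : ℕ, 2 * (n + 1).choose 2 = n * n + n := fun n => by
    rw [Nat.choose_two_right, Nat.add_sub_cancel, Nat.mul_div_cancel' (mul_comm n _ ▸ n.even_mul_succ_self.two_dvd)]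
    ring
  refine ⟨?_, k n⟩
  rcases n with _ | n
  · simp
  · rw [k]; ring

theorem num_gen {b s t d Y : ℕ} (ht : 0 < t) (hB : B ≤ b * q ^ d) (hS : s * (q ^ d * Y) ≤ t * S) (h : t * b * X ^ 3 ≤ s * Y) :
    X ^ 3 * B ≤ S := Nat.le_of_mul_le_mul_left (calc
  t * (X ^ 3 * B) ≤ t * (X ^ 3 * (b * q ^ d)) := by gcongr
  _ = t * b * X ^ 3 * q ^ d := by ring
  _ ≤ s * Y * q ^ d := by gcongr
  _ = s * (q ^ d * Y) := by ring
  _ ≤ t * S := hS) ht

theorem pow_split (he : 2 ≤ e) (q d : ℕ) : (q ^ e) ^ d = q ^ d * (q ^ (e - 1)) ^ d := by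
  rw [← mul_pow, ← pow_succ', Nat.sub_add_cancel (by omega)]

theorem le_rho (he : 2 ≤ e) : q ≤ q ^ (e - 1) := Nat.le_self_pow (by omega) q

theorem num_LU (hq : 2 ≤ q) (he : 2 ≤ e) (hn : 4 ≤ n) (g0 : g ∣ n) (hB : B ≤ 3 * q ^ (n ^ 2))
    (hS : (q ^ e) ^ (n ^ 2 - 1) ≤ 2 * g * S) : ((q ^ (e - 1)) ^ (n - 1)) ^ 3 * B ≤ S := by
  have h1 := le_rho (q := q) he
  have h2 := Nat.le_of_dvd (by omega) g0
  refine num_gen (q := q) (b := 3 * q) (s := 1) (t := 2 * g) (d := n ^ 2 - 1) (by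
    have := Nat.pos_of_dvd_of_pos g0 (by omega); omega) (by
      rwa [mul_assoc, ← pow_succ', Nat.sub_add_cancel (Nat.one_le_pow _ _ (by omega))]) (by rwa [one_mul, ← pow_split he]) ?_
  generalize q ^ (e - 1) = ρ at h1
  calc _ ≤ 2 * n * (3 * ρ) * (ρ ^ (n - 1)) ^ 3 := by gcongr
    _ = 6 * n * ρ ^ ((n - 1) * 3 + 1) := by ring
    _ ≤ _ := by
      rw [one_mul]
      refine pw (by omega) (lin_le 6 5 (by norm_num) hn) ?_
      obtain ⟨n, rfl⟩ := Nat.exists_eq_add_of_le hn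
      rw [show 4 + n - 1 = n + 3 by omega, Nat.add_sub_cancel_left]
      exact Nat.le_sub_of_add_le (by nlinarith only [])

theorem num_Sp (hq : 2 ≤ q) (he : 2 ≤ e) (hn : 5 ≤ n) (hB : B ≤ 2 * q ^ (n + 1).choose 2)
    (hS : (q ^ e) ^ (n + 1).choose 2 ≤ 3 * S) : ((q ^ (e - 1)) ^ (n - 1)) ^ 3 * B ≤ S := by
  refine num_gen (s := 1) three_pos hB (by rwa [one_mul, ← pow_split he]) ?_
  rw [one_mul, ← pow_mul _ (n - 1)]
  refine pw (k := 3) (hq.trans (le_rho (q := q) he)) (by norm_num) ?_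
  have := (ch n).2
  have : n * 5 ≤ n * n := Nat.mul_le_mul_left _ hn
  omega

theorem num_O1 (hq : 3 ≤ q) (he : 2 ≤ e) (hn : 7 ≤ n) (hB : B ≤ 4 * q ^ n.choose 2)
    (hS : 5 * (q ^ e) ^ n.choose 2 ≤ 32 * S) : ((q ^ (e - 1)) ^ (n - 1)) ^ 3 * B ≤ S := by
  refine num_gen (s := 5) (t := 32) (by norm_num) hB (by rwa [← pow_split he]) ?_
  have h1 := hq.trans (le_rho he)
  generalize q ^ (e - 1) = ρ at h1
  have h2 : ρ ^ (3 + (n - 1) * 3) ≤ ρ ^ n.choose 2 := Nat.pow_le_pow_right (by omega) (by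
    have := (ch n).1
    have h3 : (n - 1) * 7 ≤ (n - 1) * n := Nat.mul_le_mul_left _ hn
    rw [Nat.sub_one_mul n n] at h3
    omega)
  have h3 := Nat.mul_le_mul_right (ρ ^ ((n - 1) * 3)) (Nat.pow_le_pow_left h1 3)
  rw [pow_add] at h2
  rw [← pow_mul]
  omega

theorem num_O2 {t : ℕ} (hq : 2 ≤ q) (he : 2 ≤ e) (hm : 4 ≤ m) (t0 : 0 < t) (ht : 2 * t ≤ q ^ 4)
    (hB : B ≤ 4 * q ^ (2 * m).choose 2) (hS : 5 * (q ^ e) ^ (2 * m).choose 2 ≤ t * S) : ((q ^ m + 1) ^ e) ^ 3 * B ≤ S := by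
  refine num_gen t0 hB (by rwa [← pow_split he]) ?_
  obtain ⟨f, rfl⟩ := Nat.exists_eq_add_of_le he
  have h1 : q ^ 4 ≤ q ^ m := Nat.pow_le_pow_right (by omega) hm
  have h2 : 2 ^ 4 ≤ q ^ 4 := Nat.pow_le_pow_left hq 4
  have h3 : (q ^ m) ^ 7 * ((q ^ m) ^ 7) ^ f ≤ (q ^ (2 + f - 1)) ^ (2 * m).choose 2 := by
    rw [← pow_succ', ← pow_mul, ← pow_mul, ← pow_mul, show 2 + f - 1 = f + 1 by omega, ← mul_assoc, mul_comm (f + 1)]
    refine Nat.pow_le_pow_right (by omega) (Nat.mul_le_mul_right _ ?_)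
    have := (ch (2 * m)).1
    nlinarith only [hm, this]
  generalize q ^ m = Q at h1 h3
  have h4 : (16 * (Q + 1)) ^ 6 ≤ (17 * Q) ^ 6 := Nat.pow_le_pow_left (by omega) 6
  have h5 : ((Q + 1) ^ 3) ^ f ≤ (Q ^ 7) ^ f := Nat.pow_le_pow_left (calc
    _ ≤ (Q ^ 2) ^ 3 := Nat.pow_le_pow_left (by nlinarith only [h2, h1]) 3
    _ ≤ _ := pow_mul Q 2 3 ▸ Nat.pow_le_pow_right (by omega) (by omega)) f
  have h6 : t * 4 * (Q + 1) ^ 6 ≤ 5 * Q ^ 7 := by
    rw [mul_pow, mul_pow] at h4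
    calc _ ≤ 2 * Q * (Q + 1) ^ 6 := Nat.mul_le_mul_right _ (by omega)
      _ = Q * (2 * (Q + 1) ^ 6) := by ring
      _ ≤ Q * (5 * Q ^ 6) := Nat.mul_le_mul_left _ (by omega)
      _ = _ := by ring
  calc _ = t * 4 * (Q + 1) ^ 6 * ((Q + 1) ^ 3) ^ f := by generalize Q + 1 = R; ring
    _ ≤ 5 * Q ^ 7 * (Q ^ 7) ^ f := Nat.mul_le_mul h6 h5
    _ ≤ _ := (mul_assoc 5 _ _).trans_le (Nat.mul_le_mul_left _ h3)

theorem num_gr {b d k : ℕ} (hq : 2 ≤ q) (hn : 0 < n) (g0 : g ∣ n) (hB : B ≤ b * q ^ d) (hS : q ^ (n ^ 2 - 1) ≤ 2 * g * S)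
    (h1 : 2 * b * n ≤ 2 ^ k) (h2 : k + (n - 3) * 3 + d + 1 ≤ n * n) : (q ^ (n - 3)) ^ 3 * B ≤ S := by
  have h3 := Nat.le_of_dvd hn g0
  refine num_gen (s := 1) (t := 2 * g) (Y := q ^ (n ^ 2 - 1 - d)) (by have := Nat.pos_of_dvd_of_pos g0 hn; omega) hB
    (by rwa [one_mul, ← pow_add, Nat.add_sub_cancel' (by rw [pow_two]; omega)]) ?_
  rw [one_mul, ← pow_mul]
  exact pw hq (le_trans (by nlinarith only [h3]) h1) (by rw [pow_two]; omega)

theorem num_gSp (hq : 2 ≤ q) (hn : 6 ≤ n) (g0 : g ∣ n) (hB : B ≤ 2 * q ^ (n + 1).choose 2)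
    (hS : q ^ (n ^ 2 - 1) ≤ 2 * g * S) : (q ^ (n - 3)) ^ 3 * B ≤ S := by
  obtain ⟨n, rfl⟩ := Nat.exists_eq_add_of_le hn
  refine num_gr (k := 5 + n) hq (by omega) g0 hB hS (by have := n.lt_two_pow_self; rw [pow_add]; omega) ?_
  have := (ch (6 + n)).2
  rw [show 6 + n - 3 = n + 3 by omega]
  nlinarith only [this]

theorem num_gO1 (hq : 2 ≤ q) (hn : 5 ≤ n) (g0 : g ∣ n) (hB : B ≤ 4 * q ^ n.choose 2)
    (hS : q ^ (n ^ 2 - 1) ≤ 2 * g * S) : (q ^ (n - 3)) ^ 3 * B ≤ S := by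
  obtain ⟨n, rfl⟩ := Nat.exists_eq_add_of_le hn
  refine num_gr (k := 6 + n) hq (by omega) g0 hB hS (by have := n.lt_two_pow_self; rw [pow_add]; omega) ?_
  have := (ch (5 + n)).1
  rw [show 5 + n - 3 = n + 2 by omega]
  nlinarith only [this]

theorem num_gO2 (hq : 3 ≤ q) (ho : Odd q) (hm : 3 ≤ m) (g0 : g ∣ 2 * m) (g1 : g ≤ q + 1) (hB : B ≤ 2 * q ^ (2 * m).choose 2)
    (hS : 5 * q ^ ((2 * m) ^ 2 - 1) ≤ 6 * g * S) : ((q ^ m + 1) ^ 2) ^ 3 * B ≤ S := by
  have h0 := (ch (2 * m)).1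
  obtain ⟨k, hk, h1⟩ : ∃ k, (2 * m) ^ 2 - 1 = (2 * m).choose 2 + (m * 6 + k) ∧ 3 * g ≤ q ^ k := by
    obtain ⟨m, rfl⟩ := Nat.exists_eq_add_of_le hm
    refine ⟨2 + (2 * m * m + 7 * m), Nat.sub_eq_of_eq_add (by linarith only [h0]), ?_⟩
    have h1 := Nat.le_of_dvd (by omega) g0
    rcases m with _ | m
    · obtain rfl | h2 : q = 3 ∨ 5 ≤ q := by obtain ⟨j, rfl⟩ := ho; omega
      · have : g ≠ 4 := by rintro rfl; omega
        omega
      · have := Nat.pow_le_pow_left h2 2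
        norm_num only [_root_.ge_iff_le] at this h1 ⊢
        omega
    · simpa using pw (a := 0) (k := 5 + (m + 4 - 4)) (show 2 ≤ q by omega) (le_trans (by omega)
        (lin_le (n := m + 4) 6 5 (by norm_num) (by omega))) (by rw [Nat.add_sub_cancel]; nlinarith only [])
  refine num_gen (t := 6 * g) (by have := Nat.pos_of_dvd_of_pos g0 (by omega); omega) hB (by rwa [← pow_add, ← hk]) ?_
  have h2 : 3 ^ 3 ≤ q ^ m := (Nat.pow_le_pow_left hq 3).trans (Nat.pow_le_pow_right (by omega) hm)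
  rw [pow_add, pow_mul q]
  generalize q ^ m = Q at h2
  have h4 : (27 * (Q + 1)) ^ 6 ≤ (28 * Q) ^ 6 := Nat.pow_le_pow_left (by omega) 6
  rw [mul_pow, mul_pow] at h4
  calc _ = 4 * (Q + 1) ^ 6 * (3 * g) := by ring
    _ ≤ 5 * Q ^ 6 * q ^ k := Nat.mul_le_mul (by omega) h1
    _ = _ := mul_assoc _ _ _

theorem pow_inj {a b : ℕ} (hq : 2 ≤ q) (he : 0 < e) (h : (q ^ e) ^ a = (q ^ b) ^ e) : a = b := by
  rw [← pow_mul, ← pow_mul, mul_comm b] at h
  exact Nat.eq_of_mul_eq_mul_left he (Nat.pow_right_injective hq h)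

end num

/-! ### the big groups -/

section defs

variable {A : Type} [Ring A] [StarRing A]

/-- unipotent isometries lie in the commutator group -/
def Uni (F : FR A) : Prop := ∀ u ∈ F.Iso, ∀ n, ((u : A) - 1) ^ n = 0 → u ∈ I0 F

/-- the order of `L_n(q)`, `U_n(q)` -/
def OrdLU (F : FR A) (n q : ℕ) : Prop := ∃ g, g ∣ n ∧ g ≤ q + 1 ∧ q ^ (n ^ 2 - 1) ≤ 2 * g * Nat.card F.S ∧
  (3 ≤ q → 5 * q ^ (n ^ 2 - 1) ≤ 6 * g * Nat.card F.S)

end defs

variable {K V : Type} [Field K] [Fintype K] [AddCommGroup V] [Module K V] [Finite V]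

theorem det_uni {f : End K V} (h : IsNilpotent (f - 1)) : LinearMap.det f = 1 := by
  have : Module.Finite K V := Module.Finite.of_finite
  have h1 := LinearMap.eval_charpoly (1 - f) (1 : K)
  rwa [(show IsNilpotent (1 - f) from neg_sub f 1 ▸ h.neg).charpoly_eq_X_pow_finrank, Polynomial.eval_pow, Polynomial.eval_X, one_pow, map_one,
    sub_sub_cancel, eq_comm] at h1

theorem uni_L {n : ℕ} {F : FR (LR (Fin n) K)} (k : KL F) : Uni F := fun u hu m h =>
  k.mem_comm hu (det_uni ⟨m, by simpa only [map_pow, map_sub, map_one, map_zero] using congrArg (prL n K) h⟩)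

theorem ord_L {n : ℕ} {F : FR (LR (Fin n) K)} (k : KL F) : OrdLU F n (Fintype.card K) := by
  have hq := two_le_q K
  have hn : 1 ≤ n := by have := k.dim; omega
  have h1 := oGL_ge' hq hn
  have h2 := oGL_ge hq hn
  rw [← card_S_L k] at h1 h2
  refine ⟨_, Nat.gcd_dvd_left n (Fintype.card K - 1), (Nat.gcd_le_right _ (by omega)).trans (by omega),
    Nat.le_of_mul_le_mul_left (h1.trans_eq (by ring)) (by omega), fun h3 => ?_⟩
  generalize Fintype.card K = q at *
  obtain ⟨r, rfl⟩ := Nat.exists_eq_add_of_le h3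
  rw [show (3 + r) ^ 2 - (3 + r) - 1 = r * r + 5 * r + 5 from Nat.sub_eq_of_eq_add (Nat.sub_eq_of_eq_add (by ring))] at h2
  generalize Nat.gcd n _ = g at *
  rw [show 3 + r - 1 = r + 2 by omega] at h2
  refine Nat.le_of_mul_le_mul_left (?_ : (3 + r) * (r + 2) * _ ≤ _) (by positivity)
  linarith only [h2, Nat.zero_le (r * r * (3 + r) ^ (n ^ 2 - 1)), Nat.zero_le (r * (3 + r) ^ (n ^ 2 - 1))]

variable {h : HF K V} {F : FR h.EB}

theorem uni_U {q : ℕ} (k : KU h F q) : Uni F := fun _ hu m h => k.mem_comm hu (det_uni ⟨m, h⟩)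

theorem two_le_U {q : ℕ} (k : KU h F q) : 2 ≤ q := by
  have h1 := two_le_q K
  rw [k.card] at h1
  by_contra h2
  have := Nat.pow_le_pow_left (show q ≤ 1 by omega) 2
  omega

theorem ord_U {q : ℕ} (k : KU h F q) : OrdLU F (finrank K V) q := by
  have hq := two_le_U k
  have hn := k.dim
  have h1 := oGU_ge hq (show 2 ≤ finrank K V by omega)
  rw [← card_S_U k, mul_assoc, mul_left_comm _ (q + 1)] at h1
  have h2 := Nat.le_of_mul_le_mul_left h1 (by omega)
  have h3 : q ^ (finrank K V ^ 2 - 1) = q ^ 2 * q ^ (finrank K V ^ 2 - 3) := by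
    have := Nat.pow_le_pow_left hn 2
    rw [← pow_add]
    congr 1
    omega
  have h4 := Nat.pow_le_pow_left hq 2
  refine ⟨_, Nat.gcd_dvd_left _ (q + 1), Nat.gcd_le_right _ (by omega), ?_, fun h5 => ?_⟩ <;> rw [h3, mul_assoc]
  · exact (Nat.mul_le_mul_right _ (by omega)).trans ((mul_assoc _ _ _).trans_le (Nat.mul_le_mul_left _ h2))
  · have := Nat.pow_le_pow_left h5 2
    rw [← mul_assoc]
    exact (Nat.mul_le_mul_right _ (by omega)).trans ((mul_assoc _ _ _).trans_le (Nat.mul_le_mul_left _ h2))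

theorem uni_Sp {j : ℕ} (k : KSp h F j) : Uni F := fun _ hu _ _ => k.mem_comm hu

theorem ord_Sp {j : ℕ} (k : KSp h F j) : Fintype.card K ^ (finrank K V + 1).choose 2 ≤ 3 * Nat.card F.S := by
  have h1 := oSp_ge' (two_le_q K) j
  have h2 := (ch (2 * j)).2
  have h3 := Nat.mul_le_mul_right (Nat.card F.S) (Nat.gcd_le_left (Fintype.card K - 1) two_pos)
  rw [card_S_Sp k] at h3
  rw [k.dim, show (2 * j + 1).choose 2 = 2 * j ^ 2 + j by linarith only [h2]]
  omega

variable {Q : QuadraticForm K V}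

theorem uni_O (k : KO h F Q) (ho : Odd (finrank K V)) : Uni F := fun u hu n hn => by
  have := nontrivial_of_dim ho.pos
  have : Nontrivial h.EB := inferInstanceAs (Nontrivial (End K V))
  have hp : Fact (ringChar K).Prime := ⟨CharP.char_is_prime K _⟩
  have : CharP h.EB (ringChar K) := charP_of_injective_algebraMap (algebraMap K (End K V)).injective _
  refine Fld.mem_I0_of_odd k hu (s := ringChar K ^ n) (Odd.pow (hp.out.odd_of_ne_two fun e =>
    two_ne_of_odd (nondeg_of_O k.o) ho (by exact_mod_cast (ringChar.spec K 2).2 e.dvd))) (Units.ext ?_)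
  have h1 := sub_pow_char_pow_of_commute (ringChar K) n (Commute.one_right (u : h.EB))
  rw [pow_eq_zero_of_le (Nat.lt_pow_self hp.out.one_lt).le hn, one_pow, eq_comm, sub_eq_zero] at h1
  exact (Units.val_pow_eq_pow_val _ _).trans h1

theorem ord_O (k : KO h F Q) : 5 * Fintype.card K ^ (finrank K V).choose 2 ≤ 32 * Nat.card F.S ∧
    (Even (Fintype.card K) → 5 * Fintype.card K ^ (finrank K V).choose 2 ≤ 8 * Nat.card F.S) := by
  have h1 := card_O_ge (nondeg_of_O k.o) k.dim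
  have h7 := k.dim
  rw [← Nat.choose_two_right] at h1
  refine ⟨?_, fun h2 => by rw [card_O_eq_S_two k h2] at h1; omega⟩
  have h2 := fun x => Nat.mul_le_mul_right (Nat.card F.S) (Nat.gcd_le_left x four_pos)
  rcases card_S_O k with ⟨m, h3, -, h4⟩ | ⟨m, h3, hP, h4⟩ | ⟨m, h3, hP, h4⟩
  · rw [card_O_odd (nondeg_of_O k.o) h3] at h1
    omega
  · rw [card_O_plus (nondeg_of_O k.o) (by omega) h3 hP, ← h4] at h1
    have := h2 (Fintype.card K ^ m - 1)
    omega
  · rw [card_O_minus (nondeg_of_O k.o) (by omega) h3 hP, ← h4] at h1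
    have := h2 (Fintype.card K ^ m + 1)
    omega

end Cfsg.Agent.N2C.Sub
end

-- part: N2/Cl/Sub/Red2
section
/-!
# N2 classical, classes C5 and C8 (helper89): the case division

`GC F φ` : an element of `C_S(φ)` with few fixed points; `sub_of : BoxTy → On pSub`, `cen_of` without the simple subgroup.
-/

set_option autoImplicit false
set_option linter.unusedSectionVars false
set_option maxHeartbeats 400000

namespace Cfsg.Agent.N2C.Sub

open Cfsg Cfsg.Agent.DS.Cl Cfsg.Agent.DS.Cl.Fwd Module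
open Cfsg.Agent.FP3 (fx Good)
open Cfsg.Agent.N2C.Cyc
open Cfsg.Agent.N2C.Size (UC)
open Cfsg.Agent.TH.Cl (KL KU KSp KO Pred)

variable {A A0 : Type} [Ring A] [StarRing A] [Ring A0] [StarRing A0]

/-- the centraliser of `φ` in `F.S` -/
abbrev CS (F : FR A) (φ : RingAut A) : Subgroup F.S := (Subgroup.centralizer {φ}).subgroupOf F.S

/-- the goal without `H` -/
def GC (F : FR A) (φ : RingAut A) : Prop :=
  ∃ a ∈ CS F φ, ∃ c, 1 < c ∧ fx (CS F φ) a ≤ c ∧ c ^ 3 * Nat.card (CS F φ) ≤ Nat.card F.S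

variable [Finite A] [Finite A0] {F : FR A} {φ : RingAut A} {e : ℕ} {c : A} {F0 : FR A0} {ι : A0 →+* A} {n q n0 q0 : ℕ}

theorem GC.good (h : GC F φ) : Good (CS F φ) :=
  have := finAut (A := A)
  let ⟨_, h1, _, _, h2, h3⟩ := h
  N2.good_of_le h1 h2 h3

theorem GC.gd (h : GC F φ) {H : Subgroup (RingAut A)} {p : ℕ} (x : Ctx F H p) (hH : ∀ γ ∈ H, γ * φ = φ * γ) : Gd F H := by
  have := finAut (A := A)
  have h1 : H ≤ Subgroup.centralizer {φ} := fun γ hγ => Subgroup.mem_centralizer_singleton_iff.2 (hH γ hγ)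
  have h2 : ¬ F.S ≤ Subgroup.centralizer {φ} := fun k => by
    obtain ⟨_, -, c, h2, -, h3⟩ := h
    rw [show CS F φ = ⊤ from Subgroup.subgroupOf_eq_top.2 k, Subgroup.card_top] at h3
    have := Nat.one_lt_pow three_ne_zero h2
    have := Nat.card_pos (α := F.S)
    nlinarith
  rw [Gd, show H.subgroupOf F.S = CS F φ from Subgroup.ext fun s => ⟨fun k => h1 k, x.max' h1 h2 s.2⟩]
  exact h.good

theorem gc_of {u : Aˣ} (hu : u ∈ I0 F) (h1 : φ u = u) {x k : ℕ} (hx : 2 ≤ x) (hk : 0 < k) (h2 : fx (CS F φ) (el hu) ≤ x ^ k)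
    (h3 : (x ^ k) ^ 3 * Nat.card (CS F φ) ≤ Nat.card F.S) : GC F φ :=
  ⟨el hu, Subgroup.mem_centralizer_singleton_iff.2 (comm_el hu h1).symm, _, Nat.one_lt_pow hk.ne' hx, h2, h3⟩

theorem Dn.card_le (d : Dn F φ F0 ι) : Nat.card (CS F φ) ≤ 2 * Nat.card F0.Iso :=
  (Nat.le_mul_of_pos_right _ Nat.card_pos).trans d.card

theorem Dn.gc_field (d : Dn F φ F0 ι) (ss : SS A) (hφ : φ ∈ F.Aut) (g : Gal φ e c) (hc : c ∈ C0 A) (un : Uni F)
    (j : ∃ u ∈ F0.Iso, Jd (u : A0) n) (hn : 2 ≤ n) (he : 2 ≤ e) (hq : 2 ≤ q0) (h1 : Nat.card (C0 A) = q0 ^ e)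
    (h2 : ((q0 ^ (e - 1)) ^ (n - 1)) ^ 3 * Nat.card (CS F φ) ≤ Nat.card F.S) : GC F φ := by
  obtain ⟨u, hu, j⟩ := j
  have h3 := un _ (d.map_Iso hu) n (d.jd g j).nil
  exact gc_of h3 (d.fix u) (hq.trans (le_rho he)) (by omega) (fx_field ss hφ g hc h3 (d.fix u) (d.jd g j) (by omega) h1) h2

theorem Dn.gc_graph (d : Dn F φ F0 ι) (ss : SS A) (hφ : φ ∈ F.Aut) (g : Gal φ 2 c) (h : ∀ z ∈ Subring.center A, φ z = star z)
    (un : Uni F) (j : ∃ u ∈ F0.Iso, Jd (u : A0) n) (hn : 5 ≤ n) (hq : 2 ≤ q) (h1 : Nat.card (C0 A) = q)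
    (h2 : (q ^ (n - 3)) ^ 3 * Nat.card (CS F φ) ≤ Nat.card F.S) : GC F φ := by
  obtain ⟨u, hu, j⟩ := j
  have h3 := un _ (d.map_Iso hu) n (d.jd g j).nil
  exact gc_of h3 (d.fix u) hq (by omega) (h1 ▸ fx_graph ss hφ g.pow h h3 (d.fix u) (d.jd g j) hn) h2

theorem Dn.gc_tor (d : Dn F φ F0 ι) (g : Gal φ e c) {m : ℕ} (j : ∃ u ∈ I0 F0, To (u : A0) (q0 ^ (2 * m))) (hq : 2 ≤ q0)
    (h2 : ((q0 ^ m + 1) ^ e) ^ 3 * Nat.card (CS F φ) ≤ Nat.card F.S) : GC F φ := by
  obtain ⟨u, hu, j⟩ := j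
  have := finAut (A := A)
  rw [mul_comm, pow_mul] at j
  exact gc_of (d.map_I0 hu) (d.fix u) (Nat.succ_le_succ (Nat.one_le_pow _ _ (by omega))) g.pos ((N2.fx_le_cn _ _).trans
    ((cn_le _).trans ((cI_le_cU _ _).trans (d.cU_le g (FR.comm_le_Iso hu).1 j)))) h2

theorem sq_inj {a b : ℕ} (h : a ^ 2 = b ^ 2) : a = b := Nat.pow_left_injective two_ne_zero h

theorem ch_ne (hn : 0 < n) : (n + 1).choose 2 ≠ n.choose 2 := by have := ch n; omega

/-- the type of the fixed ring of a field automorphism -/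
theorem Dn.ty_field (bt : BoxTy) (d : Dn F φ F0 ι) (hφ : φ ∈ SAut A) (g : Gal φ e c) (hc : c ∈ C0 A) : ∃ q0, 2 ≤ q0 ∧
    Nat.card (C0 A) = q0 ^ e ∧ (TyLU F n q → TyLU F0 n q0) ∧ (TySp F n q → TySp F0 n q0) ∧ (TyO F n q → TyO F0 n q0) := by
  obtain ⟨n0, q0, hn, hq, t⟩ := bt.all A0 F0 d.ss
  have h1 := d.card_C0 g hφ hc
  have h2 := d.card_cen g
  have h3 := d.card_all g
  have h4 := d.card_L g hφ hc
  have k := fun {a b} => pow_inj (a := a) (b := b) hq g.pos
  have h0 : Nat.card (C0 A0) = q0 := t.elim (·.c0) fun t => t.elim (·.c0) (·.c0)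
  rw [h0] at h1
  refine ⟨q0, hq, h1, fun T => ?_, fun T => ?_, fun T => ?_⟩ <;> rw [T.cen, ← T.c0, h1] at h2 <;>
    rw [T.all, ← T.c0, h1] at h3 <;> rw [T.L, ← T.c0, h1] at h4 <;> rcases t with t | t | t <;> rw [t.cen] at h2 <;>
    rw [t.all] at h3 <;> rw [t.L] at h4
  · exact sq_inj (k h4) ▸ t
  · exact absurd (k (h2.trans (by rw [pow_one]))) (by omega)
  · exact absurd (k (h2.trans (by rw [pow_one]))) (by omega)
  · exact absurd (k ((pow_one _).trans h2)) (by omega)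
  · exact sq_inj (k h3) ▸ t
  · exact absurd (k h4) (by rw [sq_inj (k h3)]; exact ch_ne hn)
  · exact absurd (k ((pow_one _).trans h2)) (by omega)
  · exact absurd (k h4).symm (by rw [sq_inj (k h3)]; exact ch_ne hn)
  · exact sq_inj (k h3) ▸ t

theorem two_eq (ss : SS A) (h : Even (Nat.card (C0 A))) : (1 : A) + 1 = 0 := by
  obtain ⟨x, hx⟩ := exists_prime_addOrderOf_dvd_card' (G := C0 A) 2 h.two_dvd
  have h1 : (x : A) * (1 + 1) = 0 := by
    have h1 := addOrderOf_nsmul_eq_zero x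
    rw [hx, two_nsmul] at h1
    rw [mul_add, mul_one]
    exact congrArg Subtype.val h1
  refine (ss.isUnit_of_cen x.2.1 x.2.2 fun k => ?_).mul_right_eq_zero.1 h1
  rw [show x = 0 from Subtype.ext k, addOrderOf_zero] at hx
  omega

/-- the type of the fixed ring of a graph automorphism -/
theorem Dn.ty_graph (bt : BoxTy) (d : Dn F φ F0 ι) (g : Gal φ 2 c) (h : ∀ z ∈ Subring.center A, φ z = star z)
    (h1 : Nat.card (C0 A) = q) : Nat.card (Subring.center A) ≠ q ∧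
      (TyLU F n q → TySp F0 n q ∨ TyO F0 n q ∧ Odd q ∧ Nat.card (CS F φ) ≤ Nat.card F0.Iso) := by
  obtain ⟨n0, q0, hn, hq, t⟩ := bt.all A0 F0 d.ss
  have h2 := d.card_cen g
  have h3 := d.card_all g
  have h0 : Nat.card (C0 A0) = q0 := t.elim (·.c0) fun t => t.elim (·.c0) (·.c0)
  obtain rfl : q0 = q := by rw [← h0, ← h1, d.card_C0' g h]
  have k := fun {a b} => Nat.pow_right_injective hq (a₁ := a) (a₂ := b)
  refine ⟨fun h4 => ?_, fun T => ?_⟩
  · rw [h4] at h2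
    rcases t with t | t | t <;> rw [t.cen] at h2
    · exact absurd (k ((pow_one _).trans (h2.trans (pow_mul _ _ _).symm))) (by omega)
    · exact absurd (k ((pow_one _).trans h2)) (by omega)
    · exact absurd (k ((pow_one _).trans h2)) (by omega)
  rw [T.cen] at h2
  rw [T.all] at h3
  rcases t with t | t | t <;> rw [t.cen] at h2 <;> rw [t.all, ← pow_mul] at h3
  · exact absurd (k (h2.trans (pow_mul _ _ _).symm)) (by omega)
  · exact Or.inl (sq_inj (show n0 ^ 2 = n ^ 2 by have := k h3; omega) ▸ t)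
  obtain rfl := sq_inj (show n0 ^ 2 = n ^ 2 by have := k h3; omega)
  have h4 : (1 : A0) + 1 ≠ 0 := fun h4 => by
    have h5 : Size.Sym A0 = F0.L := AddSubgroup.ext fun y => by
      rw [d.L, L_graph g h]
      change star y = y ↔ star (ι y) = -ι y
      rw [← d.st, ← map_neg, d.inj.eq_iff, neg_eq_of_add_eq_zero_left (show y + y = 0 by
        rw [← one_mul y, ← add_mul, h4, zero_mul])]
    have h6 := Size.card_sym_mul (A := A0)
    rw [h5, ← t.min, t.L, t.all, ← pow_add] at h6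
    have := k h6
    have := (ch n0).1
    rw [pow_two] at *
    omega
  refine Or.inr ⟨t, Nat.not_even_iff_odd.1 fun h5 => h4 (two_eq d.ss (h0 ▸ h5)), ?_⟩
  have : Nontrivial (UC A0) := ⟨⟨1, ⟨-1, neg_mem (one_mem _), by simp⟩, fun h5 =>
    h4 (eq_neg_iff_add_eq_zero.1 (congrArg (fun z => (z.1 : A0)) h5))⟩⟩
  have h5 := (Nat.mul_le_mul_left _ (Finite.one_lt_card (α := UC A0))).trans d.card
  change Nat.card (CS F φ) * 2 ≤ _ at h5
  omega

variable (bt : BoxTy) (ss : SS A) (hφ : φ ∈ F.Aut) (hl : φ ∉ Lin A) (hp : (orderOf φ).Prime)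
include bt ss hφ hl hp

/-- the two cases -/
theorem cases {H : Subgroup (RingAut A)} {p : ℕ} (x : Ctx F H p) (hI : Irr H) (hc : ∀ γ ∈ H, γ * φ = φ * γ) :
    ∃ (A0 : Type) (_ : Ring A0) (_ : StarRing A0) (_ : Finite A0) (F0 : FR A0) (ι : A0 →+* A), Dn F φ F0 ι ∧
      ((∃ c ∈ C0 A, Gal φ (orderOf φ) c) ∨ (∀ z ∈ Subring.center A, φ z = star z) ∧ ∃ c, Gal φ 2 c) := by
  rcases exists_gal ss hφ.1 hl hp with ⟨c, h, g⟩ | ⟨h, c, g⟩
  · obtain ⟨A0, _, _, _, F0, ι, d⟩ := dn_field ss hφ g h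
    exact ⟨A0, _, _, ‹_›, F0, ι, d, Or.inl ⟨c, h, g⟩⟩
  · obtain ⟨A0, _, _, _, F0, ι, d⟩ := dn_graph ss hφ g h x.le_SAut hI hc (by
      by_contra k
      push Not at k
      refine x.noncomm ⟨⟨fun s t => ?_⟩⟩
      have k' : ∀ s : F.S, s = 1 := by
        rintro ⟨_, u, hu, rfl⟩
        exact Subtype.ext (cj_eq_one_iff.2 (Subring.mem_center_iff.2 fun a => k a u))
      rw [k' s, k' t])
    exact ⟨A0, _, _, ‹_›, F0, ι, d, Or.inr ⟨h, c, g⟩⟩

variable {H : Subgroup (RingAut A)} {p : ℕ} (x : Ctx F H p) (hI : Irr H) (hc : ∀ γ ∈ H, γ * φ = φ * γ)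
include x hI hc

theorem gc_LU (T : TyLU F n q) (un : Uni F) (o : OrdLU F n q) (hn : 5 ≤ n) (hq : 2 ≤ q) : GC F φ := by
  obtain ⟨g', g0, g1, h1, h2⟩ := o
  obtain ⟨A0, _, _, _, F0, ι, d, ⟨c, h, g⟩ | ⟨h, c, g⟩⟩ := cases bt ss hφ hl hp x hI hc
  · obtain ⟨q0, h3, h4, t, -⟩ := d.ty_field (n := n) (q := q) bt hφ.1 g h
    have t := t T
    refine d.gc_field ss hφ g h un t.jd (by omega) hp.two_le h3 h4 (num_LU h3 hp.two_le (by omega) g0 ?_ (by rwa [← h4, T.c0]))
    have := d.card_le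
    have := t.iso
    rw [← t.L]
    omega
  have h3 := d.card_le
  rcases (d.ty_graph (n := n) bt g h T.c0).2 T with t | ⟨t, h4, h5⟩
  · have := t.even
    exact d.gc_graph ss hφ g h un t.jd hn hq T.c0 (num_gSp hq (by grind) g0 (by have := t.iso; rw [← t.L]; omega) h1)
  have h6 := t.iso (by omega)
  rw [t.L] at h6
  rcases n.even_or_odd with h7 | h7
  · obtain ⟨m, rfl⟩ := even_iff_exists_two_mul.1 h7
    have h8 : 3 ≤ q := by grind
    exact d.gc_tor g (t.tor h7 (by grind)) hq (num_gO2 h8 h4 (by omega) g0 g1 (h5.trans h6) (h2 h8))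
  · exact d.gc_graph ss hφ g h un (t.jd h7).2 hn hq T.c0 (num_gO1 hq hn g0 (by omega) h1)

theorem gc_Sp (T : TySp F n q) (un : Uni F) (o : q ^ (n + 1).choose 2 ≤ 3 * Nat.card F.S) (hn : 5 ≤ n) : GC F φ := by
  obtain ⟨A0, _, _, _, F0, ι, d, ⟨c, h, g⟩ | ⟨h, c, g⟩⟩ := cases bt ss hφ hl hp x hI hc
  · obtain ⟨q0, h3, h4, -, t, -⟩ := d.ty_field (n := n) (q := q) bt hφ.1 g h
    have t := t T
    refine d.gc_field ss hφ g h un t.jd (by omega) hp.two_le h3 h4 (num_Sp h3 hp.two_le hn ?_ (by rwa [← h4, T.c0]))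
    have := d.card_le
    have := t.iso
    rw [← t.L]
    omega
  · exact absurd T.cen (d.ty_graph (n := n) bt g h T.c0).1

theorem gc_O (T : TyO F n q) (un : Odd n → Uni F) (o : 5 * q ^ n.choose 2 ≤ 32 * Nat.card F.S)
    (o' : Even q → 5 * q ^ n.choose 2 ≤ 8 * Nat.card F.S) (hn : 7 ≤ n) : GC F φ := by
  obtain ⟨A0, _, _, _, F0, ι, d, ⟨c, h, g⟩ | ⟨h, c, g⟩⟩ := cases bt ss hφ hl hp x hI hc
  swap
  · exact absurd T.cen (d.ty_graph (n := n) bt g h T.c0).1
  obtain ⟨q0, h3, h4, -, -, t⟩ := d.ty_field (n := n) (q := q) bt hφ.1 g h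
  replace t := t T
  have h5 : Nat.card (CS F φ) ≤ 4 * q0 ^ n.choose 2 := by
    have := d.card_le
    have := t.iso (by omega)
    rw [← t.L]
    omega
  have h6 := T.c0.symm.trans h4
  subst h6
  rcases n.even_or_odd with h7 | h7
  · obtain ⟨m, rfl⟩ := even_iff_exists_two_mul.1 h7
    refine d.gc_tor g (t.tor h7 (by omega)) h3 ?_
    rcases q0.even_or_odd with h8 | h8
    · exact num_O2 h3 hp.two_le (by omega) (by norm_num) (Nat.pow_le_pow_left h3 4) h5 (o' (h8.pow_of_ne_zero g.pos.ne'))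
    · exact num_O2 h3 hp.two_le (by omega) (by norm_num)
        (le_trans (by norm_num) (Nat.pow_le_pow_left (show 3 ≤ q0 by grind) 4)) h5 o
  · have h8 := (t.jd h7).1
    exact d.gc_field ss hφ g h (un h7) (t.jd h7).2 (by omega) hp.two_le h3 h4 (num_O1 (by grind) hp.two_le hn h5 o)

omit ss hφ hl hp x hI hc in
/-- **centralisers of field, graph and graph-field automorphisms** -/
theorem cen_of : On fun A _ _ F H _ => Irr H ∧ ∃ φ ∈ F.Aut, φ ∉ Lin A ∧ (orderOf φ).Prime ∧ ∀ γ ∈ H, γ * φ = φ * γ where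
  l := fun K _ _ n F _ _ k hn x ⟨hI, _, h1, h2, h3, h4⟩ => (gc_LU bt x.ss h1 h2 h3 x hI h4 (bt.l K n F (by omega)) (uni_L k)
    (ord_L k) hn (two_le_q K)).gd x h4
  u := fun K V _ _ _ _ _ h F q _ _ k hn x ⟨hI, _, h1, h2, h3, h4⟩ => (gc_LU bt x.ss h1 h2 h3 x hI h4
    (bt.u K V h F q k.u k.card (by omega)) (uni_U k) (ord_U k) hn (two_le_U k)).gd x h4
  sp := fun K V _ _ _ _ _ h F _ _ _ k hn x ⟨hI, _, h1, h2, h3, h4⟩ => (gc_Sp bt x.ss h1 h2 h3 x hI h4
    (bt.sp K V h F k.sp (by have := k.dim; omega)) (uni_Sp k) (ord_Sp k) (by have := k.dim; omega)).gd x h4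
  o := fun K V _ _ _ _ _ h F Q _ _ k x ⟨hI, _, h1, h2, h3, h4⟩ => (gc_O bt x.ss h1 h2 h3 x hI h4
    (bt.o K V h F Q k.o (by have := k.dim; omega)) (uni_O k) (ord_O k).1 (ord_O k).2 k.dim).gd x h4

omit ss hφ hl hp x hI hc in
theorem sub_of : On pSub :=
  ⟨fun K _ _ n F H p k hn x h => (cen_of bt).l K n F H p k hn x ⟨h.1.1.1.1, h.2⟩,
    fun K V _ _ _ _ _ f F q H p k hn x h => (cen_of bt).u K V f F q H p k hn x ⟨h.1.1.1.1, h.2⟩,
    fun K V _ _ _ _ _ f F q H p k hn x h => (cen_of bt).sp K V f F q H p k hn x ⟨h.1.1.1.1, h.2⟩,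
    fun K V _ _ _ _ _ f F q H p k x h => (cen_of bt).o K V f F q H p k x ⟨h.1.1.1.1, h.2⟩⟩

end Cfsg.Agent.N2C.Sub
end

-- part: N2/Cl/Sub/Main
section
/-!
# N2 classical, classes C5 and C8 (helper89): `boxTy`, `N2C.sub`
-/

set_option autoImplicit false
set_option linter.unusedSectionVars false
set_option maxHeartbeats 400000

namespace Cfsg.Agent.N2C.Sub

open Cfsg Cfsg.Agent.DS.Cl Cfsg.Agent.DS.Cl.Fwd Module
open Cfsg.Agent.SB.Cl (IsU IsSp IsO)
open Cfsg.Agent.N2C.Cyc (I0 two_le_q nontrivial_of_dim two_ne_of_odd nondeg_of_O sc_star)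
open Cfsg.Agent.N2C.Size

section ring

variable {A B : Type} [Ring A] [StarRing A] [Ring B] [StarRing B]

theorem card_C0_sq {θ : A} (h : θ ∈ Subring.center A) (hu : IsUnit (θ - star θ)) :
    Nat.card (C0 A) ^ 2 = Nat.card (Subring.center A) := by
  obtain ⟨δ, hδ⟩ := hu.exists_left_inv
  obtain ⟨v, hv⟩ := hu
  have h1 : δ ∈ Subring.center A := by
    rw [show δ = (v⁻¹ : Aˣ) from Units.eq_inv_of_mul_eq_one_right (hv ▸ hδ)]
    exact inv_cen (hv ▸ sub_mem h (star_cen h))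
  have h2 : star δ = -δ := by
    have h2 := congrArg star hδ
    rw [star_mul, star_sub, star_star, star_one, ← neg_sub, neg_mul] at h2
    rw [← one_mul (star δ), ← hδ, mul_assoc, ← neg_eq_iff_eq_neg, ← mul_neg, h2, mul_one]
  rw [pow_two, ← Nat.card_prod]
  refine Nat.card_eq_of_bijective (fun z => ⟨z.1 + θ * z.2, add_mem z.1.2.1 (mul_mem h z.2.2.1)⟩) ⟨fun z w k => ?_, fun z => ?_⟩
  · have h3 : (z.1 : A) + θ * z.2 = w.1 + θ * w.2 := congrArg Subtype.val k
    have h4 := congrArg star h3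
    rw [star_add, star_add, star_mul, star_mul, z.1.2.2, z.2.2.2, w.1.2.2, w.2.2.2, cen_comm (star_cen h),
      cen_comm (star_cen h)] at h4
    have h5 : (z.2 : A) = w.2 := by
      rw [← one_mul (z.2 : A), ← one_mul (w.2 : A), ← hδ, mul_assoc, mul_assoc, sub_mul, sub_mul,
        ← add_sub_add_left_eq_sub _ _ (z.1 : A), h3, h4, add_sub_add_left_eq_sub]
    exact Prod.ext (Subtype.ext (by rwa [h5, add_left_inj] at h3)) (Subtype.ext h5)
  · have h3 := mul_mem h1 (sub_mem z.2 (star_cen z.2))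
    have h4 : star (δ * (z - star (z : A))) = δ * (z - star (z : A)) := by
      rw [star_mul, h2, star_sub, star_star, cen_comm (neg_mem h1), neg_mul, ← mul_neg, neg_sub]
    refine ⟨(⟨z - θ * (δ * (z - star (z : A))), sub_mem z.2 (mul_mem h h3), ?_⟩, ⟨_, h3, h4⟩), Subtype.ext (sub_add_cancel _ _)⟩
    rw [star_sub, star_mul, h4, cen_comm (star_cen h), sub_eq_sub_iff_sub_eq_sub, ← sub_mul, ← mul_assoc, cen_comm h1,
      ← neg_sub θ, mul_neg, hδ, neg_one_mul, neg_sub]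

theorem card_C0_eq (h : ∀ z ∈ Subring.center A, star z = z) : Nat.card (C0 A) = Nat.card (Subring.center A) :=
  Nat.card_congr (Equiv.subtypeEquivRight fun z => ⟨fun k => k.1, fun k => ⟨k, h z k⟩⟩)

variable {F : FR A} {e : A ≃+* B} (he : SI e) {n q : ℕ}

omit [StarRing A] [StarRing B] in
theorem card_cen_map (e : A ≃+* B) : Nat.card (Subring.center A) = Nat.card (Subring.center B) :=
  Nat.card_congr (e.toEquiv.subtypeEquiv fun _ => (mem_center_map e).symm)

include he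

theorem card_C0_map : Nat.card (C0 A) = Nat.card (C0 B) :=
  Nat.card_congr (e.toEquiv.subtypeEquiv fun x => and_congr (mem_center_map e).symm (by
    change _ ↔ star (e x) = e x
    rw [← he, e.injective.eq_iff]))

theorem jd_back (j : ∃ u ∈ (fm F he).Iso, Jd (u : B) n) : ∃ u ∈ F.Iso, Jd (u : A) n := by
  obtain ⟨v, hv, j⟩ := j
  obtain ⟨u, rfl⟩ := (Units.mapEquiv e.toMulEquiv).surjective v
  exact ⟨u, (mem_fm_Iso he).1 hv, e.symm_apply_apply u ▸ j.map e.symm⟩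

theorem TyLU.back (t : TyLU (fm F he) n q) : TyLU F n q :=
  ⟨(card_C0_map he).trans t.c0, (card_cen_map e).trans t.cen, (Nat.card_congr e.toEquiv).trans t.all,
    (card_fm_L he).symm.trans t.L, card_fm_L he ▸ card_fm_Iso he ▸ t.iso, jd_back he t.jd⟩

theorem TySp.back (t : TySp (fm F he) n q) : TySp F n q :=
  ⟨(card_C0_map he).trans t.c0, (card_cen_map e).trans t.cen, (Nat.card_congr e.toEquiv).trans t.all,
    (card_fm_L he).symm.trans t.L, card_fm_L he ▸ card_fm_Iso he ▸ t.iso, t.even, jd_back he t.jd⟩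

theorem TyO.back (t : TyO (fm F he) n q) : TyO F n q :=
  ⟨(card_C0_map he).trans t.c0, (card_cen_map e).trans t.cen, (Nat.card_congr e.toEquiv).trans t.all,
    (card_fm_L he).symm.trans t.L, AddSubgroup.ext fun x => by rw [← mem_fm_L he, t.min, he.mem_Lmin],
    card_fm_L he ▸ card_fm_Iso he ▸ t.iso, fun h => ⟨(t.jd h).1, jd_back he (t.jd h).2⟩, fun h h' => by
      obtain ⟨v, hv, j⟩ := t.tor h h'
      rw [I0, ← map_Iso, ← Subgroup.map_commutator] at hv
      obtain ⟨u, hu, rfl⟩ := hv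
      exact ⟨u, hu, e.symm_apply_apply u ▸ j.map he.symm⟩⟩

end ring

variable {K V : Type} [Field K] [Fintype K] [AddCommGroup V] [Module K V] [Finite V]

theorem card_cen_end [Nontrivial V] : Nat.card (Subring.center (End K V)) = Fintype.card K := by
  rw [← Nat.card_eq_fintype_card]
  refine (Nat.card_eq_of_bijective (fun c : K => (⟨_, P5.cen_smul (RingEquiv.refl _) c⟩ : Subring.center (End K V)))
    ⟨fun c d h => H277.FC.smul_one_inj (congrArg Subtype.val h), fun z => ?_⟩).symm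
  exact (P5.exists_smul (RingEquiv.refl _) z.2).imp fun c hc => Subtype.ext hc.symm

theorem tyL {n : ℕ} (F : FR (LR (Fin n) K)) (hn : 0 < n) : TyLU F n (Fintype.card K) := by
  have : Nontrivial (Fin n → K) := nontrivial_of_dim (K := K) (by rwa [finrank_fin_fun])
  have h1 : Nat.card (Subring.center (LR (Fin n) K)) = Fintype.card K ^ 2 := by
    rw [pow_two, ← card_cen_end (V := Fin n → K), ← card_cen_map (Matrix.toLinAlgEquiv' (n := Fin n) (R := K)).toRingEquiv,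
      ← Nat.card_prod]
    exact Nat.card_congr ((Equiv.subtypeEquivRight fun _ => cen_prod).trans Equiv.subtypeProdEquivProd)
  have h2 := SB.Tor.eps_LR (n := n) (K := K)
  refine ⟨sq_inj ((card_C0_sq h2.cen (IsUnit.of_mul_eq_one (LR.mk 1 0 - star (LR.mk 1 0)) ?_)).trans h1), h1, card_LR,
    card_L_LR F, by have := iso_le_LR F; omega, jdL F hn⟩
  rw [sub_mul, mul_sub, mul_sub, h2.idem, h2.ms, h2.sm, h2.st.idem, sub_zero, zero_sub, sub_neg_eq_add, h2.add]

variable {h : HF K V} {F : FR h.EB}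

theorem tyU (hU : IsU h) (F : FR h.EB) {q : ℕ} (hq : Fintype.card K = q ^ 2) (h0 : 0 < finrank K V) :
    TyLU F (finrank K V) q := by
  have := nontrivial_of_dim h0
  have h1 : Nat.card (Subring.center h.EB) = q ^ 2 := card_cen_end.trans hq
  obtain ⟨c, hc⟩ := hU.2
  refine ⟨sq_inj ((card_C0_sq (h.smul_mem_center c) (by rw [sc_star]; exact Cyc.sc_unit hc.symm)).trans h1), h1,
    by rw [card_EB, hq, ← pow_mul], card_L_U hU hq, ?_, jdU hU F h0⟩
  have h2 := iso_le_U (F := F) hU hq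
  obtain ⟨q', h3, h4⟩ := exists_q hU
  obtain rfl := sq_inj (h4.symm.trans hq)
  nlinarith only [h3, h2]

theorem c0_bil (hτ : ∀ c, h.τ c = c) [Nontrivial V] : Nat.card (C0 h.EB) = Fintype.card K :=
  (card_C0_eq fun z hz => by
    obtain ⟨c, rfl⟩ := P5.exists_smul (RingEquiv.refl (End K V)) hz
    exact (sc_star c).trans (by rw [hτ]; rfl)).trans card_cen_end

theorem tySp (hS : IsSp h F) (h0 : 0 < finrank K V) : TySp F (finrank K V) (Fintype.card K) :=
  have := nontrivial_of_dim h0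
  ⟨c0_bil hS.1, card_cen_end, card_EB h, card_L_Sp hS, iso_le_Sp hS, even_Sp hS, jdSp hS h0⟩

theorem tyO {Q : QuadraticForm K V} (o : IsO h F Q) (h0 : 0 < finrank K V) : TyO F (finrank K V) (Fintype.card K) :=
  have := nontrivial_of_dim h0
  ⟨c0_bil o.1, card_cen_end, card_EB h, card_L_O o, o.2.2.1, iso_le_O o h0, fun ho => ⟨Nat.odd_iff.2
    (FiniteField.odd_card_of_char_ne_two fun k => two_ne_of_odd (nondeg_of_O o) ho (by
      exact_mod_cast (ringChar.spec K 2).2 k.dvd)), jdO o ho⟩, torO o⟩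

theorem boxTy : BoxTy where
  l _ _ _ _ := tyL
  u _ _ _ _ _ _ _ _ F _ hU := tyU hU F
  sp _ _ _ _ _ _ _ _ _ := tySp
  o _ _ _ _ _ _ _ _ _ _ := tyO
  all A _ _ _ F ss := by
    rcases exists_kind ss F with ⟨K, _, _, n, e, hn, he⟩ | ⟨K, _, _, n, h, e, he, hn, k⟩
    · exact ⟨n, _, hn, two_le_q K, Or.inl ((tyL _ hn).back he)⟩
    rw [← finrank_fin_fun (n := n) K] at hn
    rcases k with ⟨k, -⟩ | k | ⟨Q, k⟩
    · obtain ⟨q, h1, h2⟩ := exists_q k
      exact ⟨_, q, hn, h1, Or.inl ((tyU k _ h2 hn).back he)⟩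
    · exact ⟨_, _, hn, two_le_q K, Or.inr (Or.inl ((tySp k hn).back he))⟩
    · exact ⟨_, _, hn, two_le_q K, Or.inr (Or.inr ((tyO k hn).back he))⟩

end Cfsg.Agent.N2C.Sub

/-- **[Sub]** -/
theorem Cfsg.Agent.N2C.sub : Cfsg.Agent.N2C.On Cfsg.Agent.N2C.pSub := Cfsg.Agent.N2C.Sub.sub_of Cfsg.Agent.N2C.Sub.boxTy
end

private theorem dce_0d8bd81bdb10 : _root_.True := by
  try have : _root_.True := by simp only [_root_.Cfsg.Agent.N2C.Sub.nu.eq_1]
  try have : _root_.True := by simp only [_root_.Cfsg.Agent.N2C.Sub.tw.congr_simp]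
  try have : _root_.True := by simp only [_root_.Cfsg.Agent.N2C.Sub.lv.eq_1]
  try have : _root_.True := by simp only [_root_.Cfsg.Agent.N2C.Sub.rs.congr_simp]
  try have : _root_.True := by simp only [_root_.Cfsg.Agent.N2C.Cyc.Cn.mk.congr_simp]
  try have : _root_.True := by simp only [_root_.Cfsg.Agent.N2C.Gd.eq_1]
  try have : _root_.True := by simp only [_root_.Cfsg.Agent.N2C.Cyc.Cn.sg.congr_simp]
  try have : _root_.True := by simp only [_root_.Cfsg.Agent.N2C.Cyc.I0.eq_1]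
  exact _root_.True.intro
end

-- part: N2/D4m/FldS
section
set_option linter.all false
open scoped Cfsg.Agent.FastGrp

/-!
# N2 (S3519), `PSp₄(q)`, `q ≥ 4`: the class `pFld` (helper47)
-/

set_option autoImplicit false
set_option linter.unusedSectionVars false

namespace Cfsg.Agent.N2C.N4

open Cfsg.Agent.DS.Cl Cfsg.Agent.DS.Cl.Fwd Cfsg.Agent.SB.Cl Module
open Cfsg.Agent.TH.Cl (KSp)
open Cfsg.Agent.TH.Cl.FSO (FE SO)
open Cfsg.Agent.N2C.Fld (TR Pair Dat red)
open Cfsg.Agent.N2C.FldSp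

namespace FldS

theorem num2 {q i c : ℕ} (hq : 4 ≤ q) (hi : 2 * i ≤ 2) (c0 : 0 < c) (hc : c ≤ q ^ i + 1) : ¬ q ^ 2 - 1 ∣ 2 * c := fun h => by
  have h1 := Nat.le_of_dvd (by omega) h
  have h2 : q ^ i ≤ q ^ 1 := Nat.pow_le_pow_right (by omega) (by omega)
  have h3 : 4 * q ≤ q * q := Nat.mul_le_mul_right _ hq
  rw [pow_one] at h2
  rw [pow_two] at h1
  omega

theorem gen2 {K L : Type} [Field K] [Fintype K] [Field L] [Finite L] [Algebra K L] (hq : 4 ≤ Fintype.card K)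
    (hk : finrank K L = 2) : ∃ g : L, g ≠ 0 ∧ Algebra.adjoin K {((g, g⁻¹) : L × L) ^ 2} = ⊤ := by
  obtain ⟨g, g0, hg⟩ := exists_gen (K := K) (L := L)
  rw [hk] at hg
  refine ⟨g, g0, ?_⟩
  rw [Prod.pow_mk, inv_pow]
  refine adjoin_pair (eq_one_of (pow_ne_zero 2 g0) fun i i0 hi e => ?_) fun θ e => ?_
  · rw [← pow_mul, hg] at e
    exact num2 hq (hk ▸ hi) (Nat.sub_pos_of_lt (Nat.one_lt_pow i0.ne' (by omega))) (by omega) e
  have h1 : ∀ θ : L ≃ₐ[K] L, θ (g ^ 2) = (g ^ 2)⁻¹ → ∀ i, 2 * i ≤ finrank K L →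
      (∀ x, θ x = x ^ Fintype.card K ^ i) → False := fun θ e i hi h1 =>
    num2 hq (hk ▸ hi) (Nat.succ_pos _) le_rfl ((hg _).1 (by
      rw [pow_mul, pow_succ, ← h1, e, inv_mul_cancel₀ (pow_ne_zero 2 g0)]))
  obtain ⟨i, hi, h2 | h2⟩ := gal_half θ
  · exact h1 θ e i hi h2
  · exact h1 θ⁻¹ (θ.symm_apply_eq.2 (by rw [map_inv₀, e, inv_inv])) i hi h2

variable {K V : Type} [Field K] [Fintype K] [AddCommGroup V] [Module K V] [Finite V] {h : HF K V} {F : FR h.EB}
  (o : KSp h F 2) (hq : 4 ≤ Fintype.card K)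
include o hq

theorem ex_u {L : Type} [Field L] [Finite L] [Algebra K L] (m : MC h (L × L)) (hρ : ∀ x y, m.ρ (x, y) = (y, x))
    (hL : 2 * finrank K L = finrank K V) : ∃ u ∈ (⁅F.Iso, F.Iso⁆ : Subgroup h.EBˣ), (∀ y, m.j y * u = u * m.j y) ∧
      ∀ x, (u : h.EB) ^ 2 * x = x * (u : h.EB) ^ 2 → x ∈ m.j.range := by
  obtain ⟨g, g0, hg⟩ := gen2 (L := L) hq (by have := o.dim; omega)
  exact exists_u o m (by rw [hρ, Prod.mk_mul_mk, mul_inv_cancel₀ g0, inv_mul_cancel₀ g0]; rfl) hg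

variable [Nontrivial V] {H : Subgroup (RingAut h.EB)} {p : ℕ} (c : Ctx F H p)
include c

theorem pair {ε : h.EB} (P : Pair F H ε) : Gd F H := by
  obtain ⟨L, _, _, _, _, _, m, h1, h2, h3⟩ := exists_split (E := K) o.sp.1 P.idem P.add (map_smul (h.ap ε))
  obtain ⟨u, hu, h4, h5⟩ := ex_u o hq m h2 h1
  have h6 : m.j (1, 0) = ε := h.ap_ext fun v => by simpa using h3 1 v
  exact P.gd c hu (h6 ▸ (h4 _).symm) (m.tr_split h2) h5

theorem fld {E : Type} [Field E] [Fintype E] [DecidableEq E] [Algebra K E] [Module E V] [IsScalarTower K E V] {f : FE h E}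
    {l : h.EB} (d : Dat f F H l) : Gd F H := by
  have s := TH.Cl.FSO.KSp.so o
  have b1 := finrank_mul_finrank K E V
  rw [o.dim] at b1
  have b2 : finrank K E = 2 :=
    (Nat.prime_dvd_prime_iff_eq d.prime Nat.prime_two).1 ((d.prime.dvd_mul.1 (Dvd.intro _ b1)).elim id id)
  obtain ⟨ε, h1, h2, h3⟩ : ∃ ε : h.EB, ε * ε = ε ∧ ε + star ε = 1 ∧ ∀ (z : E) v, h.ap ε (z • v) = z • h.ap ε v := by
    rcases d.kind with ⟨-, θ, hθ⟩ | hσ
    · exact eps_herm f s (fun e => hθ (by rw [e]; rfl)) (m := 1) (by rw [b2] at b1; omega)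
    · exact eps_alt f hσ fun x => by rw [f.β_self s d.mem d.L, hσ, map_neg, map_one]; ring
  obtain ⟨L, _, _, _, _, _, m, a1, a2, a3⟩ := exists_split o.sp.1 h1 h2 h3
  obtain ⟨u, hu, a4, a5⟩ := ex_u o hq m a2 a1
  have a6 : ∀ z, m.j (algebraMap E L z, 0) = f.ι z * ε := fun z => h.ap_ext fun v => by rw [a3, h.ap_mul, f.ap_ι]
  have a7 : ∀ z, f.ι z * ε = ε * f.ι z := fun z => h.ap_ext fun v => by rw [h.ap_mul, h.ap_mul, f.ap_ι, f.ap_ι, h3]
  refine d.gd s c hu (f.mem_C.2 fun z => ?_) (m.tr_split a2) (b2 ▸ a5)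
  have a8 : f.ι z = m.j ((algebraMap E L z, 0) + m.ρ (algebraMap E L (f.σ z), 0)) := by
    rw [map_add, ← m.star_j, a6, a6, a7 (f.σ z), star_mul, f.star_ι, f.σ_σ, ← mul_add, h2, mul_one]
  rw [a8, a4]

end FldS

/-- **[N4-Fld]**, symplectic groups -/
theorem fldS : AtS pFld := fun K V _ _ _ _ _ h F H p o hq c hF => by
  have : Nontrivial V := Module.nontrivial_of_finrank_pos (R := K) (by rw [o.dim]; omega)
  rcases red (TH.Cl.FSO.KSp.so o) c hF with ⟨ε, P⟩ | ⟨E, _, _, _, _, _, _, f, l, d⟩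
  · exact FldS.pair o hq c P
  · exact FldS.fld o hq c d

end Cfsg.Agent.N2C.N4
end

-- part: N2/D4m/CenS
section
set_option linter.all false
open scoped Cfsg.Agent.FastGrp

/-!
# N2, dimension four: the subfield subgroups of `PSp₄(q)` (helper47)

`cenS0 : BoxCenS`, `cenS : AtS pCen`.
-/

set_option autoImplicit false
set_option linter.unusedSectionVars false

namespace Cfsg.Agent.N2C.N4

open Cfsg Cfsg.Agent.DS.Cl Cfsg.Agent.DS.Cl.Fwd Module
open Cfsg.Agent.N2C.Sub Cfsg.Agent.N2C.Size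
open Cfsg.Agent.N2C.Cyc (two_le_q nontrivial_of_dim sc_star card_S_Sp)
open Cfsg.Agent.TH.Cl (KSp)

namespace CenS

/-- the exact order of the isometry group of a symplectic form ring -/
theorem card_iso {A : Type} [Ring A] [StarRing A] [Finite A] (ss : SS A) {F : FR A} {m q : ℕ} (hq : 2 ≤ q)
    (t : TySp F (2 * m) q) : Nat.card F.Iso = oS m q := by
  have k := fun {a b} => Nat.pow_right_injective hq (a₁ := a) (a₂ := b)
  have h1 : ∀ {n q'}, ¬ TyLU F n q' := fun T => by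
    have h1 := T.cen
    rw [t.cen, ← T.c0, t.c0] at h1
    exact absurd (k ((pow_one _).trans h1)) (by omega)
  rcases exists_kind ss F with ⟨K, _, _, n, e, hn, he⟩ | ⟨K, _, _, n, h, e, he, hn, g⟩
  · exact (h1 ((tyL _ hn).back he)).elim
  rw [← finrank_fin_fun (n := n) K] at hn
  rcases g with ⟨g, -⟩ | g | ⟨Q, g⟩
  · obtain ⟨q, -, h2⟩ := exists_q g
    exact (h1 ((tyU g _ h2 hn).back he)).elim
  · have T := (tySp g hn).back he
    obtain rfl : Fintype.card K = q := T.c0.symm.trans t.c0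
    obtain ⟨m', h2, h3⟩ := card_Iso_Sp g
    rw [← card_fm_Iso he, h3, show m' = m by have := sq_inj (k (T.all.symm.trans t.all)); omega]
  · have T := (tyO g hn).back he
    obtain rfl : Fintype.card K = q := T.c0.symm.trans t.c0
    have h2 := sq_inj (k (T.all.symm.trans t.all))
    exact absurd (k (t.L.symm.trans T.L)) (by rw [← h2]; exact ch_ne hn)

theorem num {q ρ : ℕ} (hρ : 2 ≤ ρ) : (ρ ^ 3) ^ 3 * (2 * oS 2 q) ≤ oS 2 (q * ρ) := by
  have h1 : ∀ i, ρ ^ i * (q ^ i - 1) ≤ (q * ρ) ^ i - 1 := fun i => by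
    rw [mul_pow, mul_comm (q ^ i), Nat.mul_sub_one]
    exact Nat.sub_le_sub_left (Nat.one_le_pow _ _ (by omega)) _
  simp only [oS, Finset.prod_range_succ, Finset.prod_range_zero, one_mul]
  refine le_trans ?_ (Nat.mul_le_mul_left _ (Nat.mul_le_mul (h1 _) (h1 _)))
  generalize q ^ (2 * (0 + 1)) - 1 = a
  generalize q ^ (2 * (1 + 1)) - 1 = b
  calc _ = 2 * (ρ ^ 9 * q ^ 4 * a * b) := by ring
    _ ≤ ρ * (ρ ^ 9 * q ^ 4 * a * b) := Nat.mul_le_mul_right _ hρ
    _ = _ := by ring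

variable {K V : Type} [Field K] [Fintype K] [AddCommGroup V] [Module K V] [Finite V] {h : HF K V} {F : FR h.EB}

theorem gc (k : KSp h F 2) {φ : RingAut h.EB} (hφ : φ ∈ F.Aut) (hl : φ ∉ Lin h.EB) (hp : (orderOf φ).Prime) : GC F φ := by
  have h0 : 0 < finrank K V := by have := k.dim; omega
  have := nontrivial_of_dim h0
  have T := tySp k.sp h0
  rw [k.dim] at T
  rcases exists_gal h.ss hφ.1 hl hp with ⟨c, hc, g⟩ | ⟨h1, -⟩
  swap
  · refine (hl fun z hz => (h1 z hz).trans ?_).elim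
    obtain ⟨c, rfl⟩ := P5.exists_smul (RingEquiv.refl (End K V)) hz
    exact (sc_star c).trans (by rw [k.sp.1]; rfl)
  obtain ⟨A0, _, _, _, F0, ι, d⟩ := dn_field h.ss hφ g hc
  obtain ⟨q0, h3, h4, -, t, -⟩ := d.ty_field (n := 2 * 2) (q := Fintype.card K) boxTy hφ.1 g hc
  replace t := t T
  refine d.gc_field h.ss hφ g hc (uni_Sp k) t.jd (by omega) hp.two_le h3 h4 ?_
  have h5 : Nat.gcd 2 (Fintype.card K - 1) ≤ Nat.card (UC A0) := by
    by_cases h5 : (1 : A0) + 1 = 0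
    · have h6 : (1 : h.EB) + 1 = 0 := by simpa only [map_add, map_one, map_zero] using congrArg ι h5
      have h7 : (2 : K) = 0 := by
        refine (algebraMap K (End K V)).injective ?_
        rw [← one_add_one_eq_two, map_add, map_one, map_zero]
        exact h6
      have h8 : Fintype.card K % 2 = 0 := FiniteField.even_card_of_char_two (ringChar.eq_iff.2 ?_)
      · have := two_le_q K
        rw [(Nat.coprime_two_left.2 (Nat.odd_iff.2 (by omega)) : Nat.gcd 2 _ = 1)]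
        exact Nat.card_pos
      · exact CharTwo.of_one_ne_zero_of_two_eq_zero one_ne_zero h7
    · have : Nontrivial (UC A0) := ⟨⟨1, ⟨-1, neg_mem (one_mem _), by simp⟩, fun h6 =>
        h5 (eq_neg_iff_add_eq_zero.1 (congrArg (fun z => (z.1 : A0)) h6))⟩⟩
      exact (Nat.gcd_le_left _ two_pos).trans Finite.one_lt_card
  have h6 := (Nat.mul_le_mul_left _ h5).trans d.card
  have h7 : Fintype.card K = q0 * q0 ^ (orderOf φ - 1) := by
    rw [← pow_succ', Nat.sub_add_cancel hp.pos, ← h4, T.c0]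
  have h8 := num (q := q0) (h3.trans (le_rho hp.two_le))
  rw [card_iso d.ss h3 t] at h6
  rw [← h7, show oS 2 (Fintype.card K) = _ from (card_S_Sp k).symm] at h8
  refine Nat.le_of_mul_le_mul_left (le_trans ?_ ((Nat.mul_le_mul_left _ h6).trans h8))
    (Nat.gcd_pos_of_pos_left _ two_pos)
  exact (mul_left_comm _ _ _).trans_le (Nat.mul_le_mul_left _ (mul_comm _ _).le)

end CenS

/-- **[CenS]** -/
theorem cenS0 : BoxCenS := fun _ _ _ _ _ _ _ _ _ k _ _ _ _ _ h1 h2 h3 => (CenS.gc k h1 h2 h3).good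

theorem cenS : AtS pCen := fun _ _ _ _ _ _ _ _ _ _ _ k _ c ⟨_, _, h1, h2, h3, h4⟩ => (CenS.gc k h1 h2 h3).gd c h4

end Cfsg.Agent.N2C.N4
end
end
end
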